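import Groth.Agent.Sga3B.Parab.Uncond688
import Groth.Agent.Sga3B.Parab.OppFin151
import Groth.Agent.Sga3B.Parab.K3b143
import Groth.Agent.Sga3B.Parab.DynGeom678
import Groth.Agent.S2997
import Groth.Agent.S2999

/-!
# Opposite parabolic subgroups over an affine base
-/

set_option autoImplicit false

universe u

open CategoryTheory MonoidalCategory CartesianMonoidalCategory MonObj GrpObj AlgebraicGeometry Limits
open Groth.Agent
open Groth.Agent.Sga3B Groth.Agent.Sga3B.Parab

namespace K546.Opp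

theorem pcU : RadExist147.PcU.{u} := OppFin151.pcU_of Uncond688.dynK1 K3b143.dynK3

theorem pcL : OppMain151.PcL.{u} := OppFin151.pcL_of K3b143.dynK3 Uncond688.radPcP

variable {S : Scheme.{u}} {G P Q L U : Over S} [GrpObj G] [GrpObj P] [GrpObj Q] [GrpObj L]
  [GrpObj U]

/-- If `L = P ∩ Q` is a Levi subgroup of `P` then it is one of `Q`. -/
theorem isLevi_snd (hG : Red.IsReductive G) {p : P ⟶ G} {q : Q ⟶ G} (hp : Red.IsParabolic p)
    (hq : Red.IsParabolic q) {u : U ⟶ P} (hU : Par.IsUnipotentRadical u) {l : L ⟶ P} {m : L ⟶ Q}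
    (hL : IsPullback l m p q) (hl : Par.IsLevi l) (hm : IsMonHom m) : Par.IsLevi m :=
  OppMain151.isLevi_snd pcL pcU Uncond688.radPcP (OppFin151.parConn_of Uncond688.dynK2) hG hp hq hU hL hl hm

/-- The unipotent radical of a parabolic subgroup. -/
theorem exists_rad (hG : Red.IsReductive G) {p : P ⟶ G} (hp : Red.IsParabolic p) :
    ∃ (U : Over S) (_ : GrpObj U) (u : U ⟶ P), Par.IsUnipotentRadical u := by
  obtain ⟨U, gU, u, hu, -⟩ := RadExist147.exists_rad pcU Uncond688.radPcP hG hp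
  exact ⟨U, gU, u, hu⟩

/-- **Opposite parabolic subgroups exist over an affine base.** -/
theorem exists_opposite {A : Type u} [CommRing A] {G P : Over (Spec (CommRingCat.of A))} [GrpObj G]
    [GrpObj P] (hG : Red.IsReductive G) {p : P ⟶ G} (hp : Red.IsParabolic p) :
    ∃ (L P' U U' : Over (Spec (CommRingCat.of A))) (_ : GrpObj L) (_ : GrpObj P') (_ : GrpObj U)
      (_ : GrpObj U') (l : L ⟶ P) (p' : P' ⟶ G) (l' : L ⟶ P') (u : U ⟶ P) (u' : U' ⟶ P'),
      IsMonHom l ∧ IsMonHom l' ∧ Red.IsParabolic p' ∧ IsPullback l l' p p' ∧ Par.IsLevi l ∧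
        Par.IsLevi l' ∧ Par.IsUnipotentRadical u ∧ Par.IsUnipotentRadical u' := by
  obtain ⟨L, gL, l, hl⟩ := S2997.result G P hG p hp
  obtain ⟨P', gP', p', l', hp', hL⟩ := (S2999.result G P L hG p hp l hl).1
  obtain ⟨U, gU, u, hu⟩ := exists_rad hG hp
  obtain ⟨U', gU', u', hu'⟩ := exists_rad hG hp'
  have h1 : IsMonHom l := hl.1
  have h2 : IsMonHom p := hp.1
  have h3 : IsMonHom p' := hp'.1
  have h4 : Mono p' := by
    have := hp'.2.1
    exact Over.mono_of_mono_left p'
  have h5 : IsMonHom l' := by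
    have : IsMonHom (l' ≫ p') := by
      rw [← hL.w]
      infer_instance
    exact OppS172.isMonHom_of_comp l' p' this
  exact ⟨L, P', U, U', gL, gP', gU, gU', l, p', l', u, u', h1, h5, hp', hL, hl,
    isLevi_snd hG hp hp' hu hL hl h5, hu, hu'⟩

end K546.Opp
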