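import Groth.Agent.Sga3B.Parab.Uncond688
import Groth.Agent.Sga3B.Parab.FibIsoSch
import Groth.Agent.Sga3B.Parab.IrrFib
import Groth.Agent.Sga3B.DimFib
import Groth.Agent.Fga.DimLt
import Mathlib.RingTheory.KrullDimension.Polynomial
import Mathlib.RingTheory.KrullDimension.Field

/-!
# Inclusions of parabolic subgroups with fibres of the same dimension are isomorphisms
-/

set_option autoImplicit false

universe u

open CategoryTheory MonoidalCategory CartesianMonoidalCategory MonObj GrpObj AlgebraicGeometry Limits
open Groth.Agent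

namespace K546.DimPar

variable {S : Scheme.{u}}

/-- Affine schemes of finite type over a field have finite dimension. -/
theorem dim_lt_top {K : Type u} [Field K] (X : Over (Spec (CommRingCat.of K))) [IsAffine X.left]
    [LocallyOfFiniteType X.hom] : topologicalKrullDim X.left < ⊤ := by
  obtain ⟨B, _, _, ⟨e⟩⟩ := Sga3B.Desc.exists_iso_sp (R := CommRingCat.of K) X
  have h1 : topologicalKrullDim X.left = ringKrullDim B := by
    have e' : X.left ≅ Spec (CommRingCat.of B) := (Over.forget _).mapIso e.symm
    rw [← PrimeSpectrum.topologicalKrullDim_eq_ringKrullDim]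
    exact IsHomeomorph.topologicalKrullDim_eq _ (Scheme.homeoOfIso e').isHomeomorph
  have h2 : Algebra.FiniteType K B := by
    have h3 : LocallyOfFiniteType (Sga3B.Desc.sp (CommRingCat.of K) B).hom := by
      have hi : IsIso e.hom.left := (Over.forget _).map_isIso e.hom
      have hf : LocallyOfFiniteType (e.hom.left ≫ X.hom) := inferInstance
      rwa [Over.w e.hom] at hf
    have h4 : (algebraMap K B).FiniteType :=
      (HasRingHomProperty.Spec_iff (P := @LocallyOfFiniteType)).1 h3
    rwa [RingHom.finiteType_algebraMap] at h4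
  rw [h1]
  obtain ⟨n, f, hf⟩ := Algebra.FiniteType.iff_quotient_mvPolynomial''.1 h2
  refine lt_of_le_of_lt (ringKrullDim_le_of_surjective f.toRingHom hf) ?_
  rw [MvPolynomial.ringKrullDim_of_isNoetherianRing, ringKrullDim_eq_zero_of_field, zero_add]
  exact WithBot.coe_lt_coe.2 (ENat.natCast_lt_top _)

/-- A closed immersion into an integral affine scheme of finite type over a field of the same
dimension is an isomorphism. -/
theorem isIso_of_dim_field {K : Type u} [Field K] {X Y : Over (Spec (CommRingCat.of K))} (i : X ⟶ Y)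
    [IsClosedImmersion i.left] [IsIntegral Y.left] [IsAffine Y.left] [LocallyOfFiniteType Y.hom]
    (hd : topologicalKrullDim Y.left ≤ topologicalKrullDim X.left) : IsIso i := by
  have h1 := dim_lt_top Y
  have h2 : Surjective i.left := by
    by_contra hne
    have hr : Set.range i.left ≠ Set.univ := fun h => hne ⟨Set.range_eq_univ.1 h⟩
    have hcl : Topology.IsClosedEmbedding i.left := i.left.isClosedEmbedding
    have h3 : topologicalKrullDim (Set.range i.left) = topologicalKrullDim X.left :=
      (IsHomeomorph.topologicalKrullDim_eq _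
        (hcl.isEmbedding.toHomeomorph).isHomeomorph).symm
    have h0 : (0 : WithBot ℕ∞) ≤ topologicalKrullDim Y.left := by
      have : Nonempty (TopologicalSpace.IrreducibleCloseds Y.left) :=
        ⟨⟨Set.univ, IrreducibleSpace.isIrreducible_univ _, isClosed_univ⟩⟩
      exact Order.krullDim_nonneg
    generalize hn : topologicalKrullDim Y.left = n at *
    induction n with
    | bot => exact absurd h0 (by simp)
    | coe m =>
      induction m with
      | top => exact absurd h1 (by simp)
      | coe d =>
        have h4 : ((d : ℕ) : WithBot ℕ∞) ≤ topologicalKrullDim (Set.range i.left) := by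
          rw [h3]
          exact hd
        have h5 := Fga.DimLt.exists_ltSeries_succ hcl.isClosed_range hr h4
        rw [hn] at h5
        have h6 : d + 1 ≤ d := by
          exact_mod_cast h5
        omega
  have h3 : IsIso i.left := isIso_of_isClosedImmersion_of_surjective i.left
  have : IsIso ((Over.forget _).map i) := h3
  exact isIso_of_reflects_iso i (Over.forget _)

theorem isIso_of_dim {P Q : Over S} [GrpObj Q] (i : P ⟶ Q) [IsClosedImmersion i.left]
    [Smooth P.hom] [Smooth Q.hom] [IsAffineHom Q.hom]
    (hQ : ∀ s : S, ConnectedSpace (Red.geomFibre s Q).left)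
    (hd : ∀ s : S, topologicalKrullDim (Red.geomFibre s Q).left ≤
      topologicalKrullDim (Red.geomFibre s P).left) : IsIso i := by
  have h1 : Flat P.hom := inferInstance
  have h2 : LocallyOfFinitePresentation P.hom := inferInstance
  refine Sga3B.Parab.FibIsoSch.isIso_of_fibres i fun s =>
    ⟨AlgebraicClosure (S.residueField s), inferInstance, Red.geomPt s, ?_, ?_⟩
  · exact Scheme.fromSpecResidueField_apply s _
  · have h3 := Sga3B.Parab.IrrFib.isIntegral_fibre Q hQ (Red.geomPt s)
    have h4 : IsClosedImmersion ((Over.pullback (Red.geomPt s)).map i).left :=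
      MorphismProperty.of_isPullback (Sga3B.Parab.FibIsoSch.isPullback_map_left (Red.geomPt s) i)
        inferInstance
    have h5 : Smooth (Red.bc (Red.geomPt s) Q).hom := inferInstanceAs (Smooth (pullback.snd Q.hom _))
    have h6 : IsAffineHom (Red.bc (Red.geomPt s) Q).hom :=
      inferInstanceAs (IsAffineHom (pullback.snd Q.hom _))
    have h7 : IsAffine (Red.bc (Red.geomPt s) Q).left := isAffine_of_isAffineHom (Red.bc (Red.geomPt s) Q).hom
    have h8 : IsIntegral ((Over.pullback (Red.geomPt s)).obj Q).left := h3
    have h9 : IsAffine ((Over.pullback (Red.geomPt s)).obj Q).left := h7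
    have h10 : LocallyOfFiniteType ((Over.pullback (Red.geomPt s)).obj Q).hom :=
      inferInstanceAs (LocallyOfFiniteType (pullback.snd Q.hom _))
    exact isIso_of_dim_field _ (hd s)

/-- A parabolic subgroup has connected geometric fibres. -/
theorem connectedSpace_geomFibre {G P : Over S} [GrpObj G] [GrpObj P] (hG : Red.IsReductive G)
    {p : P ⟶ G} (hp : Red.IsParabolic p) (s : S) : ConnectedSpace (Red.geomFibre s P).left :=
  (Sga3B.Parab.Uncond688.dynK2 (AlgebraicClosure (S.residueField s))
    (Red.geomFibre s G) (Red.geomFibre s P) ((Over.pullback (Red.geomPt s)).map p) (hG.2.2 s)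
    (hp.2.2.2 s)).1

theorem isAffineHom {G P : Over S} [GrpObj G] [GrpObj P] (hG : Red.IsReductive G)
    {p : P ⟶ G} (hp : Red.IsParabolic p) : IsAffineHom P.hom := by
  have h1 := hp.2.1
  have h2 := hG.1
  rw [← Over.w p]
  infer_instance

/-- An inclusion of parabolic subgroups whose geometric fibres have the same dimensions is an
isomorphism. -/
theorem isIso_of_dim_parabolic {G P Q : Over S} [GrpObj G] [GrpObj P] [GrpObj Q]
    (hG : Red.IsReductive G) {p : P ⟶ G} {q : Q ⟶ G} (hp : Red.IsParabolic p)
    (hq : Red.IsParabolic q) (i : P ⟶ Q) (hi : i ≫ q = p)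
    (hd : ∀ s : S, topologicalKrullDim (Red.geomFibre s Q).left ≤
      topologicalKrullDim (Red.geomFibre s P).left) : IsIso i := by
  have h1 := hp.2.1
  have h2 := hq.2.1
  have h3 : IsClosedImmersion i.left := by
    have : IsClosedImmersion (i.left ≫ q.left) := by
      rw [← Over.comp_left, hi]
      exact h1
    exact IsClosedImmersion.of_comp i.left q.left
  have h4 := hp.2.2.1
  have h5 := hq.2.2.1
  have h6 := isAffineHom hG hq
  exact isIso_of_dim i (connectedSpace_geomFibre hG hq) hd

lemma isMonHom_one {G H : Over S} [GrpObj G] [GrpObj H] : IsMonHom (1 : G ⟶ H) where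
  one_hom := by rw [MonObj.comp_one, MonObj.one_eq_one]
  mul_hom := by
    rw [MonObj.comp_one]
    have h : ((1 : G ⟶ H) ⊗ₘ (1 : G ⟶ H)) ≫ μ = ((fst G G ≫ (1 : G ⟶ H)) * (snd G G ≫ (1 : G ⟶ H))) := by
      rw [Hom.mul_def, ← lift_fst_comp_snd_comp]
    rw [h, MonObj.comp_one, MonObj.comp_one, _root_.mul_one]

/-- A reductive group is a parabolic subgroup of itself. -/
theorem isParabolic_id {G : Over S} [GrpObj G] (hG : Red.IsReductive G) :
    Red.IsParabolic (𝟙 G) := by
  refine ⟨inferInstance, inferInstanceAs (IsClosedImmersion (𝟙 G.left)), hG.2.1, fun s => ?_⟩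
  rw [CategoryTheory.Functor.map_id]
  have hm : IsMonHom (1 : Red.Gm (Spec (CommRingCat.of (AlgebraicClosure (S.residueField s)))) ⟶
    Red.geomFibre s G) := isMonHom_one
  refine Sga3B.Parab.Uncond688.dynK1 (AlgebraicClosure (S.residueField s)) (Red.geomFibre s G)
    (Red.geomFibre s G) 1 (𝟙 _) (hG.2.2 s) ⟨inferInstance, inferInstance, fun X g =>
      ⟨fun _ => Sga3B.Parab.PtZ.ptP ?_, fun _ => ⟨g, Category.comp_id g⟩⟩⟩
  rw [Sga3B.Parab.DynExist998.ptZ_iff_centralizes]
  intro X' x h
  rw [MonObj.comp_one, _root_.mul_one, _root_.one_mul]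

end K546.DimPar
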