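import Groth.Agent.RedSub.H657.TrBorel
import Groth.Agent.RedSub.H645.EtConj
import Groth.Agent.RedSub.H648.BorBc
import Groth.Agent.RedSub.H661.Main

/-!
# Parabolic subgroups containing a common parabolic subgroup

* `elConj_bc`: étale local conjugacy is stable under base change;
* `exists_iso_of_local`: two subgroups equal étale locally are equal;
* `eq_of_common`: two parabolic subgroups of a reductive group which are conjugate étale locally and
  contain a common parabolic subgroup are equal.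
-/

set_option autoImplicit false

universe u

open CategoryTheory MonoidalCategory CartesianMonoidalCategory MonObj GrpObj AlgebraicGeometry Limits
open Groth.Agent
open Groth.Agent.Sga3B Groth.Agent.Sga3B.Parab Groth.Agent.Sga3B.Parab.ConjPt
open Groth.Agent.RedSub.H645.EtConj

namespace K546.Common

variable {S S' : Scheme.{u}} {G P Q P' Q' : Over S} [GrpObj G] [GrpObj P] [GrpObj Q] [GrpObj P']
  [GrpObj Q']

/-- Étale local conjugacy is stable under base change. -/
theorem elConj_bc (f : S' ⟶ S) {p : P ⟶ G} {q : Q ⟶ G} {s' : S'} (h : ELConj p q (f s')) :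
    ELConj ((Over.pullback f).map p) ((Over.pullback f).map q) s' := by
  obtain ⟨U, g, hg, ⟨z, hz⟩, h, hh⟩ := h
  obtain ⟨w, hw1, hw2⟩ := Scheme.Pullback.exists_preimage_pullback (f := g) (g := f) z s' hz
  let c : (Over.map f).obj (Over.mk (pullback.snd g f)) ⟶ Over.mk g :=
    Over.homMk (pullback.fst g f) pullback.condition
  refine ⟨pullback g f, pullback.snd g f, inferInstance, ⟨w, hw2⟩, DSPts.bcEquiv f _ G (c ≫ h), ?_⟩
  rw [LC.conj_bc_iff, MulEquiv.symm_apply_apply]
  exact hh.comp c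

omit [GrpObj P] [GrpObj Q] in
/-- Étale local conjugacy is symmetric. -/
theorem elConj_symm {p : P ⟶ G} {q : Q ⟶ G} {s : S} (h : ELConj p q s) : ELConj q p s := by
  obtain ⟨U, g, hg, hs, h, hh⟩ := h
  exact ⟨U, g, hg, hs, h⁻¹, hh.inv⟩

omit [GrpObj G] [GrpObj P] [GrpObj P'] in
/-- Two subgroups which are equal étale locally are equal. -/
theorem exists_iso_of_local {p : P ⟶ G} {p' : P' ⟶ G} [Mono p.left] [Mono p'.left]
    (h : ∀ s : S, ∃ (U : Scheme.{u}) (f : U ⟶ S), Etale f ∧ s ∈ Set.range f ∧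
      ∃ e : Red.bc f P ≅ Red.bc f P', e.hom ≫ (Over.pullback f).map p' = (Over.pullback f).map p) :
    ∃ e : P ≅ P', e.hom ≫ p' = p := by
  have hp : Mono p := Over.mono_of_mono_left p
  have hp' : Mono p' := Over.mono_of_mono_left p'
  obtain ⟨a, ha⟩ := RedSub.H657.FacLoc.inP_of_local p' p fun s => by
    obtain ⟨U, f, hf, hs, e, he⟩ := h s
    exact ⟨U, f, inferInstance, inferInstance, hs, e.hom, he⟩
  obtain ⟨b, hb⟩ := RedSub.H657.FacLoc.inP_of_local p p' fun s => by
    obtain ⟨U, f, hf, hs, e, he⟩ := h s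
    exact ⟨U, f, inferInstance, inferInstance, hs, e.inv, by rw [← he, Iso.inv_hom_id_assoc]⟩
  refine ⟨⟨a, b, ?_, ?_⟩, ha⟩
  · rw [← cancel_mono p, Category.assoc, hb, ha, Category.id_comp]
  · rw [← cancel_mono p', Category.assoc, ha, hb, Category.id_comp]

/-- Parabolic subgroups which contain a common Borel subgroup and are conjugate étale locally are
equal. -/
theorem eq_of_common_borel (hG : Red.IsReductive G) {p : P ⟶ G} (hP : Red.IsParabolic p)
    {p' : P' ⟶ G} (hP' : Red.IsParabolic p') {B : Over S} [GrpObj B] (b : B ⟶ G)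
    (hB : Red.IsBorel b) (hb : ∃ c : B ⟶ P, c ≫ p = b) (hb' : ∃ c' : B ⟶ P', c' ≫ p' = b)
    (hconj : ∀ s : S, ELConj p p' s) : ∃ e : P ≅ P', e.hom ≫ p' = p := by
  refine RedSub.H657.TrBorel.eq_of_locally_conj hG p hP p' hP' b hB hb hb' fun s => ?_
  obtain ⟨U, f, hf, hs, g, hg⟩ := (hconj s).exists_conjEq
  exact ⟨U, f, inferInstance, inferInstance, hs, g, hg⟩

/-- **Parabolic subgroups which contain a common parabolic subgroup and are conjugate étale locally
are equal.** -/
theorem eq_of_common (hG : Red.IsReductive G) {p : P ⟶ G} (hP : Red.IsParabolic p)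
    {p' : P' ⟶ G} (hP' : Red.IsParabolic p') {q : Q ⟶ G} (hq : Red.IsParabolic q)
    (c : Q ⟶ P) (hc : c ≫ p = q) (c' : Q ⟶ P') (hc' : c' ≫ p' = q)
    (hconj : ∀ s : S, ELConj p p' s) : ∃ e : P ≅ P', e.hom ≫ p' = p := by
  have h1 := hP.2.1
  have h2 := hP'.2.1
  refine exists_iso_of_local fun s => ?_
  obtain ⟨U, f, hf, hs, B, _, b, hb⟩ := RedSub.H661.Main.exists_borel_in hG hq s
  refine ⟨U, f, hf, hs, eq_of_common_borel (RedBcAny636.isReductive_bc f hG)
    (RedSub.H648.BorBc.isParabolic_bc f hG hP) (RedSub.H648.BorBc.isParabolic_bc f hG hP') _ hb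
    ⟨b ≫ (Over.pullback f).map c, ?_⟩ ⟨b ≫ (Over.pullback f).map c', ?_⟩
    fun u => elConj_bc f (hconj _)⟩
  · rw [Category.assoc, ← Functor.map_comp, hc]
  · rw [Category.assoc, ← Functor.map_comp, hc']

/-- Étale local conjugacy from conjugacy of the geometric fibres. -/
theorem elConj_of_geom (hG : Red.IsReductive G) {p : P ⟶ G} (hP : Red.IsParabolic p)
    {p' : P' ⟶ G} (hP' : Red.IsParabolic p')
    (h : ∀ s : S, ∃ g : 𝟙_ _ ⟶ Red.geomFibre s G,
      RedSub.ConjEq ((Over.pullback (Red.geomPt s)).map p) ((Over.pullback (Red.geomPt s)).map p') g)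
    (s : S) : ELConj p p' s := by
  obtain ⟨g, hg⟩ := h s
  exact etConj_of_geomFibre hG p p' hP hP' s ⟨g, (RedSub.H645.ConjEqIff.conjEq_iff g).1 hg⟩

end K546.Common
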