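import Groth.Prelude.Def_RedSub
import Groth.Agent.Sga3B.Parab.ConjPt
import Groth.Agent.Sga3B.Parab.RedCover147

/-!
# Torsors inside a group

`X ⟶ G` a subscheme, `W ⟶ G` a smooth subgroup with `X W ⊂ X`, `X⁻¹ X ⊂ W`, and `X` having
sections étale-locally: `X` is a torsor under `W` for the action `(w, x) ↦ x w⁻¹`.
-/

set_option autoImplicit false

universe u

open CategoryTheory MonoidalCategory CartesianMonoidalCategory MonObj GrpObj AlgebraicGeometry Limits
open Groth.Agent
open Groth.Agent.Sga3B Groth.Agent.Sga3B.Parab Groth.Agent.Sga3B.Parab.ConjPt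

namespace K546.TorsOf

variable {S : Scheme.{u}} {G X W : Over S} [GrpObj G] [GrpObj W]

/-- The action `(w, x) ↦ x w⁻¹`. -/
theorem exists_action (i : X ⟶ G) (w : W ⟶ G) [Mono i] [IsMonHom w]
    (h1 : ∀ (Y : Over S) (x y : Y ⟶ G), Mem i x → Mem w y → Mem i (x * y⁻¹)) :
    ∃ a : AlgGrp.Action W X, a.act ≫ i = (snd W X ≫ i) * (fst W X ≫ w)⁻¹ := by
  obtain ⟨act, hact⟩ := h1 (W ⊗ X) (snd W X ≫ i) (fst W X ≫ w) ⟨_, rfl⟩ ⟨_, rfl⟩
  refine ⟨⟨act, ?_, ?_⟩, hact⟩
  · rw [← cancel_mono i, Category.assoc, hact, MonObj.comp_mul, GrpObj.comp_inv,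
      whiskerRight_snd_assoc, whiskerRight_fst_assoc, leftUnitor_hom, IsMonHom.one_hom,
      one_eq_one, MonObj.comp_one, _root_.inv_one, _root_.mul_one]
  · rw [← cancel_mono i]
    simp only [Category.assoc]
    rw [hact, MonObj.comp_mul, GrpObj.comp_inv, whiskerRight_snd_assoc, whiskerRight_fst_assoc,
      MonObj.comp_mul, GrpObj.comp_inv, whiskerLeft_snd_assoc, whiskerLeft_fst_assoc, hact,
      MonObj.comp_mul, GrpObj.comp_inv, IsMonHom.mul_hom, MonObj.comp_mul, GrpObj.comp_inv]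
    have e : (w ⊗ₘ w) ≫ μ[G] = (fst W W ≫ w) * (snd W W ≫ w) := by
      rw [Hom.mul_def]
      congr 1
    rw [e, MonObj.comp_mul]
    simp only [MonObj.comp_mul, GrpObj.comp_inv, associator_hom_snd_snd_assoc,
      associator_hom_snd_fst_assoc, associator_hom_fst_assoc]
    group

/-- **Torsors inside a group.** -/
theorem exists_torsor (i : X ⟶ G) (w : W ⟶ G) [Mono i] [Mono w] [IsMonHom w] [Smooth W.hom]
    (h1 : ∀ (Y : Over S) (x y : Y ⟶ G), Mem i x → Mem w y → Mem i (x * y⁻¹))
    (h2 : ∀ (Y : Over S) (x x' : Y ⟶ G), Mem i x → Mem i x' → Mem w (x'⁻¹ * x))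
    (hloc : ∀ s : S, ∃ (S' : Scheme.{u}) (f : S' ⟶ S), Flat f ∧ LocallyOfFinitePresentation f ∧
      s ∈ Set.range f ∧ Nonempty (Over.mk f ⟶ X)) : ∃ a : AlgGrp.Action W X, RedSub.IsTorsor a := by
  obtain ⟨a, ha⟩ := exists_action i w h1
  obtain ⟨d, hd⟩ := h2 (X ⊗ X) (snd X X ≫ i) (fst X X ≫ i) ⟨_, rfl⟩ ⟨_, rfl⟩
  have hsurj : Surjective X.hom := by
    refine ⟨fun s => ?_⟩
    obtain ⟨S', f, -, -, ⟨s', rfl⟩, ⟨x₀⟩⟩ := hloc s
    refine ⟨x₀.left s', ?_⟩
    rw [← Scheme.Hom.comp_apply, Over.w x₀]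
    rfl
  have hsm : Smooth X.hom := by
    choose S' f hf1 hf2 hs hh using hloc
    have hf : EtHom.IsCov f := ⟨hf1, hf2, fun s => ⟨s, hs s⟩⟩
    refine RedCover147.hom_of_cover @Smooth hf _ fun j => ?_
    obtain ⟨x₀⟩ := hh j
    let T : Over S := Over.mk (f j)
    let x₁ : T ⟶ X := x₀
    let ψ : X ⊗ T ⟶ W ⊗ T := lift ((X ◁ x₁) ≫ d) (snd X T)
    let φ : W ⊗ T ⟶ X ⊗ T := lift ((W ◁ x₁) ≫ a.act) (snd W T)
    have e1 : φ ≫ ψ = 𝟙 _ := by
      apply CartesianMonoidalCategory.hom_ext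
      · rw [← cancel_mono w]
        simp only [ψ, φ, Category.assoc, lift_fst, Category.id_comp, hd, MonObj.comp_mul,
          GrpObj.comp_inv, whiskerLeft_snd_assoc, whiskerLeft_fst_assoc, lift_fst_assoc,
          lift_snd_assoc, ha]
        group
      · simp only [ψ, φ, Category.assoc, lift_snd, Category.id_comp]
    have e2 : ψ ≫ φ = 𝟙 _ := by
      apply CartesianMonoidalCategory.hom_ext
      · rw [← cancel_mono i]
        simp only [ψ, φ, Category.assoc, lift_fst, Category.id_comp, hd, MonObj.comp_mul,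
          GrpObj.comp_inv, whiskerLeft_snd_assoc, whiskerLeft_fst_assoc, lift_fst_assoc,
          lift_snd_assoc, ha]
        group
      · simp only [ψ, φ, Category.assoc, lift_snd, Category.id_comp]
    have e3 : IsIso ψ := ⟨φ, e2, e1⟩
    have e4 : IsIso ψ.left := (Over.forget _).map_isIso ψ
    have e5 : ψ.left ≫ (snd W T).left = (snd X T).left := by
      rw [← Over.comp_left]
      congr 1
      exact lift_snd _ _
    have e6 : Smooth (snd W T).left :=
      inferInstanceAs (Smooth (Limits.pullback.snd W.hom (f j)))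
    have e7 : Smooth (snd X T).left := by
      rw [← e5]
      infer_instance
    exact e7
  have hiso : IsIso (lift a.act (snd W X)) := by
    refine ⟨lift d (snd X X), ?_, ?_⟩
    · apply CartesianMonoidalCategory.hom_ext
      · rw [← cancel_mono w]
        simp only [Category.assoc, lift_fst, Category.id_comp, hd, MonObj.comp_mul,
          GrpObj.comp_inv, lift_fst_assoc, lift_snd_assoc, ha]
        group
      · simp only [Category.assoc, lift_snd, Category.id_comp]
    · apply CartesianMonoidalCategory.hom_ext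
      · rw [← cancel_mono i]
        simp only [Category.assoc, lift_fst, Category.id_comp, hd, MonObj.comp_mul,
          GrpObj.comp_inv, lift_fst_assoc, lift_snd_assoc, ha]
        group
      · simp only [Category.assoc, lift_snd, Category.id_comp]
  exact ⟨a, hsurj, inferInstance, inferInstance, hiso⟩

end K546.TorsOf
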