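import Groth.Agent.Par.K546.LimTors
import Groth.Agent.Par.K546.TorsOf
import Groth.Agent.RedSub.H658.TorsTriv
import Groth.Agent.RedSub.H658.DynUAff

/-!
# Conjugating a cocharacter into a closed subgroup over an affine base

`exists_section`: over an affine base, if étale-locally some point of `U_G(α)` conjugates `α` into
the smooth closed subgroup `Q`, then there is such a point over the base.
-/

set_option autoImplicit false

universe u

open CategoryTheory MonoidalCategory CartesianMonoidalCategory MonObj GrpObj AlgebraicGeometry Limits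
open Groth.Agent
open Groth.Agent.Sga3B Groth.Agent.Sga3B.Parab Groth.Agent.Sga3B.Parab.ConjPt
open Groth.Agent.RedSub.H661.Core Groth.Agent.Sga3B.Parab.Dyn998 Groth.Agent.Sga3B.Parab.AffPts998
open K546.LimKey K546.LimTors

namespace K546.LimSec

theorem exists_section {A : Type u} [CommRing A] {G Q : Over (Spec (CommRingCat.of A))}
    [GrpObj G] [GrpObj Q] [IsAffineHom G.hom] [Smooth G.hom]
    {α : Red.Gm (Spec (CommRingCat.of A)) ⟶ G} [IsMonHom α] {q : Q ⟶ G} [IsMonHom q]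
    [IsClosedImmersion q.left] [Smooth Q.hom] (h : LocFX α q) :
    ∃ x : 𝟙_ (Over (Spec (CommRingCat.of A))) ⟶ G, FX α q x := by
  have hqm : Mono q := Over.mono_of_mono_left q
  obtain ⟨Q₁, _, q₁, hq₁, hq₁c, hQ₁, hmem⟩ := exists_twist h
  have hq₁m : Mono q₁ := Over.mono_of_mono_left q₁
  obtain ⟨α₁, hα₁⟩ : Mem q₁ α := (hmem _ α).2 fun X' t x hx => by
    have h1 := hx.2 X' (𝟙 _) t
    rwa [Category.id_comp] at h1
  have hα₁m : IsMonHom α₁ := by
    have : IsMonHom (α₁ ≫ q₁) := by rw [hα₁]; infer_instance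
    exact OppS172.isMonHom_of_comp α₁ q₁ this
  have hQ₁a : IsAffineHom Q₁.hom := by
    rw [← Over.w q₁]
    infer_instance
  obtain ⟨W, _, w, hw, hwc⟩ := DynExist998.exists_isDynU α₁
  have hwg := hw.isMonHom
  have hwm := hw.mono
  obtain ⟨B, _, _, e, _, δ, hsm, hδ, h0, hF⟩ := RedSub.H658.DynUAff.exists_graded hw
  obtain ⟨Z, z, hz, hzm⟩ := exists_tr α q
  obtain ⟨U, _, uu, hu, huc⟩ := DynExist998.exists_isDynU α
  obtain ⟨X, i, hi, him, -⟩ := CentRep.exists_inter z uu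
  have him' : ∀ (T : Over (Spec (CommRingCat.of A))) (g : T ⟶ G), Mem i g ↔ FX α q g := by
    intro T g
    refine (him T g).trans ?_
    rw [FX, and_comm (a := PtU α g)]
    exact and_congr (hzm T g) (hu.iff_ptU _ _)
  have hwm' : ∀ (T : Over (Spec (CommRingCat.of A))) (g : T ⟶ G), Mem (w ≫ q₁) g ↔
      Mem q₁ g ∧ PtU α g := by
    intro T g
    rw [← hα₁]
    constructor
    · rintro ⟨y, rfl⟩
      refine ⟨⟨y ≫ w, Category.assoc _ _ _⟩, ?_⟩
      rw [← Category.assoc, DynClosed998.ptU_comp_iff]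
      exact (hw.iff_ptU _ _).1 ⟨y, rfl⟩
    · rintro ⟨⟨y, rfl⟩, h2⟩
      rw [DynClosed998.ptU_comp_iff] at h2
      obtain ⟨y', rfl⟩ := (hw.iff_ptU _ _).2 h2
      exact ⟨y', (Category.assoc _ _ _).symm⟩
  have him₁ : Mono i := Over.mono_of_mono_left i
  have hWs : Smooth W.hom := DynSmooth998.isDynU_smooth hw
  obtain ⟨a, ha⟩ := K546.TorsOf.exists_torsor i (w ≫ q₁) (fun Y x y hx hy => by
      rw [him'] at hx ⊢
      rw [hwm', hmem] at hy
      refine ⟨hx.1.mul hy.2.inv, fun X' t s => ?_⟩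
      have h1 := mem_inv' (hy.1 X' t _ (hx.comp t))
      have h2 := mem_mul' (mem_mul' h1 (hx.2 X' t s)) (mem_inv' h1)
      have e : (t ≫ x * (t ≫ y) * (t ≫ x)⁻¹)⁻¹ * (t ≫ x * (s ≫ α) * (t ≫ x)⁻¹) *
          ((t ≫ x * (t ≫ y) * (t ≫ x)⁻¹)⁻¹)⁻¹ =
          t ≫ (x * y⁻¹) * (s ≫ α) * (t ≫ (x * y⁻¹))⁻¹ := by
        rw [MonObj.comp_mul, GrpObj.comp_inv]
        group
      rwa [e] at h2)
    (fun Y x x' hx hx' => by
      rw [him'] at hx hx'
      rw [hwm', hmem]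
      refine ⟨fun X' t y hy => ?_, hx'.1.inv.mul hx.1⟩
      have h1 := mem_mul_inv hy (hx'.comp t)
      have h2 := mem_mul_inv hy (hx.comp t)
      have h3 := mem_mul' h1 (mem_inv' h2)
      have e : y * (t ≫ x')⁻¹ * (y * (t ≫ x)⁻¹)⁻¹ = y * (t ≫ (x'⁻¹ * x)) * y⁻¹ := by
        rw [MonObj.comp_mul, GrpObj.comp_inv]
        group
      rwa [e] at h3)
    (fun s => by
      obtain ⟨S', f, hf1, hf2, hs, x₀, hx₀⟩ := h s
      obtain ⟨y, -⟩ := (him' _ x₀).2 hx₀
      exact ⟨S', f, hf1, hf2, hs, ⟨y⟩⟩)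
  obtain ⟨x⟩ := RedSub.H658.TorsTriv.hasSection hδ h0 hF e a ha
  exact ⟨x ≫ i, (him' _ _).1 ⟨x, rfl⟩⟩

end K546.LimSec
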