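import Groth.Agent.Sga3B.Parab.EtHom

/-!
# Local conditions on points can be tested flat-locally on the base
-/

set_option autoImplicit false

universe u

open CategoryTheory MonoidalCategory CartesianMonoidalCategory MonObj GrpObj AlgebraicGeometry
open Groth.Agent
open Groth.Agent.Sga3B Groth.Agent.Sga3B.Parab

namespace K546.OfCov

variable {S : Scheme.{u}} {G X : Over S}

/-- A local condition on points can be tested flat-locally on the base. -/
theorem of_cov {F : ∀ T : Over S, (T ⟶ G) → Prop} (hF : EtSub.IsLocalPt F) (g : X ⟶ G)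
    (h : ∀ s : S, ∃ (S' : Scheme.{u}) (f : S' ⟶ S), Flat f ∧ LocallyOfFinitePresentation f ∧
      s ∈ Set.range f ∧ F (X ⊗ Over.mk f) (fst X (Over.mk f) ≫ g)) : F X g := by
  choose S' f hfl hfp hs y using h
  let T : Over S := Over.mk
    (Limits.Sigma.desc (f := fun i => (X ⊗ Over.mk (f i)).left)
      fun i => (X ⊗ Over.mk (f i)).hom)
  have hT : ∀ i, Limits.Sigma.ι (fun i => (X ⊗ Over.mk (f i)).left) i ≫ T.hom =
      (X ⊗ Over.mk (f i)).hom := fun i => Limits.Sigma.ι_desc _ _
  have hfst : ∀ i, Flat (fst X (Over.mk (f i))).left ∧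
      LocallyOfFinitePresentation (fst X (Over.mk (f i))).left := by
    intro i
    exact ⟨inferInstanceAs (Flat (Limits.pullback.fst X.hom (f i))),
      inferInstanceAs (LocallyOfFinitePresentation (Limits.pullback.fst X.hom (f i)))⟩
  let x : T ⟶ X := Over.homMk (Limits.Sigma.desc fun i => (fst X (Over.mk (f i))).left) (by
    apply Limits.Sigma.hom_ext
    intro i
    rw [← Category.assoc, Limits.Sigma.ι_desc, Over.w]
    exact (hT i).symm)
  have hx1 : Flat x.left := IsZariskiLocalAtSource.sigmaDesc fun i => (hfst i).1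
  have hx2 : LocallyOfFinitePresentation x.left :=
    IsZariskiLocalAtSource.sigmaDesc fun i => (hfst i).2
  have hx3 : Surjective x.left := by
    apply Surjective.sigmaDesc_of_union_range_eq_univ
    rw [Set.eq_univ_iff_forall]
    intro z
    obtain ⟨s', hs'⟩ := hs (X.hom z)
    rw [Set.mem_iUnion]
    obtain ⟨w, hw, -⟩ := Scheme.Pullback.exists_preimage_pullback z s' hs'.symm
    exact ⟨X.hom z, w, hw⟩
  have hFT : F T (x ≫ g) := by
    refine hF.zariski _ (sigmaOpenCover fun i => (X ⊗ Over.mk (f i)).left) fun i => ?_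
    let e : Over.mk ((sigmaOpenCover fun i => (X ⊗ Over.mk (f i)).left).f i ≫ T.hom) ⟶
        X ⊗ Over.mk (f i) := Over.homMk (𝟙 _) (by
      change 𝟙 _ ≫ (X ⊗ Over.mk (f i)).hom =
        Limits.Sigma.ι (fun i => (X ⊗ Over.mk (f i)).left) i ≫ T.hom
      rw [Category.id_comp]
      exact (hT i).symm)
    have h1 := hF.comp e _ (y i)
    have h2 : (Over.homMk ((sigmaOpenCover fun i => (X ⊗ Over.mk (f i)).left).f i) :
        Over.mk ((sigmaOpenCover fun i => (X ⊗ Over.mk (f i)).left).f i ≫ T.hom) ⟶ T) ≫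
          x ≫ g = e ≫ fst _ _ ≫ g := by
      rw [← Category.assoc, ← Category.assoc]
      congr 1
      ext1
      change Limits.Sigma.ι (fun i => (X ⊗ Over.mk (f i)).left) i ≫ x.left = 𝟙 _ ≫ _
      rw [Category.id_comp]
      exact Limits.Sigma.ι_desc _ _
    rw [h2]
    exact h1
  exact EtHom.of_flat hF x g hFT

end K546.OfCov
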