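import Groth.Agent.Par.K546.Pair
import Groth.Agent.Par.K546.Opp
import Groth.Agent.RedSub.H651.BorLevi
import Groth.Agent.S2996
import Groth.Agent.S3969

/-!
# Pairs of opposite Borel subgroups are conjugate étale locally
-/

set_option autoImplicit false

universe u

open CategoryTheory MonoidalCategory CartesianMonoidalCategory MonObj GrpObj AlgebraicGeometry Limits
open Groth.Agent
open Groth.Agent.Sga3B Groth.Agent.Sga3B.Parab Groth.Agent.Sga3B.Parab.ConjPt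
open Groth.Agent.RedSub.H645.EtConj Groth.Agent.RedSub.H664
open K546.Pair

namespace K546.PairBorel

variable {S S' : Scheme.{u}} {G : Over S} [GrpObj G]

lemma ad_eq_comp (g : 𝟙_ (Over S) ⟶ G) {X : Over S} (x : X ⟶ G) :
    Ad.ad g x = x ≫ (RedSub.H661.Core.innerIso g).hom := (RedSub.H661.Core.comp_innerIso g x).symm

theorem isBorel_ad {B : Over S} [GrpObj B] {b : B ⟶ G} (hb : Red.IsBorel b)
    (g : 𝟙_ (Over S) ⟶ G) : Red.IsBorel (Ad.ad g b) := by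
  rw [ad_eq_comp]
  exact RedSub.H661.SixAt.isBorel_comp_iso hb (Grp.mkIso' (RedSub.H661.Core.innerIso g))

theorem isMaximalTorus_ad {T : Over S} [GrpObj T] {t : T ⟶ G} (ht : Red.IsMaximalTorus t)
    (g : 𝟙_ (Over S) ⟶ G) : Red.IsMaximalTorus (Ad.ad g t) := by
  rw [ad_eq_comp]
  exact RedSub.H661.SixAt.isMaximalTorus_comp_iso ht (Grp.mkIso' (RedSub.H661.Core.innerIso g))

/-- From conjugacy to an isomorphism. -/
theorem exists_iso_of_conj {P P' : Over S} {p : P ⟶ G} {p' : P' ⟶ G} [GrpObj P] [Mono p] [Mono p']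
    {g : 𝟙_ (Over S) ⟶ G} (h : Conj p p' g) : ∃ e : P ≅ P', e.hom ≫ p' = Ad.ad g p := by
  have hm : Mono (Ad.ad g p) := by
    rw [ad_eq_comp]
    infer_instance
  obtain ⟨a, ha⟩ := (Conj.mem_ad_iff h (Ad.ad g p)).1 ⟨𝟙 _, Category.id_comp _⟩
  obtain ⟨b, hb⟩ := (Conj.mem_ad_iff h p').2 ⟨𝟙 _, Category.id_comp _⟩
  exact ⟨⟨a, b, by rw [← cancel_mono (Ad.ad g p), Category.assoc, hb, ha, Category.id_comp],
    by rw [← cancel_mono p', Category.assoc, ha, hb, Category.id_comp]⟩, ha⟩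

/-- Pairs of opposite Borel subgroups, over a base over which the first ones are conjugate. -/
theorem conj_pair (hG : Red.IsReductive G) {B C T B₁ C₁ T₁ : Over S} [GrpObj B] [GrpObj C]
    [GrpObj T] [GrpObj B₁] [GrpObj C₁] [GrpObj T₁] {b : B ⟶ G} {c : C ⟶ G} {t : T ⟶ B} {t' : T ⟶ C}
    {b₁ : B₁ ⟶ G} {c₁ : C₁ ⟶ G} {t₁ : T₁ ⟶ B₁} {t₁' : T₁ ⟶ C₁} (hb : Red.IsBorel b)
    (hc : Red.IsBorel c) (hpb : IsPullback t t' b c)
    (hT : Red.IsMaximalTorus (t ≫ b)) (hb₁ : Red.IsBorel b₁)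
    (hc₁ : Red.IsBorel c₁) (ht₁ : IsMonHom t₁) (hpb₁ : IsPullback t₁ t₁' b₁ c₁)
    (hT₁ : Red.IsMaximalTorus (t₁ ≫ b₁)) {g : 𝟙_ (Over S) ⟶ G} (hg : Conj b b₁ g) :
    ∃ g' : 𝟙_ (Over S) ⟶ G, Conj b b₁ g' ∧ Conj c c₁ g' := by
  have hbm : Mono b := OppRow172.mono_of_closed b hb.2.1
  have hb₁m : Mono b₁ := OppRow172.mono_of_closed b₁ hb₁.2.1
  have hb₁g : IsMonHom b₁ := hb₁.1
  have hbg : IsMonHom b := hb.1
  obtain ⟨e, he⟩ := exists_iso_of_conj hg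
  have h1 : (t ≫ e.hom) ≫ b₁ = Ad.ad g (t ≫ b) := by
    rw [Category.assoc, he, Ad.comp_ad]
  have h2 : Red.IsMaximalTorus ((t ≫ e.hom) ≫ b₁) := by
    rw [h1]
    exact isMaximalTorus_ad hT g
  have hl := RedSub.H651.BorLevi.isLevi hG b₁ hb₁ (t ≫ e.hom) h2
  have hl₁ := RedSub.H651.BorLevi.isLevi hG b₁ hb₁ t₁ hT₁
  have hp₁ := RedSub.H661.Borels.isParabolic_of_isBorel hb₁
  obtain ⟨U, _, u, hu⟩ := K546.Opp.exists_rad hG hp₁
  obtain ⟨x, ⟨e', he'⟩, -⟩ := S2996.result G B₁ U T T₁ hG b₁ hp₁ u hu (t ≫ e.hom) t₁ hl hl₁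
  have hum : IsMonHom u := hu.1
  let y : 𝟙_ (Over S) ⟶ G := x ≫ u ≫ b₁
  have hy : Conj b₁ b₁ y := ConjPt.conj_of_mem b₁ ⟨x ≫ u, Category.assoc _ _ _⟩
  have h3 : Conj b b₁ (y * g) := hy.mul hg
  obtain ⟨e₂, he₂⟩ := exists_iso_of_conj h3
  have h4 : t ≫ e₂.hom = e'.hom ≫ t₁ := by
    rw [← cancel_mono b₁, Category.assoc, he₂, Ad.comp_ad, he', MonObj.mul_comp, MonObj.mul_comp,
      GrpObj.inv_comp, h1, Ad.ad_mul, Category.assoc, Category.assoc]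
    rfl
  have h5 : IsPullback t t' (Ad.ad (y * g) b) (Ad.ad (y * g) c) := by
    rw [ad_eq_comp, ad_eq_comp]
    exact RedSub.H661.SixAt.isPullback_comp_mono hpb _
  have h6 : IsPullback t₁ (e'.inv ≫ t') b₁ (Ad.ad (y * g) c) := by
    refine IsPullback.of_iso h5 e' e₂ (Iso.refl _) (Iso.refl _) h4 ?_ ?_ ?_
    · rw [Iso.refl_hom, Category.comp_id, Iso.hom_inv_id_assoc]
    · rw [Iso.refl_hom, Category.comp_id, he₂]
    · rw [Iso.refl_hom, Iso.refl_hom, Category.comp_id, Category.id_comp]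
  obtain ⟨e₃, he₃⟩ := (S3969.result hG b₁ hb₁ t₁ hT₁).2 C C₁ (Ad.ad (y * g) c) c₁ (e'.inv ≫ t') t₁'
    (isBorel_ad hc _) hc₁ h6.w.symm hpb₁.w.symm h6 hpb₁
  exact ⟨y * g, h3, LC.conj_of_iso e₃ he₃⟩

/-- **Pairs of opposite Borel subgroups are conjugate étale locally.** -/
theorem pairLoc (hG : Red.IsReductive G) {B C T B₁ C₁ T₁ : Over S} [GrpObj B] [GrpObj C]
    [GrpObj T] [GrpObj B₁] [GrpObj C₁] [GrpObj T₁] {b : B ⟶ G} {c : C ⟶ G} {t : T ⟶ B} {t' : T ⟶ C}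
    {b₁ : B₁ ⟶ G} {c₁ : C₁ ⟶ G} {t₁ : T₁ ⟶ B₁} {t₁' : T₁ ⟶ C₁} (hb : Red.IsBorel b)
    (hc : Red.IsBorel c) (hpb : IsPullback t t' b c)
    (hT : Red.IsMaximalTorus (t ≫ b)) (hb₁ : Red.IsBorel b₁)
    (hc₁ : Red.IsBorel c₁) (ht₁ : IsMonHom t₁) (hpb₁ : IsPullback t₁ t₁' b₁ c₁)
    (hT₁ : Red.IsMaximalTorus (t₁ ≫ b₁)) (s : S) :
    ∃ (U : Scheme.{u}) (f : U ⟶ S), Etale f ∧ s ∈ Set.range f ∧ ∃ g' : 𝟙_ (Over U) ⟶ Red.bc f G,
      Conj ((Over.pullback f).map b) ((Over.pullback f).map b₁) g' ∧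
      Conj ((Over.pullback f).map c) ((Over.pullback f).map c₁) g' := by
  obtain ⟨U, f, hf, hs, g, hg⟩ :=
    RedSub.H645.BorelEt.exists_etale_conjEq_of_isBorel hG b b₁ hb hb₁ s
  rw [RedSub.H645.ConjEqIff.conjEq_iff] at hg
  have hG' := RedBcAny636.isReductive_bc f hG
  have hq : LocallyQuasiFinite f := Desc.LQF.of_etale f
  refine ⟨U, f, hf, hs, conj_pair hG' (RedSub.H648.BorBc.isBorel_bc f hG hb)
    (RedSub.H648.BorBc.isBorel_bc f hG hc) (hpb.map (Over.pullback f)) ?_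
    (RedSub.H648.BorBc.isBorel_bc f hG hb₁) (RedSub.H648.BorBc.isBorel_bc f hG hc₁)
    inferInstance (hpb₁.map (Over.pullback f)) ?_ hg⟩
  · rw [← CategoryTheory.Functor.map_comp]
    exact AlgBc.isMaximalTorus_bc f hT
  · rw [← CategoryTheory.Functor.map_comp]
    exact AlgBc.isMaximalTorus_bc f hT₁

theorem respectsIso_smooth : MorphismProperty.RespectsIso @Smooth.{u} :=
  MorphismProperty.IsStableUnderBaseChange.respectsIso

/-- Smoothness of the multiplication is stable under base change. -/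
lemma smooth_mul_bc (f : S' ⟶ S) {A B : Over S} {a : A ⟶ G} {b : B ⟶ G}
    (h : Smooth ((a ⊗ₘ b) ≫ μ[G]).left) :
    Smooth (((Over.pullback f).map a ⊗ₘ (Over.pullback f).map b) ≫ μ[Red.bc f G]).left := by
  rw [RedSub.H661.Dense.map_mul_comp, Over.comp_left]
  have h1 : IsIso (Functor.LaxMonoidal.μ (Over.pullback f) A B).left :=
    RedSub.H661.SmoothMul.isIso_left (asIso (Functor.LaxMonoidal.μ (Over.pullback f) A B))
  have h2 : Smooth ((Over.pullback f).map ((a ⊗ₘ b) ≫ μ[G])).left :=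
    MorphismProperty.of_isPullback (P := @Smooth) (EtHom.isPullback_map f _) h
  have hR := respectsIso_smooth.{u}
  exact (MorphismProperty.cancel_left_of_respectsIso @Smooth _ _).2 h2

/-- A conjugate of a transversal pair is transversal. -/
lemma smooth_mul_of_conj {P Q P' Q' : Over S} [GrpObj P] [GrpObj Q] {p : P ⟶ G} {q : Q ⟶ G}
    {p' : P' ⟶ G} {q' : Q' ⟶ G} [Mono p] [Mono p'] [Mono q] [Mono q'] {g : 𝟙_ (Over S) ⟶ G}
    (h1 : Conj p p' g) (h2 : Conj q q' g) (h : Smooth ((p ⊗ₘ q) ≫ μ[G]).left) :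
    Smooth ((p' ⊗ₘ q') ≫ μ[G]).left := by
  have hR := respectsIso_smooth.{u}
  obtain ⟨e₁, he₁⟩ := exists_iso_of_conj h1
  obtain ⟨e₂, he₂⟩ := exists_iso_of_conj h2
  rw [ad_eq_comp] at he₁ he₂
  have h3 := Transp.mul_transport (RedSub.H661.Core.innerIso g).hom e₁.hom e₂.hom he₁ he₂
  have h4 : IsIso (e₁.hom ⊗ₘ e₂.hom).left := by
    have : IsIso (e₁.hom ⊗ₘ e₂.hom) := inferInstance
    exact (Over.forget S).map_isIso (e₁.hom ⊗ₘ e₂.hom)
  have h5 : IsIso (RedSub.H661.Core.innerIso g).hom.left :=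
    (Over.forget S).map_isIso (RedSub.H661.Core.innerIso g).hom
  have h6 : Smooth ((e₁.hom ⊗ₘ e₂.hom) ≫ (p' ⊗ₘ q') ≫ μ[G]).left := by
    rw [h3, Over.comp_left]
    exact (MorphismProperty.cancel_right_of_respectsIso @Smooth _ _).2 h
  rw [Over.comp_left] at h6
  exact (MorphismProperty.cancel_left_of_respectsIso @Smooth _ _).1 h6

end K546.PairBorel
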