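import Groth.Agent.Sga3B.Parab.ConjPt
import Groth.Agent.Sga3B.Parab.EtSub
import Groth.Agent.RedSub.H657.FacLoc
import Groth.Agent.Sga3B.DSPts
import Groth.Agent.Sga3B.BcPts

/-!
# The fppf image of a morphism, as a condition on points

`Im φ g`: the point `g` of `G` lifts along `φ : Y ⟶ G` locally for the fppf topology.
-/

set_option autoImplicit false

universe u

open CategoryTheory MonoidalCategory CartesianMonoidalCategory MonObj GrpObj AlgebraicGeometry Limits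
open Groth.Agent
open Groth.Agent.Sga3B Groth.Agent.Sga3B.Parab Groth.Agent.Sga3B.Parab.ConjPt

namespace K546.FppfIm

variable {S S' : Scheme.{u}} {Y G P : Over S}

/-- `g` lifts along `φ` locally for the fppf topology. -/
def Im (φ : Y ⟶ G) {X : Over S} (g : X ⟶ G) : Prop :=
  ∀ x : X.left, ∃ (U : Scheme.{u}) (f : U ⟶ X.left), Flat f ∧ LocallyOfFinitePresentation f ∧
    x ∈ Set.range f ∧ ∃ z : U ⟶ Y.left, z ≫ φ.left = f ≫ g.left

lemma im_of_mem {φ : Y ⟶ G} {X : Over S} {g : X ⟶ G} (h : Mem φ g) : Im φ g := fun x => by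
  obtain ⟨y, rfl⟩ := h
  exact ⟨X.left, 𝟙 _, inferInstance, inferInstance, ⟨x, rfl⟩, y.left, by simp⟩

theorem isLocalPt_im (φ : Y ⟶ G) : EtSub.IsLocalPt (fun _ g => Im φ g) where
  comp {X' X} h g hg x' := by
    obtain ⟨U, f, h1, h2, ⟨u, hu⟩, z, hz⟩ := hg (h.left x')
    obtain ⟨w, hw1, hw2⟩ := Scheme.Pullback.exists_preimage_pullback (f := f) (g := h.left) u x' hu
    refine ⟨pullback f h.left, pullback.snd f h.left, inferInstance, inferInstance, ⟨w, hw2⟩,
      pullback.fst f h.left ≫ z, ?_⟩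
    rw [Category.assoc, hz, Over.comp_left, ← Category.assoc, ← Category.assoc, pullback.condition]
  zariski {X} g 𝒰 H x := by
    obtain ⟨i, y, hy⟩ := 𝒰.exists_eq x
    obtain ⟨U, f, h1, h2, ⟨u, hu⟩, z, hz⟩ := H i y
    refine ⟨U, f ≫ 𝒰.f i, inferInstance, inferInstance, ⟨u, ?_⟩, z, ?_⟩
    · rw [Scheme.Hom.comp_apply]
      exact (congrArg _ hu).trans hy
    · rw [hz]
      simp
  flat {X' X} h g h1 h2 h3 h4 H x := by
    obtain ⟨x', rfl⟩ := h2.surj x
    obtain ⟨U, f, h1, h2, ⟨u, hu⟩, z, hz⟩ := H x'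
    refine ⟨U, f ≫ h.left, inferInstance, inferInstance, ⟨u, ?_⟩, z, ?_⟩
    · rw [Scheme.Hom.comp_apply, hu]
    · rw [hz]
      simp

/-- If `φ` factors through the subobject `p` with a section over `p`, the fppf image of `φ` is
`p`. -/
theorem im_iff_mem {φ : Y ⟶ G} (p : P ⟶ G) [Mono p.left] (h1 : Mem p φ) (h2 : Mem φ p)
    {X : Over S} (g : X ⟶ G) : Im φ g ↔ Mem p g := by
  constructor
  · intro h
    obtain ⟨a, ha⟩ := h1
    obtain ⟨z, hz⟩ := RedSub.H657.FacLoc.exists_fac_of_local g.left p.left fun x => by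
      obtain ⟨U, f, h1, h2, h3, z, hz⟩ := h x
      refine ⟨U, f, h1, h2, h3, z ≫ a.left, ?_⟩
      rw [Category.assoc, ← Over.comp_left, ha, hz]
    refine ⟨Over.homMk z ?_, ?_⟩
    · rw [← Over.w p, ← Category.assoc, hz, Over.w]
    · ext1
      exact hz
  · rintro ⟨y, rfl⟩
    obtain ⟨s, hs⟩ := h2
    exact im_of_mem ⟨y ≫ s, by rw [Category.assoc, hs]⟩

/-- Base change of the fppf image. -/
theorem im_bc_iff [GrpObj G] (f : S' ⟶ S) (φ : Y ⟶ G) {X : Over S'} (g : X ⟶ Red.bc f G) :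
    Im φ ((BcPts.bcEquiv f X G).symm g) ↔ Im ((Over.pullback f).map φ) g := by
  have e : ((BcPts.bcEquiv f X G).symm g).left = g.left ≫ pullback.fst G.hom f :=
    DSPts.bcEquiv_symm_left f X G g
  have sq := EtHom.isPullback_map f φ
  constructor
  · intro h x
    obtain ⟨U, i, h1, h2, h3, z, hz⟩ := h x
    rw [e, ← Category.assoc] at hz
    exact ⟨U, i, h1, h2, h3, sq.lift z (i ≫ g.left) hz, sq.lift_snd _ _ _⟩
  · intro h x
    obtain ⟨U, i, h1, h2, h3, z, hz⟩ := h x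
    refine ⟨U, i, h1, h2, h3, z ≫ EtHom.pr f Y, ?_⟩
    rw [e, Category.assoc, sq.w, reassoc_of% hz]

end K546.FppfIm
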