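import Groth.Prelude.Def_Red
import Mathlib.AlgebraicGeometry.Morphisms.Smooth
import Mathlib.CategoryTheory.Monoidal.Cartesian.Grp

/-!
# The multiplication `A × B ⟶ H` of two subgroups is smooth if it has a section and `A ∩ B` is smooth
-/

set_option autoImplicit false

universe u

open CategoryTheory MonoidalCategory CartesianMonoidalCategory MonObj GrpObj AlgebraicGeometry Limits

namespace K546.MulSec

variable {S : Scheme.{u}} {A B H V : Over S} [GrpObj A] [GrpObj B] [GrpObj H] [GrpObj V]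

theorem respectsIso_smooth : MorphismProperty.RespectsIso @Smooth.{u} :=
  MorphismProperty.IsStableUnderBaseChange.respectsIso

omit [GrpObj A] [GrpObj B] in
lemma tensorHom_mul (a : A ⟶ H) (b : B ⟶ H) :
    (a ⊗ₘ b) ≫ μ[H] = (fst A B ≫ a) * (snd A B ≫ b) := by
  rw [Hom.mul_def, ← lift_fst_comp_snd_comp]

/-- If `A × B ⟶ H` has a section then it is isomorphic to the projection `(A ∩ B) × H ⟶ H`. -/
theorem exists_iso (a : A ⟶ H) (b : B ⟶ H) [IsMonHom a] [IsMonHom b] (v₁ : V ⟶ A) (v₂ : V ⟶ B)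
    (hV : IsPullback v₁ v₂ a b) (σ₁ : H ⟶ A) (σ₂ : H ⟶ B)
    (hσ : (σ₁ ≫ a) * (σ₂ ≫ b) = 𝟙 H) :
    ∃ e : A ⊗ B ≅ V ⊗ H, e.hom ≫ snd V H = (a ⊗ₘ b) ≫ μ[H] := by
  obtain ⟨ψ, hψd⟩ : ∃ ψ : A ⊗ B ⟶ H, ψ = (fst A B ≫ a) * (snd A B ≫ b) := ⟨_, rfl⟩
  have hψ : ψ = (ψ ≫ σ₁ ≫ a) * (ψ ≫ σ₂ ≫ b) := by
    have h := congrArg (fun x => ψ ≫ x) hσ
    simp only [MonObj.comp_mul, Category.comp_id] at h
    exact h.symm
  have hw : ((fst A B)⁻¹ * (ψ ≫ σ₁)) ≫ a = ((snd A B) * (ψ ≫ σ₂)⁻¹) ≫ b := by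
    rw [MonObj.mul_comp, MonObj.mul_comp, GrpObj.inv_comp, GrpObj.inv_comp, Category.assoc,
      Category.assoc, inv_mul_eq_iff_eq_mul, ← _root_.mul_assoc, eq_mul_inv_iff_mul_eq, ← hψd]
    exact hψ.symm
  let w : A ⊗ B ⟶ V := hV.lift _ _ hw
  have hw₁ : w ≫ v₁ = (fst A B)⁻¹ * (ψ ≫ σ₁) := hV.lift_fst _ _ _
  have hw₂ : w ≫ v₂ = (snd A B) * (ψ ≫ σ₂)⁻¹ := hV.lift_snd _ _ _
  let i : V ⊗ H ⟶ A ⊗ B :=
    lift ((snd V H ≫ σ₁) * (fst V H ≫ v₁)⁻¹) ((fst V H ≫ v₂) * (snd V H ≫ σ₂))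
  have hi₁ : i ≫ fst A B = (snd V H ≫ σ₁) * (fst V H ≫ v₁)⁻¹ := lift_fst _ _
  have hi₂ : i ≫ snd A B = (fst V H ≫ v₂) * (snd V H ≫ σ₂) := lift_snd _ _
  have hiψ : i ≫ ψ = snd V H := by
    have h2 : snd V H = (snd V H ≫ σ₁ ≫ a) * (snd V H ≫ σ₂ ≫ b) := by
      have h := congrArg (fun x => snd V H ≫ x) hσ
      simp only [MonObj.comp_mul, Category.comp_id] at h
      exact h.symm
    rw [hψd, MonObj.comp_mul, ← Category.assoc, ← Category.assoc, hi₁, hi₂, MonObj.mul_comp,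
      MonObj.mul_comp, GrpObj.inv_comp, Category.assoc, Category.assoc, Category.assoc,
      Category.assoc, hV.w]
    conv_rhs => rw [h2]
    group
  refine ⟨⟨lift w ψ, i, ?_, ?_⟩, ?_⟩
  · apply CartesianMonoidalCategory.hom_ext
    · rw [Category.assoc, hi₁, MonObj.comp_mul, GrpObj.comp_inv, lift_snd_assoc, lift_fst_assoc, hw₁,
        Category.id_comp]
      group
    · rw [Category.assoc, hi₂, MonObj.comp_mul, lift_snd_assoc, lift_fst_assoc, hw₂,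
        Category.id_comp]
      group
  · apply CartesianMonoidalCategory.hom_ext
    · rw [Category.assoc, lift_fst, Category.id_comp]
      apply hV.hom_ext
      · rw [Category.assoc, hw₁, MonObj.comp_mul, GrpObj.comp_inv, hi₁, ← Category.assoc, hiψ]
        group
      · rw [Category.assoc, hw₂, MonObj.comp_mul, GrpObj.comp_inv, hi₂, ← Category.assoc, hiψ]
        group
    · rw [Category.assoc, lift_snd, Category.id_comp, hiψ]
  · rw [tensorHom_mul, ← hψd]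
    exact lift_snd _ _

/-- **Smoothness and surjectivity of the multiplication.** -/
theorem smooth_surjective (a : A ⟶ H) (b : B ⟶ H) [IsMonHom a] [IsMonHom b] (v₁ : V ⟶ A)
    (v₂ : V ⟶ B) (hV : IsPullback v₁ v₂ a b) [Smooth V.hom] (σ₁ : H ⟶ A) (σ₂ : H ⟶ B)
    (hσ : (σ₁ ≫ a) * (σ₂ ≫ b) = 𝟙 H) :
    Smooth ((a ⊗ₘ b) ≫ μ[H]).left ∧ Surjective ((a ⊗ₘ b) ≫ μ[H]).left := by
  obtain ⟨e, he⟩ := exists_iso a b v₁ v₂ hV σ₁ σ₂ hσ
  have hR := respectsIso_smooth.{u}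
  have h1 : Smooth (snd V H).left := inferInstanceAs (Smooth (pullback.snd V.hom H.hom))
  have h2 : Surjective (snd V H).left := by
    have h : (lift (1 : H ⟶ V) (𝟙 H)).left ≫ (snd V H).left = 𝟙 H.left := by
      rw [← Over.comp_left, lift_snd]
      rfl
    refine ⟨fun x => ⟨(lift (1 : H ⟶ V) (𝟙 H)).left x, ?_⟩⟩
    rw [← Scheme.Hom.comp_apply, h]
    rfl
  have h3 : IsIso e.hom.left := (Over.forget S).map_isIso e.hom
  rw [← he, Over.comp_left]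
  exact ⟨(MorphismProperty.cancel_left_of_respectsIso @Smooth _ _).2 h1, inferInstance⟩

end K546.MulSec
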