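import Groth.Agent.Par.K546.Common
import Groth.Agent.RedSub.H645.BorelEt
import Groth.Agent.RedSub.H664.Transp
import Groth.Agent.Sga3B.AlgBc2

/-!
# Étale local conjugacy of pairs of parabolic subgroups
-/

set_option autoImplicit false

universe u

open CategoryTheory MonoidalCategory CartesianMonoidalCategory MonObj GrpObj AlgebraicGeometry Limits
open Groth.Agent
open Groth.Agent.Sga3B Groth.Agent.Sga3B.Parab Groth.Agent.Sga3B.Parab.ConjPt
open Groth.Agent.RedSub.H645.EtConj Groth.Agent.RedSub.H664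

namespace K546.Pair

variable {S S' : Scheme.{u}} {G P Q P' Q' : Over S} [GrpObj G]

/-- Étale locally at `s` one point of `G` conjugates `P` onto `P'` and `Q` onto `Q'`. -/
def PairLoc (p : P ⟶ G) (p' : P' ⟶ G) (q : Q ⟶ G) (q' : Q' ⟶ G) (s : S) : Prop :=
  ∃ (S' : Scheme.{u}) (f : S' ⟶ S), Etale f ∧ s ∈ Set.range f ∧
    ∃ h : Over.mk f ⟶ G, Conj p p' h ∧ Conj q q' h

variable {p : P ⟶ G} {q : Q ⟶ G} {p' : P' ⟶ G} {q' : Q' ⟶ G}

lemma PairLoc.of_bc [GrpObj P] [GrpObj Q] [GrpObj P'] [GrpObj Q'] (f : S' ⟶ S) [Etale f] {s' : S'}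
    (h : PairLoc ((Over.pullback f).map p)
      ((Over.pullback f).map p') ((Over.pullback f).map q) ((Over.pullback f).map q') s') :
    PairLoc p p' q q' (f s') := by
  obtain ⟨S₂, f₂, h1, ⟨z, rfl⟩, g, hg, hg'⟩ := h
  rw [LC.conj_bc_iff] at hg hg'
  exact ⟨S₂, f₂ ≫ f, inferInstance, ⟨z, Scheme.Hom.comp_apply _ _ _⟩, _, hg, hg'⟩

lemma PairLoc.of_section (g : 𝟙_ (Over S) ⟶ G) (h : Conj p p' g) (h' : Conj q q' g) (s : S) :
    PairLoc p p' q q' s :=
  ⟨S, 𝟙 S, inferInstance, ⟨s, rfl⟩, toUnit (Over.mk (𝟙 S)) ≫ g, h.comp _, h'.comp _⟩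

lemma PairLoc.exists_conj [GrpObj P] [GrpObj Q] [GrpObj P'] [GrpObj Q'] {s : S}
    (h : PairLoc p p' q q' s) :
    ∃ (S' : Scheme.{u}) (f : S' ⟶ S), Etale f ∧ s ∈ Set.range f ∧ ∃ g : 𝟙_ (Over S') ⟶ Red.bc f G,
      Conj ((Over.pullback f).map p) ((Over.pullback f).map p') g ∧
        Conj ((Over.pullback f).map q) ((Over.pullback f).map q') g := by
  obtain ⟨S', f, hf, hs, h, h1, h2⟩ := h
  let c : (Over.map f).obj (𝟙_ (Over S')) ⟶ Over.mk f := Over.homMk (𝟙 S') (by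
    change 𝟙 _ ≫ f = 𝟙 _ ≫ f
    rfl)
  refine ⟨S', f, hf, hs, DSPts.bcEquiv f _ G (c ≫ h), ?_, ?_⟩
  · rw [LC.conj_bc_iff, MulEquiv.symm_apply_apply]
    exact h1.comp c
  · rw [LC.conj_bc_iff, MulEquiv.symm_apply_apply]
    exact h2.comp c

lemma conj_ad [GrpObj P] (p : P ⟶ G) (g : 𝟙_ (Over S) ⟶ G) : Conj p (Ad.ad g p) g :=
  LC.conj_of_iso (Iso.refl _) (by
    rw [Iso.refl_hom, Category.id_comp]
    rfl)

variable [GrpObj P] [GrpObj Q] [GrpObj P'] [GrpObj Q']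

omit [GrpObj P'] in
lemma elConj_ad {s : S} (h : ELConj p p' s) (g : 𝟙_ (Over S) ⟶ G) : ELConj (Ad.ad g p) p' s := by
  obtain ⟨U, f, hf, hs, h, hh⟩ := h
  exact ⟨U, f, hf, hs, h * (toUnit _ ≫ g)⁻¹, hh.mul (((conj_ad p g).comp _).inv)⟩

/-- If `g` conjugates a Borel subgroup of `P` onto one of `P'`, and `P`, `P'` are conjugate étale
locally, then `g` conjugates `P` onto `P'`. -/
theorem conj_of_conj_borel (hG : Red.IsReductive G) (hP : Red.IsParabolic p)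
    (hP' : Red.IsParabolic p') (hconj : ∀ s : S, ELConj p p' s) {B B' : Over S} [GrpObj B]
    [GrpObj B'] {b : B ⟶ G} {b' : B' ⟶ G} (hb' : Red.IsBorel b')
    (c : B ⟶ P) (hc : c ≫ p = b) (c' : B' ⟶ P') (hc' : c' ≫ p' = b') (g : 𝟙_ (Over S) ⟶ G)
    (hg : Conj b b' g) : Conj p p' g := by
  have h1 : Red.IsParabolic (Ad.ad g p) := Transp.isParabolic_ad hP g
  have h2 : Mem b (Ad.ad g⁻¹ b') := by
    rw [hg B' (toUnit B') (Ad.ad g⁻¹ b')]
    have h3 : (toUnit B' ≫ g) * Ad.ad g⁻¹ b' * (toUnit B' ≫ g)⁻¹ = b' := Ad.ad_ad_inv g b'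
    rw [h3]
    exact ⟨𝟙 _, Category.id_comp _⟩
  obtain ⟨z, hz⟩ := h2
  obtain ⟨e, he⟩ := K546.Common.eq_of_common_borel hG h1 hP' b' hb' ⟨z ≫ c, by
    rw [Category.assoc, Ad.comp_ad, hc, Ad.comp_ad, hz, Ad.ad_ad_inv]⟩ ⟨c', hc'⟩
      (fun s => elConj_ad (hconj s) g)
  exact LC.conj_of_iso e he

/-- Two pairs of parabolic subgroups containing common Borel subgroups are conjugate étale
locally. -/
theorem pairLoc_of_borels (hG : Red.IsReductive G) (hP : Red.IsParabolic p)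
    (hP' : Red.IsParabolic p') (hQ : Red.IsParabolic q) (hQ' : Red.IsParabolic q')
    (hpp : ∀ s : S, ELConj p p' s) (hqq : ∀ s : S, ELConj q q' s) {B B' : Over S} [GrpObj B]
    [GrpObj B'] {b : B ⟶ G} {b' : B' ⟶ G} (hb : Red.IsBorel b) (hb' : Red.IsBorel b')
    (c : B ⟶ P) (hc : c ≫ p = b) (c' : B' ⟶ P') (hc' : c' ≫ p' = b')
    (d : B ⟶ Q) (hd : d ≫ q = b) (d' : B' ⟶ Q') (hd' : d' ≫ q' = b') (s : S) :
    PairLoc p p' q q' s := by
  obtain ⟨U, f, hf, ⟨s', rfl⟩, g, hg⟩ :=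
    RedSub.H645.BorelEt.exists_etale_conjEq_of_isBorel hG b b' hb hb' s
  rw [RedSub.H645.ConjEqIff.conjEq_iff] at hg
  have hG' := RedBcAny636.isReductive_bc f hG
  refine PairLoc.of_bc f (PairLoc.of_section g ?_ ?_ s')
  · exact conj_of_conj_borel hG' (RedSub.H648.BorBc.isParabolic_bc f hG hP)
      (RedSub.H648.BorBc.isParabolic_bc f hG hP') (fun u => K546.Common.elConj_bc f (hpp _))
      (RedSub.H648.BorBc.isBorel_bc f hG hb') ((Over.pullback f).map c)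
      (by rw [← Functor.map_comp, hc]) ((Over.pullback f).map c') (by rw [← Functor.map_comp, hc'])
      g hg
  · exact conj_of_conj_borel hG' (RedSub.H648.BorBc.isParabolic_bc f hG hQ)
      (RedSub.H648.BorBc.isParabolic_bc f hG hQ') (fun u => K546.Common.elConj_bc f (hqq _))
      (RedSub.H648.BorBc.isBorel_bc f hG hb') ((Over.pullback f).map d)
      (by rw [← Functor.map_comp, hd]) ((Over.pullback f).map d') (by rw [← Functor.map_comp, hd'])
      g hg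

/-- **Osculating pairs of the same types are conjugate étale locally.** -/
theorem pairLoc_of_osc (hG : Red.IsReductive G) (hP : Red.IsParabolic p)
    (hP' : Red.IsParabolic p') (hQ : Red.IsParabolic q) (hQ' : Red.IsParabolic q')
    (hpp : ∀ s : S, ELConj p p' s) (hqq : ∀ s : S, ELConj q q' s) {I I' : Over S} [GrpObj I]
    [GrpObj I'] {i : I ⟶ G} {i' : I' ⟶ G} (hi : Red.IsParabolic i) (hi' : Red.IsParabolic i')
    (c : I ⟶ P) (hc : c ≫ p = i) (c' : I' ⟶ P') (hc' : c' ≫ p' = i')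
    (d : I ⟶ Q) (hd : d ≫ q = i) (d' : I' ⟶ Q') (hd' : d' ≫ q' = i') (s : S) :
    PairLoc p p' q q' s := by
  obtain ⟨S₁, f, hf, ⟨s₁, rfl⟩, B, _, b, hb⟩ := RedSub.H661.Main.exists_borel_in hG hi s
  have hG₁ := RedBcAny636.isReductive_bc f hG
  refine PairLoc.of_bc f ?_
  obtain ⟨S₂, g, hg, ⟨s₂, rfl⟩, B', _, b', hb'⟩ := RedSub.H661.Main.exists_borel_in hG₁
    (RedSub.H648.BorBc.isParabolic_bc f hG hi') s₁
  have hG₂ := RedBcAny636.isReductive_bc g hG₁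
  refine PairLoc.of_bc g ?_
  have hb₂ := RedSub.H648.BorBc.isBorel_bc g hG₁ hb
  refine pairLoc_of_borels hG₂ (RedSub.H648.BorBc.isParabolic_bc g hG₁
      (RedSub.H648.BorBc.isParabolic_bc f hG hP)) (RedSub.H648.BorBc.isParabolic_bc g hG₁
      (RedSub.H648.BorBc.isParabolic_bc f hG hP')) (RedSub.H648.BorBc.isParabolic_bc g hG₁
      (RedSub.H648.BorBc.isParabolic_bc f hG hQ)) (RedSub.H648.BorBc.isParabolic_bc g hG₁
      (RedSub.H648.BorBc.isParabolic_bc f hG hQ'))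
      (fun u => K546.Common.elConj_bc g (K546.Common.elConj_bc f (hpp _)))
      (fun u => K546.Common.elConj_bc g (K546.Common.elConj_bc f (hqq _))) hb₂ hb'
      ((Over.pullback g).map (b ≫ (Over.pullback f).map c)) ?_
      (b' ≫ (Over.pullback g).map ((Over.pullback f).map c')) ?_
      ((Over.pullback g).map (b ≫ (Over.pullback f).map d)) ?_
      (b' ≫ (Over.pullback g).map ((Over.pullback f).map d')) ?_ s₂
  · rw [← Functor.map_comp, Category.assoc, ← Functor.map_comp, hc]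
  · rw [Category.assoc, ← Functor.map_comp, ← Functor.map_comp, hc']
  · rw [← Functor.map_comp, Category.assoc, ← Functor.map_comp, hd]
  · rw [Category.assoc, ← Functor.map_comp, ← Functor.map_comp, hd']

omit [GrpObj P'] [GrpObj Q'] in
/-- Parabolicity is étale local. -/
theorem isParabolic_of_local (hp : IsMonHom p) (h : ∀ s : S, ∃ (U : Scheme.{u}) (f : U ⟶ S),
    Etale f ∧ s ∈ Set.range f ∧ Red.IsParabolic ((Over.pullback f).map p)) : Red.IsParabolic p := by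
  obtain ⟨J, S', f, -, hf, hh⟩ := RedCover147.exists_isEtCov
    (Q := fun U f => Red.IsParabolic ((Over.pullback f).map p)) h
  exact RedCover147.isParabolic_of_cover hf hp hh

/-- A subgroup with the same points as a parabolic one is parabolic. -/
theorem isParabolic_of_mem_iff (hp : Red.IsParabolic p) (hq : IsMonHom q) (hqm : Mono q)
    (h : ∀ (X : Over S) (y : X ⟶ G), Mem p y ↔ Mem q y) : Red.IsParabolic q := by
  have hpm : Mono p := by
    have := hp.2.1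
    exact Over.mono_of_mono_left p
  have hpg := hp.1
  obtain ⟨a, ha⟩ := (h P p).1 ⟨𝟙 _, Category.id_comp _⟩
  obtain ⟨b, hb⟩ := (h Q q).2 ⟨𝟙 _, Category.id_comp _⟩
  have h1 : a ≫ b = 𝟙 _ := by rw [← cancel_mono p, Category.assoc, hb, ha, Category.id_comp]
  have h2 : b ≫ a = 𝟙 _ := by rw [← cancel_mono q, Category.assoc, ha, hb, Category.id_comp]
  have ham : IsMonHom a := by
    have : IsMonHom (a ≫ q) := by rw [ha]; infer_instance
    exact OppS172.isMonHom_of_comp a q this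
  let e : P ≅ Q := ⟨a, b, h1, h2⟩
  have hem : IsMonHom e.hom := ham
  exact AlgBc.isParabolic_of_arrow (Grp.mkIso' e) (Iso.refl _) (by
    change p ≫ 𝟙 G = a ≫ q
    rw [Category.comp_id, ha]) hp

omit [GrpObj G] [GrpObj P] [GrpObj Q] [GrpObj P'] [GrpObj Q'] in
/-- The points of an intersection. -/
lemma mem_inter {I : Over S} {m : I ⟶ P} {n : I ⟶ Q} (hI : IsPullback m n p q) {X : Over S}
    (y : X ⟶ G) : Mem (m ≫ p) y ↔ Mem p y ∧ Mem q y := by
  constructor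
  · rintro ⟨x, rfl⟩
    exact ⟨⟨x ≫ m, by rw [Category.assoc]⟩, ⟨x ≫ n, by rw [Category.assoc, hI.w]⟩⟩
  · rintro ⟨⟨a, ha⟩, ⟨b, hb⟩⟩
    exact ⟨hI.lift a b (by rw [ha, hb]), by rw [hI.lift_fst_assoc, ha]⟩

omit [GrpObj Q] [GrpObj P'] [GrpObj Q'] in
lemma mem_ad_iff (g : 𝟙_ (Over S) ⟶ G) {X : Over S} (y : X ⟶ G) :
    Mem (Ad.ad g p) y ↔ Mem p (Ad.ad g⁻¹ y) := by
  have h := conj_ad p g X (toUnit X) (Ad.ad g⁻¹ y)
  have h3 : (toUnit X ≫ g) * Ad.ad g⁻¹ y * (toUnit X ≫ g)⁻¹ = y := Ad.ad_ad_inv g y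
  rw [h3] at h
  exact h.symm

omit [GrpObj Q] [GrpObj P'] [GrpObj Q'] in
lemma Conj.mem_ad_iff {g : 𝟙_ (Over S) ⟶ G} (h : Conj p p' g) {X : Over S} (y : X ⟶ G) :
    Mem (Ad.ad g p) y ↔ Mem p' y := by
  have h1 := h X (toUnit X) (Ad.ad g⁻¹ y)
  have h3 : (toUnit X ≫ g) * Ad.ad g⁻¹ y * (toUnit X ≫ g)⁻¹ = y := Ad.ad_ad_inv g y
  rw [h3] at h1
  rw [K546.Pair.mem_ad_iff, h1]

end K546.Pair
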