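import Groth.Agent.Par.K546.LocPQ
import Groth.Agent.Par.K546.FppfIm
import Groth.Agent.Par.K546.MulSec
import Groth.Agent.Par.K546.Pair
import Groth.Agent.Sga3B.Parab.Inter
import Groth.Agent.Sga3B.Parab.DynClosed998
import Groth.Agent.Sga3B.Parab.DynInter998

/-!
# The product `rad^u(P) · (P ∩ Q)`: the local calculation

`P = P_G(α)`, `Q = P_G(β)` with commuting cocharacters, `K = P ∩ Q`, `U = U_G(α)`.

* `smooth_inter`: `K` is smooth;
* `exists_inter_rad`: `U ∩ K` is a smooth group scheme;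
* `exists_N`: `U · K = P_G(Nα + β)` for `N ≫ 0`.
-/

set_option autoImplicit false

universe u

open CategoryTheory MonoidalCategory CartesianMonoidalCategory MonObj GrpObj AlgebraicGeometry Limits
open Groth.Agent
open Groth.Agent.Sga3B Groth.Agent.Sga3B.Parab Groth.Agent.Sga3B.Parab.DynBc998
open Groth.Agent.Sga3B.Parab.ConjPt
open Groth.Agent.RedSub.H664.Comb Groth.Agent.RedSub.H664.Calc2

namespace K546.Prod

section General

variable {S : Scheme.{u}} {G P Q K U : Over S} [GrpObj G] [GrpObj P] [GrpObj Q] [GrpObj K]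
  [GrpObj U] {α β : Red.Gm S ⟶ G} [IsMonHom α] [IsMonHom β] {p : P ⟶ G} {q : Q ⟶ G} {m : K ⟶ P}
  {m' : K ⟶ Q} {u : U ⟶ P}

omit [IsMonHom α] in
lemma ptZ_one {X : Over S} : PtZ α (1 : X ⟶ G) := by
  rw [DynExist998.ptZ_iff_centralizes]
  intro X' x h
  rw [MonObj.comp_one, _root_.mul_one, _root_.one_mul]

omit [GrpObj G] [GrpObj P] [GrpObj Q] [GrpObj K] [GrpObj U] [IsMonHom α] [IsMonHom β] in
lemma mono_m (hK : IsPullback m m' p q) (hq : Mono q) : Mono m :=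
  ⟨fun a b hab => hK.hom_ext hab (by
    rw [← cancel_mono q, Category.assoc, Category.assoc, ← hK.w, reassoc_of% hab])⟩

omit [GrpObj G] [GrpObj P] [GrpObj Q] [GrpObj K] [GrpObj U] [IsMonHom α] [IsMonHom β] in
lemma isClosedImmersion_m (hK : IsPullback m m' p q) (hq : IsClosedImmersion q.left) :
    IsClosedImmersion m.left := by
  have h1 : IsPullback m.left m'.left p.left q.left := hK.map (Over.forget S)
  exact MorphismProperty.of_isPullback (P := @IsClosedImmersion) h1.flip hq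

/-- `P_G(α) ∩ P_G(β) = P_{P_G(α)}(β)`. -/
theorem exists_isDynP_inter [IsAffineHom G.hom] (hc : Comm α β) (hp : IsDynP α p)
    (hq : IsDynP β q) [IsMonHom m] (hK : IsPullback m m' p q) :
    ∃ β' : Red.Gm S ⟶ P, IsMonHom β' ∧ β' ≫ p = β ∧ IsDynP β' m := by
  have hpc := hp.isClosedImmersion
  have hpm := hp.isMonHom
  have hpo := hp.mono
  have hqo := hq.mono
  obtain ⟨β', hβ'⟩ := (hp.iff_ptP _ _).2 (comm_iff_ptZ.1 hc).ptP
  have h1 : IsMonHom β' := by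
    have : IsMonHom (β' ≫ p) := by rw [hβ']; infer_instance
    exact OppS172.isMonHom_of_comp β' p this
  refine ⟨β', h1, hβ', ?_⟩
  have hmm := mono_m hK hqo
  refine DynClosed998.isDynP_of_comp (i := p) fun X g => ?_
  rw [hβ', ← hq.iff_ptP]
  constructor
  · rintro ⟨x, rfl⟩
    exact ⟨x ≫ m', by rw [Category.assoc, Category.assoc, hK.w]⟩
  · rintro ⟨y, hy⟩
    exact ⟨hK.lift g y hy.symm, hK.lift_fst _ _ _⟩

/-- `P_G(α) ∩ P_G(β)` is smooth. -/
theorem smooth_inter (hGa : IsAffineHom G.hom) (hGs : Smooth G.hom) (hc : Comm α β)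
    (hp : IsDynP α p) (hq : IsDynP β q) [IsMonHom m] (hK : IsPullback m m' p q) :
    Smooth K.hom := by
  obtain ⟨β', h1, -, h2⟩ := exists_isDynP_inter hc hp hq hK
  have hpc := hp.isClosedImmersion
  have hPa : IsAffineHom P.hom := isAffineHom_of_closed p hpc hGa
  have hPs : Smooth P.hom := hp.smooth
  exact h2.smooth

/-- `U_G(α) ∩ P_G(β)` is smooth. -/
theorem exists_inter_rad (hGa : IsAffineHom G.hom) (hGs : Smooth G.hom) (hc : Comm α β)
    (hp : IsDynP α p) (hq : IsDynP β q) [IsMonHom m] (hK : IsPullback m m' p q) [IsMonHom u]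
    (hu : IsDynU α (u ≫ p)) :
    ∃ (V : Over S) (_ : GrpObj V) (v₁ : V ⟶ U) (v₂ : V ⟶ K), IsMonHom v₁ ∧ IsMonHom v₂ ∧
      IsPullback v₁ v₂ u m ∧ Smooth V.hom := by
  have hpc := hp.isClosedImmersion
  have hpm := hp.isMonHom
  have hpo := hp.mono
  have hqo := hq.mono
  have hqc := hq.isClosedImmersion
  have hKs := smooth_inter hGa hGs hc hp hq hK
  have hmc := isClosedImmersion_m hK hqc
  have hmo := mono_m hK hqo
  have huo : Mono u := by
    have := hu.mono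
    exact mono_of_mono u p
  have hmp : IsClosedImmersion (m ≫ p).left := by
    rw [Over.comp_left]
    infer_instance
  have hKa : IsAffineHom K.hom := isAffineHom_of_closed (m ≫ p) hmp hGa
  obtain ⟨V, hV, v₁, v₂, h1, h2, hpb⟩ := Inter.exists_inter u m
  refine ⟨V, hV, v₁, v₂, h1, h2, hpb, ?_⟩
  -- `α` factors through `K`
  obtain ⟨a, ha⟩ := (hp.iff_ptP _ _).2 (DynClosed998.ptZ_self (lam := α)).ptP
  obtain ⟨b, hb⟩ := (hq.iff_ptP _ _).2 (comm_iff_ptZ.1 hc.symm).ptP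
  let α' : Red.Gm S ⟶ K := hK.lift a b (by rw [ha, hb])
  have hα' : α' ≫ m ≫ p = α := by
    rw [hK.lift_fst_assoc, ha]
  have hα'm : IsMonHom α' := by
    have : IsMonHom (α' ≫ m ≫ p) := by rw [hα']; infer_instance
    exact OppS172.isMonHom_of_comp α' (m ≫ p) this
  have hv₂m : Mono v₂ := ⟨fun x y hxy => hpb.hom_ext (by
    rw [← cancel_mono u, Category.assoc, Category.assoc, hpb.w, reassoc_of% hxy]) hxy⟩
  have h3 : IsDynU α' v₂ := by
    refine DynClosed998.isDynU_of_comp (i := m ≫ p) fun X g => ?_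
    rw [hα', ← hu.iff_ptU]
    constructor
    · rintro ⟨x, rfl⟩
      exact ⟨x ≫ v₁, by rw [Category.assoc, Category.assoc, reassoc_of% hpb.w]⟩
    · rintro ⟨y, hy⟩
      have h4 : y ≫ u = g ≫ m := by
        rw [← cancel_mono p, Category.assoc, Category.assoc, hy]
      exact ⟨hpb.lift y g h4, hpb.lift_snd _ _ _⟩
  exact h3.smooth

end General

section Affine

variable {R : Type u} [CommRing R] {G P Q K U : Over (Spec (CommRingCat.of R))} [GrpObj G]
  [GrpObj P] [GrpObj Q] [GrpObj K] [GrpObj U] {α β : Red.Gm (Spec (CommRingCat.of R)) ⟶ G}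
  [IsMonHom α] [IsMonHom β] {p : P ⟶ G} {q : Q ⟶ G} {m : K ⟶ P}
  {m' : K ⟶ Q} {u : U ⟶ P}

/-- **`U · K = P_G(Nα + β)` for `N ≫ 0`.** -/
theorem exists_N [IsAffineHom G.hom] [LocallyOfFiniteType G.hom] (hc : Comm α β)
    (hp : IsDynP α p) (hq : IsDynP β q) [IsMonHom m] (hK : IsPullback m m' p q)
    (hu : IsDynU α (u ≫ p)) :
    ∃ N₀ : ℤ, 0 < N₀ ∧ ∀ N ≥ N₀, ∀ {P' : Over (Spec (CommRingCat.of R))} [GrpObj P'] (p' : P' ⟶ G),
      IsDynP (cmb N 1 α β) p' → Mem p' (((u ≫ p) ⊗ₘ (m ≫ p)) ≫ μ[G]) ∧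
        ∃ (σ₁ : P' ⟶ U) (σ₂ : P' ⟶ K), (σ₁ ≫ u ≫ p) * (σ₂ ≫ m ≫ p) = p' := by
  obtain ⟨N₀, hN₀, hN⟩ := RedSub.H664.Calc3.exists_N hc
  refine ⟨N₀, hN₀, fun N hNN P' _ p' hp' => ?_⟩
  have hcm : IsMonHom (cmb N 1 α β) := isMonHom_cmb hc N 1
  constructor
  · rw [K546.MulSec.tensorHom_mul]
    refine (hp'.iff_ptP _ _).2 ?_
    have h1 : PtU α (fst U K ≫ u ≫ p) := hu.ptU.comp _
    have h2 : PtP α (snd U K ≫ m ≫ p) := by
      rw [← Category.assoc]
      exact hp.ptP.comp _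
    have h3 : PtP β (snd U K ≫ m ≫ p) := by
      rw [hK.w, ← Category.assoc]
      exact hq.ptP.comp _
    obtain ⟨z, w, hz, hw, hzw⟩ := h2.exists_levi
    have h4 := RedSub.H664.Calc3.levi_pt hc Kd.P hz hw (by rw [hzw]; exact h3)
    have h5 : PtP (cmb N 1 α β) (snd U K ≫ m ≫ p) :=
      ((hN N hNN _ _).1).2 ⟨z, w, hzw, hz, h4.1, hw⟩
    have h6 : PtP (cmb N 1 α β) (fst U K ≫ u ≫ p) :=
      ((hN N hNN _ _).1).2 ⟨1, _, _root_.one_mul _, ptZ_one, ptZ_one.ptP, h1⟩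
    exact h6.mul h5
  · obtain ⟨z, w, hzw, hz, hz', hw⟩ := ((hN N hNN _ _).1).1 hp'.ptP
    obtain ⟨σ₁, hσ₁⟩ := (hu.iff_ptU _ (z * w * z⁻¹)).2 (hw.conj hz.ptP)
    obtain ⟨a, ha⟩ := (hp.iff_ptP _ z).2 hz.ptP
    obtain ⟨b, hb⟩ := (hq.iff_ptP _ z).2 hz'
    refine ⟨σ₁, hK.lift a b (by rw [ha, hb]), ?_⟩
    rw [hσ₁, hK.lift_fst_assoc, ha, ← hzw]
    group

end Affine

end K546.Prod
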