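import Groth.Agent.Par.K546.TorCochar
import Groth.Agent.Par.K546.LimSec
import Groth.Agent.Par.K546.PairBorel
import Groth.Agent.Par.K546.OfCov
import Groth.Agent.Par.K546.Prod

/-!
# Moving a maximal torus into the intersection of two parabolic subgroups

`exists_conj`: over an affine base, `P`, `Q` parabolic in the reductive group `G`, `T` a maximal
torus of `G` in `P`.  If étale-locally a point of `rad^u(P)` conjugates `T` into `Q` then there is
such a point over the base.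
-/

set_option autoImplicit false

universe u

open CategoryTheory MonoidalCategory CartesianMonoidalCategory MonObj GrpObj AlgebraicGeometry Limits
open Groth.Agent
open Groth.Agent.Sga3B Groth.Agent.Sga3B.Parab Groth.Agent.Sga3B.Parab.ConjPt
open Groth.Agent.RedSub.H661.Core
open K546.LimKey K546.LimTors

namespace K546.ConjTor

/-- The transport condition is local. -/
theorem isLocalPt_tr {S : Scheme.{u}} {G T Q : Over S} [GrpObj G] (t : T ⟶ G) (q : Q ⟶ G)
    [Mono q] : EtSub.IsLocalPt (G := G) (fun _ g => Tr t q g) where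
  comp h g hg := hg.comp h
  zariski {X} g 𝒰 H := by
    intro X' x y
    let 𝒱 : Scheme.OpenCover.{u} X'.left := 𝒰.pullback₁ x.left
    have key : ∀ i, ∃ b : Over.mk (𝒱.f i ≫ X'.hom) ⟶ Over.mk (𝒰.f i ≫ X.hom),
        b ≫ (Over.homMk (𝒰.f i) : Over.mk (𝒰.f i ≫ X.hom) ⟶ X) = Over.homMk (𝒱.f i) ≫ x := by
      intro i
      refine ⟨Over.homMk (Limits.pullback.snd x.left (𝒰.f i)) ?_, ?_⟩
      · change Limits.pullback.snd x.left (𝒰.f i) ≫ 𝒰.f i ≫ X.hom =
          Limits.pullback.fst x.left (𝒰.f i) ≫ X'.hom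
        rw [← Category.assoc, ← Limits.pullback.condition, Category.assoc, Over.w]
      · ext1
        exact Limits.pullback.condition.symm
    refine (isLocalPt_mem q).zariski _ 𝒱 fun i => ?_
    obtain ⟨b, hb⟩ := key i
    have h1 := H i _ b ((Over.homMk (𝒱.f i) : Over.mk (𝒱.f i ≫ X'.hom) ⟶ X') ≫ y)
    rw [← Category.assoc, hb, Category.assoc, Category.assoc] at h1
    rw [MonObj.comp_mul, MonObj.comp_mul, GrpObj.comp_inv]
    exact h1
  flat {X₁ X} h g h1 h2 h3 h4 H := by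
    intro X' x y
    let Z : Over S := Over.mk (Limits.pullback.fst x.left h.left ≫ X'.hom)
    let a : Z ⟶ X' := Over.homMk (Limits.pullback.fst x.left h.left)
    let b : Z ⟶ X₁ := Over.homMk (Limits.pullback.snd x.left h.left) (by
      change _ = Limits.pullback.fst x.left h.left ≫ X'.hom
      rw [← Over.w h, ← Over.w x, ← Category.assoc, ← Category.assoc, Limits.pullback.condition])
    have hab : b ≫ h = a ≫ x := by
      ext1
      exact Limits.pullback.condition.symm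
    have e1 : Flat a.left := inferInstanceAs (Flat (Limits.pullback.fst x.left h.left))
    have e2 : Surjective a.left := inferInstanceAs (Surjective (Limits.pullback.fst x.left h.left))
    have e3 : QuasiCompact a.left :=
      inferInstanceAs (QuasiCompact (Limits.pullback.fst x.left h.left))
    have e4 : LocallyOfFinitePresentation a.left :=
      inferInstanceAs (LocallyOfFinitePresentation (Limits.pullback.fst x.left h.left))
    refine (isLocalPt_mem q).flat a _ e1 e2 e3 e4 ?_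
    have h5 := H Z b (a ≫ y)
    rw [← Category.assoc, hab, Category.assoc, Category.assoc] at h5
    rw [MonObj.comp_mul, MonObj.comp_mul, GrpObj.comp_inv]
    exact h5

/-- **Moving a maximal torus.** -/
theorem exists_conj {A : Type u} [CommRing A] {G P Q T U : Over (Spec (CommRingCat.of A))}
    [GrpObj G] [GrpObj P] [GrpObj Q] [GrpObj T] [GrpObj U] (hG : Red.IsReductive G) {p : P ⟶ G}
    {q : Q ⟶ G} (hP : Red.IsParabolic p) (hQ : Red.IsParabolic q) (t : T ⟶ P) [IsMonHom t]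
    (hT : Red.IsMaximalTorus (t ≫ p)) (uU : U ⟶ P) (hU : Par.IsUnipotentRadical uU)
    (h : ∀ s : Spec (CommRingCat.of A), ∃ (S' : Scheme.{u}) (f : S' ⟶ Spec (CommRingCat.of A)),
      Flat f ∧ LocallyOfFinitePresentation f ∧ s ∈ Set.range f ∧ ∃ u : Over.mk f ⟶ U, Tr (t ≫ p) q (u ≫ uU ≫ p)) :
    ∃ x : 𝟙_ (Over (Spec (CommRingCat.of A))) ⟶ U, Tr (t ≫ p) q (x ≫ uU ≫ p) := by
  obtain ⟨hGa, hGs, -⟩ := id hG
  obtain ⟨hqm, hqc, hqs, -⟩ := id hQ
  have hqm' : Mono q := OppRow172.mono_of_closed q hqc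
  have hpm : IsMonHom p := hP.1
  obtain ⟨α, hα, hd⟩ := K546.TorCochar.exists_cochar hG hP t hT
  have hu : IsDynU (α ≫ t ≫ p) (uU ≫ p) :=
    RedSub.H658.RadDyn.isDynU_of_isUnipotentRadical hG (α ≫ t ≫ p) p hd uU hU
  have htr : ∀ {X : Over (Spec (CommRingCat.of A))} {x : X ⟶ G}, Tr (t ≫ p) q x →
      Tr (α ≫ t ≫ p) q x := by
    intro X x hx X' y s
    have h1 := hx X' y (s ≫ α)
    rwa [Category.assoc] at h1
  have hfx : ∀ {X : Over (Spec (CommRingCat.of A))} (x : X ⟶ U),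
      Tr (t ≫ p) q (x ≫ uU ≫ p) → FX (α ≫ t ≫ p) q (x ≫ uU ≫ p) := fun x hx =>
    ⟨(hu.iff_ptU _ _).1 ⟨x, rfl⟩, htr hx⟩
  obtain ⟨x, hx⟩ := K546.LimSec.exists_section (G := G) (Q := Q) (α := α ≫ t ≫ p) (q := q)
    (fun s => by
      obtain ⟨S', f, hf1, hf2, hs, u, hu'⟩ := h s
      exact ⟨S', f, hf1, hf2, hs, u ≫ uU ≫ p, hfx u hu'⟩)
  obtain ⟨x, rfl⟩ := (hu.iff_ptU _ _).2 hx.1
  refine ⟨x, K546.OfCov.of_cov (isLocalPt_tr (t ≫ p) q) _ fun s => ?_⟩
  obtain ⟨S', f, hf1, hf2, hs, w, hw⟩ := h s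
  refine ⟨S', f, hf1, hf2, hs, ?_⟩
  have h1 := (hfx w hw).comp (snd (𝟙_ (Over (Spec (CommRingCat.of A)))) (Over.mk f))
  have h2 := hx.comp (fst (𝟙_ (Over (Spec (CommRingCat.of A)))) (Over.mk f))
  have h3 := mem_mul_inv h1 h2
  have h4 := hw.comp (snd (𝟙_ (Over (Spec (CommRingCat.of A)))) (Over.mk f))
  intro X' y z
  have h5 := h3.comp y
  have h6 := mem_mul' (mem_mul' (mem_inv' h5) (h4 X' y z)) h5
  rw [MonObj.comp_mul, GrpObj.comp_inv] at h6
  convert h6 using 1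
  group

/-- **The intersection contains a maximal torus.** -/
theorem exists_torus {A : Type u} [CommRing A] {G P Q T U K : Over (Spec (CommRingCat.of A))}
    [GrpObj G] [GrpObj P] [GrpObj Q] [GrpObj T] [GrpObj U] [GrpObj K] (hG : Red.IsReductive G)
    {p : P ⟶ G} {q : Q ⟶ G} (hP : Red.IsParabolic p) (hQ : Red.IsParabolic q) {m : K ⟶ P}
    {m' : K ⟶ Q} (hm : IsMonHom m) (hK : IsPullback m m' p q) (t : T ⟶ P) [IsMonHom t]
    (hT : Red.IsMaximalTorus (t ≫ p)) (uU : U ⟶ P) (hU : Par.IsUnipotentRadical uU)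
    (h : ∀ s : Spec (CommRingCat.of A), ∃ (S' : Scheme.{u}) (f : S' ⟶ Spec (CommRingCat.of A)),
      Flat f ∧ LocallyOfFinitePresentation f ∧ s ∈ Set.range f ∧ ∃ u : Over.mk f ⟶ U, Tr (t ≫ p) q (u ≫ uU ≫ p)) :
    ∃ t' : T ⟶ K, IsMonHom t' ∧ Red.IsMaximalTorus (t' ≫ m ≫ p) := by
  have hpm : IsMonHom p := hP.1
  have hpm' : Mono p := OppRow172.mono_of_closed p hP.2.1
  have hqm' : Mono q := OppRow172.mono_of_closed q hQ.2.1
  obtain ⟨x, hx⟩ := exists_conj hG hP hQ t hT uU hU h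
  have h1 : Mem q (RedSub.H664.Ad.ad (x ≫ uU ≫ p) (t ≫ p)) := by
    have h2 := hx T (toUnit T) (𝟙 T)
    rwa [Category.id_comp] at h2
  have h2 : Mem p (RedSub.H664.Ad.ad (x ≫ uU ≫ p) (t ≫ p)) := by
    refine ⟨RedSub.H664.Ad.ad (x ≫ uU) t, ?_⟩
    rw [RedSub.H664.Ad.ad, RedSub.H664.Ad.ad, MonObj.mul_comp, MonObj.mul_comp, GrpObj.inv_comp]
    simp only [Category.assoc]
  obtain ⟨b, hb⟩ := h1
  obtain ⟨a, ha⟩ := h2
  have h3 : hK.lift a b (by rw [ha, hb]) ≫ m ≫ p =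
      RedSub.H664.Ad.ad (x ≫ uU ≫ p) (t ≫ p) := by
    rw [hK.lift_fst_assoc, ha]
  have h4 : Red.IsMaximalTorus (hK.lift a b (by rw [ha, hb]) ≫ m ≫ p) := by
    rw [h3]
    exact K546.PairBorel.isMaximalTorus_ad hT _
  have h5 : Mono m := K546.Prod.mono_m hK hqm'
  have h6 : IsMonHom (hK.lift a b (by rw [ha, hb]) ≫ m ≫ p) := h4.1
  exact ⟨_, OppS172.isMonHom_of_comp _ (m ≫ p) h6, h4⟩

end K546.ConjTor
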