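import Groth.Agent.Par.K546.ParTor
import Groth.Agent.Par.K546.ConjTor

/-!
# The intersection of two parabolic subgroups contains a maximal torus

`P`, `Q` parabolic, `K = P ∩ Q`, `P' = rad^u(P) K`.  Over an affine base, if `P'` contains a maximal
torus and `K` does flat-locally, then `K` contains a maximal torus.
-/

set_option autoImplicit false

universe u

open CategoryTheory MonoidalCategory CartesianMonoidalCategory MonObj GrpObj AlgebraicGeometry Limits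
open Groth.Agent
open Groth.Agent.Sga3B Groth.Agent.Sga3B.Parab Groth.Agent.Sga3B.Parab.ConjPt
open Groth.Agent.RedSub.H661.Core

namespace K546.CoreInter

variable {S S' : Scheme.{u}}

/-- Transport and base change. -/
theorem tr_of_bc {G T Q : Over S} [GrpObj G] [GrpObj Q] (f : S' ⟶ S) {t : T ⟶ G} {q : Q ⟶ G} {X : Over S'}
    {g : X ⟶ Red.bc f G} (h : Tr ((Over.pullback f).map t) ((Over.pullback f).map q) g) :
    Tr t q ((DSPts.bcEquiv f X G).symm g) := by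
  intro X' x y
  let X₁ : Over S' := Over.mk (x.left ≫ X.hom)
  let x₁ : X₁ ⟶ X := Over.homMk x.left
  let i : (Over.map f).obj X₁ ≅ X' := Over.isoMk (Iso.refl _) (by
    change 𝟙 _ ≫ X'.hom = (x.left ≫ X.hom) ≫ f
    rw [Category.id_comp, Category.assoc, ← Over.w x]
    rfl)
  have hi : i.hom ≫ x = (Over.map f).map x₁ := by
    ext1
    exact Category.id_comp _
  let y₁ : X₁ ⟶ Red.bc f T := (Over.mapPullbackAdj f).homEquiv X₁ T (i.hom ≫ y)
  have hy : y₁ ≫ (Over.pullback f).map t = DSPts.bcEquiv f X₁ G (i.hom ≫ y ≫ t) := by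
    rw [← Category.assoc]
    exact ((Over.mapPullbackAdj f).homEquiv_naturality_right (i.hom ≫ y) t).symm
  have h1 := h X₁ x₁ y₁
  rw [hy, LC.mem_bc_iff, map_mul, map_mul, map_inv, MulEquiv.symm_apply_apply,
    ← DSPts.bcEquiv_symm_naturality, ← hi] at h1
  rw [← LC.mem_iso_iff q i, MonObj.comp_mul, MonObj.comp_mul, GrpObj.comp_inv]
  simpa only [Category.assoc] using h1

/-- Flat-locally the points of `P'` are products of a point of `U` and a point of `K`. -/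
def Dec {G U K P' : Over S} [GrpObj G] (u : U ⟶ G) (k : K ⟶ G) (p' : P' ⟶ G) : Prop :=
  ∀ (X : Over S) (g : X ⟶ P') (x : X.left), ∃ (V : Scheme.{u}) (f : V ⟶ X.left),
    Flat f ∧ LocallyOfFinitePresentation f ∧ x ∈ Set.range f ∧
      ∃ (a : Over.mk (f ≫ X.hom) ⟶ U) (b : Over.mk (f ≫ X.hom) ⟶ K),
        (Over.homMk f : Over.mk (f ≫ X.hom) ⟶ X) ≫ g ≫ p' = (a ≫ u) * (b ≫ k)

/-- **The intersection contains a maximal torus.** -/
theorem exists_torus_of_dec {A : Type u} [CommRing A]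
    {G P Q U K P' T₀ : Over (Spec (CommRingCat.of A))} [GrpObj G] [GrpObj P] [GrpObj Q] [GrpObj U]
    [GrpObj K] [GrpObj P'] [GrpObj T₀] (hG : Red.IsReductive G) {p : P ⟶ G} {q : Q ⟶ G}
    (hP : Red.IsParabolic p) (hQ : Red.IsParabolic q) {m : K ⟶ P} {m' : K ⟶ Q} (hm : IsMonHom m)
    (hK : IsPullback m m' p q) {uU : U ⟶ P} (hU : Par.IsUnipotentRadical uU) {p' : P' ⟶ G}
    (hP' : Red.IsParabolic p') (hdec : Dec (uU ≫ p) (m ≫ p) p') (j : P' ⟶ P) (hj : j ≫ p = p')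
    (b : K ⟶ P') (hb : b ≫ p' = m ≫ p) (t₀ : T₀ ⟶ P') [IsMonHom t₀]
    (hT₀ : Red.IsMaximalTorus (t₀ ≫ p'))
    (hKt : ∀ s : Spec (CommRingCat.of A), ∃ (S' : Scheme.{u}) (f : S' ⟶ Spec (CommRingCat.of A)),
      Etale f ∧ s ∈ Set.range f ∧ ∃ (T₁ : Over S') (_ : GrpObj T₁) (t₁ : T₁ ⟶ Red.bc f K),
        IsMonHom t₁ ∧ Red.IsMaximalTorus (t₁ ≫ (Over.pullback f).map (m ≫ p))) :
    ∃ t' : T₀ ⟶ K, IsMonHom t' ∧ Red.IsMaximalTorus (t' ≫ m ≫ p) := by
  have hpm : IsMonHom p := hP.1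
  have hp'm : IsMonHom p' := hP'.1
  have hpm' : Mono p := OppRow172.mono_of_closed p hP.2.1
  have hp'm' : Mono p' := OppRow172.mono_of_closed p' hP'.2.1
  have hjm : IsMonHom j := OppS172.isMonHom_of_comp j p (by rw [hj]; exact hp'm)
  have hbm : IsMonHom b := OppS172.isMonHom_of_comp b p' (by rw [hb]; infer_instance)
  refine K546.ConjTor.exists_torus hG hP hQ hm hK (t₀ ≫ j) (by
    rw [Category.assoc, hj]; exact hT₀) uU hU fun s => ?_
  obtain ⟨S', f, hf, ⟨s', rfl⟩, T₁, _, t₁, ht₁, hT₁⟩ := hKt s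
  have hG' := RedBcAny636.isReductive_bc f hG
  have hP'' := RedSub.H648.BorBc.isParabolic_bc f hG hP'
  have hlqf := Desc.LQF.of_etale f
  have e1 : (Over.pullback f).map t₀ ≫ (Over.pullback f).map p' =
      (Over.pullback f).map (t₀ ≫ p') := (CategoryTheory.Functor.map_comp _ _ _).symm
  have e2 : (t₁ ≫ (Over.pullback f).map b) ≫ (Over.pullback f).map p' =
      t₁ ≫ (Over.pullback f).map (m ≫ p) := by
    rw [Category.assoc, ← CategoryTheory.Functor.map_comp, hb]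
  obtain ⟨V, π, hπ, ⟨v, rfl⟩, g, hg⟩ := K546.ParTor.exists_tr hG' hP'' ((Over.pullback f).map t₀)
    (t₁ ≫ (Over.pullback f).map b) (by rw [e1]; exact AlgBc.isMaximalTorus_bc f hT₀)
    (by rw [e2]; exact hT₁) s'
  have hg1 : Tr ((Over.pullback f).map t₀) ((Over.pullback f).map b) g := hg.trans t₁ rfl
  have hg2 := tr_of_bc f hg1
  obtain ⟨V', h, h1, h2, ⟨v', rfl⟩, x, y, hxy⟩ := hdec ((Over.map f).obj (Over.mk π))
    ((DSPts.bcEquiv f (Over.mk π) P').symm g)⁻¹ v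
  have hfl : Flat π := inferInstance
  have hfp : LocallyOfFinitePresentation π := inferInstance
  let h' : V' ⟶ V := h
  have h1' : Flat h' := h1
  have h2' : LocallyOfFinitePresentation h' := h2
  refine ⟨V', h ≫ ((Over.map f).obj (Over.mk π)).hom, inferInstanceAs (Flat (h' ≫ π ≫ f)),
    inferInstanceAs (LocallyOfFinitePresentation (h' ≫ π ≫ f)), ⟨v', ?_⟩,
    x⁻¹, fun X' z w => ?_⟩
  · rw [Scheme.Hom.comp_apply]
    exact Scheme.Hom.comp_apply _ _ _
  · obtain ⟨k, hk⟩ := hg2 X' (z ≫ Over.homMk h) w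
    have e3 : k ≫ m ≫ p = ((z ≫ Over.homMk h) ≫ (DSPts.bcEquiv f (Over.mk π) P').symm g ≫ p') *
        (w ≫ t₀ ≫ p') *
        ((z ≫ Over.homMk h) ≫ (DSPts.bcEquiv f (Over.mk π) P').symm g ≫ p')⁻¹ := by
      rw [← hb, ← Category.assoc, hk, MonObj.mul_comp, MonObj.mul_comp, GrpObj.inv_comp]
      simp only [Category.assoc]
    have e4 : ((z ≫ Over.homMk h) ≫ (DSPts.bcEquiv f (Over.mk π) P').symm g ≫ p')⁻¹ =
        (z ≫ x ≫ uU ≫ p) * (z ≫ y ≫ m ≫ p) := by
      rw [← MonObj.comp_mul, ← hxy, GrpObj.inv_comp]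
      simp only [Category.assoc, GrpObj.comp_inv]
    have e5 := congrArg (·⁻¹) e4
    simp only [_root_.inv_inv] at e5
    have e6 : z ≫ x⁻¹ ≫ uU ≫ p = (z ≫ x ≫ uU ≫ p)⁻¹ := by
      have hum : IsMonHom uU := hU.1
      rw [GrpObj.inv_comp, GrpObj.comp_inv]
    refine ⟨((z ≫ y) * k * (z ≫ y)⁻¹) ≫ m', ?_⟩
    rw [Category.assoc, ← hK.w, MonObj.mul_comp, MonObj.mul_comp, GrpObj.inv_comp, e3, e4, e5, e6,
      Category.assoc t₀, hj, Category.assoc z y]
    group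

end K546.CoreInter
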