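import Groth.Agent.RedSub.H664.Transp
import Groth.Agent.RedSub.H661.Main
import Groth.Agent.Sga3.H828.MTGeom
import Groth.Agent.Sga3B.MT.TorusFam
import Groth.Agent.Par.K546.OppBor
import Groth.Agent.Par.K546.Prod

/-!
# Borel subgroups in general position

Two Borel subgroups whose geometric fibres at a point are in general position are in general position over a
neighbourhood of this point.
-/

set_option autoImplicit false
set_option linter.unusedSectionVars false

universe u

open CategoryTheory MonoidalCategory CartesianMonoidalCategory MonObj GrpObj AlgebraicGeometry Limits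
open Groth.Agent
open Groth.Agent.Sga3B Groth.Agent.Sga3B.Parab Groth.Agent.Sga3B.Parab.RedCover147
open Groth.Agent.RedSub.H661 Groth.Agent.RedSub.H661.SixAt Groth.Agent.RedSub.H661.Dense
open Groth.Agent.RedSub.H661.Borels

namespace K546.GenPos

variable {S S' : Scheme.{u}} {G B B' K : Over S} [GrpObj G] [GrpObj B] [GrpObj B'] [GrpObj K]

/-- A pullback of Borel subgroups which étale locally contain Borel subgroups in general position
is a maximal torus after the étale base change. -/
theorem isMaximalTorus_bc_of_body {i : B ⟶ G} {i' : B' ⟶ G} (hB : Red.IsBorel i)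
    (hB' : Red.IsBorel i') {t : K ⟶ B} {t' : K ⟶ B'} [IsMonHom t] (hK : IsPullback t t' i i')
    {C C' T : Over S} [GrpObj C] [GrpObj C'] [GrpObj T] {c : C ⟶ B} {c' : C' ⟶ B'} {w : T ⟶ C}
    {w' : T ⟶ C'} (h1 : Red.IsBorel (c ≫ i)) (h2 : Red.IsBorel (c' ≫ i'))
    (h3 : IsMonHom w) (h4 : IsPullback w w' (c ≫ i) (c' ≫ i'))
    (h5 : Red.IsMaximalTorus (w ≫ c ≫ i)) : Red.IsMaximalTorus (t ≫ i) := by
  have him : IsMonHom i := hB.1
  have him' : IsMonHom i' := hB'.1
  have hic := hB.2.1
  have hic' := hB'.2.1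
  have hi : Mono i := OppRow172.mono_of_closed i hic
  have hi' : Mono i' := OppRow172.mono_of_closed i' hic'
  have hc : IsIso c := isIso_of_isBorel h1 hB c rfl
  have hc' : IsIso c' := isIso_of_isBorel h2 hB' c' rfl
  have h6 : IsPullback (w ≫ c) (w' ≫ c') i i' := by
    refine IsPullback.of_iso h4 (Iso.refl _) (asIso c) (asIso c') (Iso.refl _) ?_ ?_ ?_ ?_
    all_goals simp
  let e : T ≅ K := h6.isoIsPullback _ _ hK
  have he : e.hom ≫ t = w ≫ c := h6.isoIsPullback_hom_fst _ _ hK
  have htm : Mono t := K546.Prod.mono_m hK hi'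
  have hti : Mono (t ≫ i) := inferInstance
  have h7 : e.hom ≫ t ≫ i = w ≫ c ≫ i := by rw [← Category.assoc, he, Category.assoc]
  have h5m := h5.1
  have hem : IsMonHom e.hom := by
    refine OppS172.isMonHom_of_comp e.hom (t ≫ i) ?_
    rw [h7]
    exact h5m
  refine AlgBc.isMaximalTorus_of_arrow (Grp.mkIso' e) (Iso.refl _) ?_ h5
  change (w ≫ c ≫ i) ≫ 𝟙 _ = e.hom ≫ t ≫ i
  rw [Category.comp_id, h7]

/-- **Borel subgroups which are fibrewise transversal are in general position.** -/
theorem isMaximalTorus_of_six (hG : Red.IsReductive G) {i : B ⟶ G} {i' : B' ⟶ G}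
    (hB : Red.IsBorel i) (hB' : Red.IsBorel i') {t : K ⟶ B} {t' : K ⟶ B'} [IsMonHom t]
    (hK : IsPullback t t' i i') (h : ∀ s, Six i i' s) : Red.IsMaximalTorus (t ≫ i) := by
  have him : IsMonHom i := hB.1
  have hic := hB.2.1
  have hic' := hB'.2.1
  have hi : Mono i := OppRow172.mono_of_closed i hic
  have hi' : Mono i' := OppRow172.mono_of_closed i' hic'
  have htm : Mono t := K546.Prod.mono_m hK hi'
  have h1 : ∀ s : S, ∃ (U : Scheme.{u}) (f : U ⟶ S), Etale f ∧ s ∈ Set.range f ∧
      Red.IsMaximalTorus ((Over.pullback f).map (t ≫ i)) := by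
    intro s
    obtain ⟨U, f, hf, hs, C, C', T, _, _, _, c, c', w, w', h1, h2, h3, h4, h5⟩ := h s
    have hqf : LocallyQuasiFinite f := Desc.LQF.of_etale f
    refine ⟨U, f, hf, hs, ?_⟩
    rw [CategoryTheory.Functor.map_comp]
    exact isMaximalTorus_bc_of_body (isBorel_bc f hB) (isBorel_bc f hB')
      (hK.map (Over.pullback f)) h1 h2 h3 h4 h5
  obtain ⟨J, S', f, hf, hc, hh⟩ := exists_isEtCov (Q := fun U f =>
    Red.IsMaximalTorus ((Over.pullback f).map (t ≫ i))) h1
  refine Sga3.H828.MTGeom.isMaximalTorus_of_cover f hc.cov.surj (t ≫ i) inferInstance inferInstance ?_ hh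
  exact MT.isTorus_of_family f (fun j => have := hf j; inferInstance)
    (fun j => have := hf j; (f j).isOpenMap) hc.cov.surj fun j => (hh j).2.2.1

theorem exists_nhd (hG : Red.IsReductive G) (i : B ⟶ G) (i' : B' ⟶ G) (hB : Red.IsBorel i)
    (hB' : Red.IsBorel i') {s : S} (hs : DenseAt i i' s) :
    ∃ V : S.Opens, s ∈ V ∧ ∃ (T : Over (V : Scheme.{u})) (_ : GrpObj T) (t : T ⟶ Red.bc V.ι B)
      (t' : T ⟶ Red.bc V.ι B'),
      IsMonHom t ∧ IsPullback t t' ((Over.pullback V.ι).map i) ((Over.pullback V.ι).map i') ∧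
        Red.IsMaximalTorus (t ≫ (Over.pullback V.ι).map i) := by
  have hP := isParabolic_of_isBorel hB
  have hP' := isParabolic_of_isBorel hB'
  have him : IsMonHom i := hB.1
  have him' : IsMonHom i' := hB'.1
  obtain ⟨U, f, hf, ⟨x, hx⟩, hbody⟩ := Main.six_of_denseAt hG hP hP' hs
  let V : S.Opens := ⟨Set.range f, f.isOpenMap.isOpen_range⟩
  have hV : ∀ v : V, DenseAt i i' (V.ι v) := by
    rintro ⟨_, ⟨y, rfl⟩⟩
    have hqf : LocallyQuasiFinite f := Desc.LQF.of_etale f
    obtain ⟨C, C', T, _, _, _, c, c', w, w', h1, h2, h3, h4, h5⟩ := hbody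
    have hi1 := isBorel_bc f hB
    have hi2 := isBorel_bc f hB'
    have hm1 := hi1.1
    have hm2 := hi2.1
    have h6 := smooth_of_body (isReductive_bc f hG) hi1.2.2.1 hi2.2.2.1
      ⟨C, C', T, inferInstance, inferInstance, inferInstance, c, c', w, w', h1, h2, h3, h4, h5⟩
    exact RedSub.H664.Transp.denseAt_of_bc f
      (Main.denseAt_of_isOpenMap (isReductive_bc f hG) (Scheme.Hom.isOpenMap _) y)
  have hqf : LocallyQuasiFinite V.ι := Desc.LQF.of_etale V.ι
  have hG' := isReductive_bc V.ι hG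
  have hb := isBorel_bc V.ι hB
  have hb' := isBorel_bc V.ι hB'
  have hbm := hb.1
  have hbm' := hb'.1
  have hbc := hb.2.1
  have hbc' := hb'.2.1
  have hi : Mono ((Over.pullback V.ι).map i) := OppRow172.mono_of_closed _ hbc
  have hi' : Mono ((Over.pullback V.ι).map i') := OppRow172.mono_of_closed _ hbc'
  obtain ⟨K, _, t, t', htm, htm', hK⟩ := Inter.exists_inter ((Over.pullback V.ι).map i)
    ((Over.pullback V.ι).map i')
  refine ⟨V, ⟨x, hx⟩, K, inferInstance, t, t', htm, hK, ?_⟩
  exact isMaximalTorus_of_six hG' hb hb' hK fun v => Main.six_of_denseAt hG'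
    (isParabolic_of_isBorel hb) (isParabolic_of_isBorel hb') ((hV v).bc V.ι)

/-- From the geometric fibre. -/
theorem denseAt_of_geom (hG : Red.IsReductive G) {i : B ⟶ G} {i' : B' ⟶ G} (hB : Red.IsBorel i)
    (hB' : Red.IsBorel i') (s : S)
    (hs : ∃ (T : Over (Spec (CommRingCat.of (AlgebraicClosure (S.residueField s))))) (_ : GrpObj T)
      (t : T ⟶ Red.geomFibre s B) (t' : T ⟶ Red.geomFibre s B'), IsMonHom t ∧
        IsPullback t t' ((Over.pullback (Red.geomPt s)).map i) ((Over.pullback (Red.geomPt s)).map i') ∧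
        Red.IsMaximalTorus (t ≫ (Over.pullback (Red.geomPt s)).map i)) : DenseAt i i' s := by
  obtain ⟨T, _, t, t', htm, hpb, hT⟩ := hs
  have hG' := RedBcAny636.isReductive_bc (Red.geomPt s) hG
  have h1 := RedSub.H648.BorBc.isBorel_bc (Red.geomPt s) hG hB
  have h2 := RedSub.H648.BorBc.isBorel_bc (Red.geomPt s) hG hB'
  have h1m := h1.1
  have h2m := h2.1
  have h3 := smooth_borels hG' h1 h2 hpb hT
  have h4 := Main.denseAt_of_isOpenMap hG' (p := (Over.pullback (Red.geomPt s)).map i)
    (q := (Over.pullback (Red.geomPt s)).map i') (Scheme.Hom.isOpenMap _) (IsLocalRing.closedPoint _)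
  have h5 := RedSub.H664.Transp.denseAt_of_bc (Red.geomPt s) h4
  have h6 : (Red.geomPt s) (IsLocalRing.closedPoint _) = s := by
    rw [Scheme.Hom.comp_apply]
    exact Scheme.fromSpecResidueField_apply _ _
  rwa [h6] at h5

end K546.GenPos
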