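import Groth.Agent.Redsub.H656.LocLam
import Groth.Agent.RedSub.H664.Calc3
import Groth.Agent.Par.K546.Common

/-!
# The étale local form of two parabolic subgroups in standard position

`LocForm p q s`: étale locally at `s` one has `P = P_G(α)`, `Q = P_G(β)` for two commuting
cocharacters `α`, `β` of `G`.  This holds if `P ∩ Q` contains a maximal torus of `G` étale locally
at `s` (`locForm_of_torus`).
-/

set_option autoImplicit false

universe u

open CategoryTheory MonoidalCategory CartesianMonoidalCategory MonObj GrpObj AlgebraicGeometry Limits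
open Groth.Agent
open Groth.Agent.Sga3B Groth.Agent.Sga3B.Parab Groth.Agent.Sga3B.Parab.DynBc998
open Groth.Agent.RedSub.H664.Comb

namespace K546.LocPQ

variable {S S' : Scheme.{u}} {G P Q : Over S} [GrpObj G] [GrpObj P] [GrpObj Q]

omit [GrpObj P] [GrpObj Q] in
/-- Commuting cocharacters commute after base change. -/
lemma comm_bc {α β : Red.Gm S ⟶ G} (h : Comm α β) (f : S' ⟶ S) :
    Comm (bcLam α f) (bcLam β f) := by
  rw [comm_iff_ptZ] at h ⊢
  rw [ptZ_bc_iff]
  have h1 : (DSPts.bcEquiv f (Red.Gm S') G).symm (bcLam β f) =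
      (DSPts.bcEquiv f (Red.Gm S') (Red.Gm S)).symm ((TorusAlgClosed.dsBcIso f ℤ).inv.hom.hom) ≫ β := by
    apply (DSPts.bcEquiv f (Red.Gm S') G).injective
    rw [MulEquiv.apply_symm_apply, ← DSPts.bcEquiv_comp, MulEquiv.apply_symm_apply]
    rfl
  rw [h1]
  exact h.comp _

omit [GrpObj P] [GrpObj Q] in
lemma comm_comp {H : Over S} [GrpObj H] {α β : Red.Gm S ⟶ G} (h : Comm α β) (ψ : G ⟶ H)
    [IsMonHom ψ] : Comm (α ≫ ψ) (β ≫ ψ) := by
  intro X s t
  rw [← Category.assoc, ← Category.assoc, ← MonObj.mul_comp, ← MonObj.mul_comp, h]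

/-- Étale locally at `s`: `P = P_G(α)` and `Q = P_G(β)` with commuting cocharacters `α`, `β`. -/
def LocForm (p : P ⟶ G) (q : Q ⟶ G) (s : S) : Prop :=
  ∃ (R : Type u) (_ : CommRing R) (f : Spec (CommRingCat.of R) ⟶ S), Etale f ∧ s ∈ Set.range f ∧
    ∃ (α β : Red.Gm (Spec (CommRingCat.of R)) ⟶ Red.bc f G), IsMonHom α ∧ IsMonHom β ∧
      Comm α β ∧ IsDynP α ((Over.pullback f).map p) ∧ IsDynP β ((Over.pullback f).map q)

/-- The local form descends along étale morphisms. -/
lemma LocForm.of_bc (f : S' ⟶ S) [Etale f] {p : P ⟶ G} {q : Q ⟶ G} {s' : S'} [IsMonHom p]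
    [IsMonHom q] (h : LocForm ((Over.pullback f).map p) ((Over.pullback f).map q) s') :
    LocForm p q (f s') := by
  obtain ⟨R, _, g, hg, ⟨z, rfl⟩, α, β, hα, hβ, hc, h1, h2⟩ := h
  have hψm : IsMonHom (GeomBC147.isoOf (BcIso.bcCompIso g f G).symm).hom :=
    inferInstanceAs (IsMonHom (BcIso.bcCompIso g f G).symm.hom.hom.hom)
  have hn := GeomBC147.symm_w _ _ (GeomFib147.bcCompIso_natural g f p)
  have hn' := GeomBC147.symm_w _ _ (GeomFib147.bcCompIso_natural g f q)
  exact ⟨R, inferInstance, g ≫ f, inferInstance, ⟨z, Scheme.Hom.comp_apply _ _ _⟩,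
    α ≫ (GeomBC147.isoOf (BcIso.bcCompIso g f G).symm).hom,
    β ≫ (GeomBC147.isoOf (BcIso.bcCompIso g f G).symm).hom, inferInstance, inferInstance,
    comm_comp hc _,
    IsDynP.of_iso₂ h1 (GeomBC147.isoOf (BcIso.bcCompIso g f G).symm)
      (q := (Over.pullback (g ≫ f)).map p) (GeomBC147.isoOf (BcIso.bcCompIso g f P).symm) hn.symm,
    IsDynP.of_iso₂ h2 (GeomBC147.isoOf (BcIso.bcCompIso g f G).symm)
      (q := (Over.pullback (g ≫ f)).map q) (GeomBC147.isoOf (BcIso.bcCompIso g f Q).symm) hn'.symm⟩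

lemma exists_affine_nhd (s : S) : ∃ (R : Type u) (_ : CommRing R)
    (j : Spec (CommRingCat.of R) ⟶ S), IsOpenImmersion j ∧ s ∈ Set.range j := by
  obtain ⟨x, hx⟩ := S.affineCover.covers s
  exact ⟨_, _, S.affineCover.f (S.affineCover.idx s),
      inferInstanceAs (IsOpenImmersion (S.affineCover.f _)), x, hx⟩

/-- From a global form. -/
lemma LocForm.of_dyn {p : P ⟶ G} {q : Q ⟶ G} {α β : Red.Gm S ⟶ G} [IsMonHom α] [IsMonHom β]
    (hc : Comm α β) (h1 : IsDynP α p) (h2 : IsDynP β q) (s : S) : LocForm p q s := by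
  obtain ⟨R, _, j, hj, hs⟩ := exists_affine_nhd s
  exact ⟨R, inferInstance, j, inferInstance, hs, bcLam α j, bcLam β j, inferInstance,
    inferInstance, comm_bc hc j, h1.bc j, h2.bc j⟩

/-- **The local form when `P ∩ Q` contains a maximal torus.** -/
theorem locForm_of_torus (hG : Red.IsReductive G) {p : P ⟶ G} {q : Q ⟶ G}
    (hP : Red.IsParabolic p) (hQ : Red.IsParabolic q) {T : Over S} [GrpObj T] (t : T ⟶ P)
    (t' : T ⟶ Q) (ht : IsMonHom t) (ht' : IsMonHom t') (htt' : t ≫ p = t' ≫ q)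
    (hT : Red.IsMaximalTorus (t ≫ p)) (s : S) : LocForm p q s := by
  have hp := hP.1
  have hq := hQ.1
  obtain ⟨S₁, f, hf, ⟨s₁, rfl⟩, lam, hlam, hcomm, hd⟩ :=
    Redsub.H656.LocLam.exists_local hG p hP t hT s
  refine LocForm.of_bc f ?_
  have hfq : LocallyQuasiFinite f := Desc.LQF.of_etale f
  have hG₁ := RedBcAny636.isReductive_bc f hG
  have hQ₁ := RedSub.H648.BorBc.isParabolic_bc f hG hQ
  have hT₁ : Red.IsMaximalTorus ((Over.pullback f).map t' ≫ (Over.pullback f).map q) := by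
    rw [← CategoryTheory.Functor.map_comp, ← htt']
    exact AlgBc.isMaximalTorus_bc f hT
  obtain ⟨S₂, g, hg, ⟨s₂, rfl⟩, mu, hmu, hcomm', hd'⟩ :=
    Redsub.H656.LocLam.exists_local hG₁ _ hQ₁ ((Over.pullback f).map t') hT₁ s₁
  refine LocForm.of_bc g ?_
  have hd₂ := hd.bc g
  have hc : Comm (bcLam (lam ≫ (Over.pullback f).map (t ≫ p)) g)
      (mu ≫ (Over.pullback g).map ((Over.pullback f).map t' ≫ (Over.pullback f).map q)) := by
    have e1 : bcLam (lam ≫ (Over.pullback f).map (t ≫ p)) g =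
        bcLam lam g ≫ (Over.pullback g).map ((Over.pullback f).map (t ≫ p)) := by
      rw [bcLam, bcLam, CategoryTheory.Functor.map_comp, Category.assoc]
    rw [e1, ← CategoryTheory.Functor.map_comp, ← htt']
    exact comm_comp (fun X s t => hcomm' X _ _) _
  have hm1 : IsMonHom (lam ≫ (Over.pullback f).map (t ≫ p)) := inferInstance
  exact LocForm.of_dyn hc hd₂ hd' s₂

end K546.LocPQ
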