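import Groth.Agent.Par.K546.CoreInter
import Groth.Agent.Par.K546.LocPQ

/-!
# Subgroups containing a maximal torus after base change
-/

set_option autoImplicit false

universe u

open CategoryTheory MonoidalCategory CartesianMonoidalCategory MonObj GrpObj AlgebraicGeometry Limits
open Groth.Agent
open Groth.Agent.Sga3B Groth.Agent.Sga3B.Parab Groth.Agent.Sga3B.Parab.ConjPt

namespace K546.HasTor

variable {S S' S'' : Scheme.{u}} {G K L : Over S} [GrpObj G] [GrpObj K] [GrpObj L]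

/-- After base change along `f` the subgroup `k` contains a maximal torus. -/
def HasTor (k : K ⟶ G) {S' : Scheme.{u}} (f : S' ⟶ S) : Prop :=
  ∃ (T : Over S') (_ : GrpObj T) (t : T ⟶ Red.bc f K),
    IsMonHom t ∧ Red.IsMaximalTorus (t ≫ (Over.pullback f).map k)

theorem hasTor_bc_iff (k : K ⟶ G) (f : S' ⟶ S) (h : S'' ⟶ S') :
    HasTor ((Over.pullback f).map k) h ↔ HasTor k (h ≫ f) := by
  constructor
  · rintro ⟨T, _, t, ht, hT⟩
    refine ⟨T, inferInstance, t ≫ (BcIso.bcCompIso h f K).inv.hom.hom, inferInstance, ?_⟩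
    refine AlgBc.isMaximalTorus_of_arrow (Iso.refl _) (BcIso.bcCompIso h f G).symm ?_ hT
    change (t ≫ (Over.pullback h).map ((Over.pullback f).map k)) ≫
      (BcIso.bcCompIso h f G).inv.hom.hom = 𝟙 _ ≫ (t ≫ (BcIso.bcCompIso h f K).inv.hom.hom) ≫
        (Over.pullback (h ≫ f)).map k
    have h1 := GeomBC147.symm_w _ _ (GeomFib147.bcCompIso_natural h f k)
    rw [Category.id_comp, Category.assoc, Category.assoc]
    exact congrArg (fun z => t ≫ z) h1.symm
  · rintro ⟨T, _, t, ht, hT⟩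
    refine ⟨T, inferInstance, t ≫ (BcIso.bcCompIso h f K).hom.hom.hom, inferInstance, ?_⟩
    refine AlgBc.isMaximalTorus_of_arrow (Iso.refl _) (BcIso.bcCompIso h f G) ?_ hT
    change (t ≫ (Over.pullback (h ≫ f)).map k) ≫ (BcIso.bcCompIso h f G).hom.hom.hom =
      𝟙 _ ≫ (t ≫ (BcIso.bcCompIso h f K).hom.hom.hom) ≫
        (Over.pullback h).map ((Over.pullback f).map k)
    rw [Category.id_comp, Category.assoc, Category.assoc, GeomFib147.bcCompIso_natural]

theorem HasTor.comp (hG : Red.IsReductive G) {k : K ⟶ G} {f : S' ⟶ S} (h : HasTor k f)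
    (g : S'' ⟶ S') : HasTor k (g ≫ f) := by
  rw [← hasTor_bc_iff]
  obtain ⟨T, _, t, ht, hT⟩ := h
  refine ⟨Red.bc g T, inferInstance, (Over.pullback g).map t, inferInstance, ?_⟩
  rw [← CategoryTheory.Functor.map_comp]
  exact MaxTorBc636.isMaximalTorus_bc g (RedBcAny636.isReductive_bc f hG) hT

omit [GrpObj K] in
theorem HasTor.trans {k : K ⟶ G} [GrpObj K] {l : L ⟶ K} [IsMonHom l] {f : S' ⟶ S}
    (h : HasTor (l ≫ k) f) : HasTor k f := by
  obtain ⟨T, _, t, ht, hT⟩ := h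
  refine ⟨T, inferInstance, t ≫ (Over.pullback f).map l, inferInstance, ?_⟩
  rwa [Category.assoc, ← CategoryTheory.Functor.map_comp]

/-- Étale-locally `k` contains a maximal torus. -/
def EtTor (k : K ⟶ G) : Prop :=
  ∀ s : S, ∃ (S' : Scheme.{u}) (f : S' ⟶ S), Etale f ∧ s ∈ Set.range f ∧ HasTor k f

/-- Base change. -/
theorem EtTor.bc (hG : Red.IsReductive G) {k : K ⟶ G} (h : EtTor k) (f : S' ⟶ S) :
    EtTor ((Over.pullback f).map k) := by
  intro s'
  obtain ⟨S₁, f₁, hf₁, ⟨s₁, hs₁⟩, h₁⟩ := h (f s')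
  obtain ⟨w, hw1, hw2⟩ := Scheme.Pullback.exists_preimage_pullback (f := f₁) (g := f) s₁ s' hs₁
  refine ⟨pullback f₁ f, pullback.snd f₁ f, inferInstance, ⟨w, hw2⟩, ?_⟩
  rw [hasTor_bc_iff, ← pullback.condition]
  exact h₁.comp hG _

end K546.HasTor
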