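import Groth.Agent.RedSub.H661.Core
import Groth.Agent.Sga3B.Parab.DynClosed998
import Groth.Agent.Sga3B.Parab.DynInter998
import Groth.Agent.Sga3B.Parab.ConjDyn

/-!
# Conjugating a cocharacter into a closed subgroup

`α` a cocharacter of `G`, `Q` a closed subgroup.  `FX α q x`: the point `x` belongs to `U_G(α)` and
`x α x⁻¹` has values in `Q`.

* `mem_mul_inv`: `FX x` and `FX x'` imply `x x'⁻¹ ∈ Q`;
* `FX.mul_left`: conversely `FX x`, `k ∈ Q`, `k x ∈ U_G(α)` imply `FX (k x)`.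
-/

set_option autoImplicit false

universe u

open CategoryTheory MonoidalCategory CartesianMonoidalCategory MonObj GrpObj AlgebraicGeometry Limits
open Groth.Agent
open Groth.Agent.Sga3B Groth.Agent.Sga3B.Parab Groth.Agent.Sga3B.Parab.ConjPt
open Groth.Agent.RedSub.H661.Core Groth.Agent.Sga3B.Parab.Dyn998 Groth.Agent.Sga3B.Parab.AffPts998

namespace K546.LimKey

variable {S : Scheme.{u}} {G Q : Over S}

/-- Membership in a subgroup can be tested on affine points. -/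
theorem mem_of_aff {q : Q ⟶ G} [Mono q] {X : Over S} {v : X ⟶ G}
    (h : ∀ (C : Type u) [CommRing C] (c : Spec (CommRingCat.of C) ⟶ S) (x : aff C c ⟶ X),
      Mem q (x ≫ v)) : Mem q v := by
  refine (isLocalPt_mem q).zariski v X.left.affineCover fun i => ?_
  exact h _ _ _

variable [GrpObj G] [GrpObj Q] {α : Red.Gm S ⟶ G} {q : Q ⟶ G}

/-- The point `x` belongs to `U_G(α)` and conjugates `α` into `Q`. -/
def FX (α : Red.Gm S ⟶ G) (q : Q ⟶ G) {X : Over S} (x : X ⟶ G) : Prop := PtU α x ∧ Tr α q x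

omit [GrpObj Q] in
lemma FX.comp {X X' : Over S} {x : X ⟶ G} (h : FX α q x) (y : X' ⟶ X) : FX α q (y ≫ x) :=
  ⟨h.1.comp y, h.2.comp y⟩

/-- **The key point**: if `x`, `x'` conjugate `α` into `Q` then `x x'⁻¹` belongs to `Q`. -/
theorem mem_mul_inv [IsClosedImmersion q.left] [IsMonHom q] {X : Over S} {x x' : X ⟶ G}
    (h : FX α q x) (h' : FX α q x') : Mem q (x * x'⁻¹) := by
  have hqm : Mono q := Over.mono_of_mono_left q
  refine mem_of_aff fun C _ c y => ?_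
  obtain ⟨l, hl, hl0⟩ := h.1 C c y
  obtain ⟨l', hl', hl0'⟩ := h'.1 C c y
  obtain ⟨a, ha⟩ := h.2 (gmo C c) (gmPr C c ≫ y) (tPt C c)
  obtain ⟨a', ha'⟩ := h'.2 (gmo C c) (gmPr C c ≫ y) (tPt C c)
  let k : lin C c ⟶ G := (linPr C c ≫ y ≫ x) * l⁻¹ * l' * (linPr C c ≫ y ≫ x')⁻¹
  have hk : (a * a'⁻¹) ≫ q = toLin C c ≫ k := by
    rw [MonObj.mul_comp, GrpObj.inv_comp, ha, ha', MonObj.comp_mul, MonObj.comp_mul,
      MonObj.comp_mul, GrpObj.comp_inv, GrpObj.comp_inv, toLin_linPr_assoc, toLin_linPr_assoc,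
      hl, hl', orb, orb, Category.assoc, Category.assoc]
    group
  obtain ⟨k', hk'⟩ := DynClosed998.exists_lift_of_toLin q k _ hk.symm
  have h0 : zeroSec C c ≫ k = y ≫ (x * x'⁻¹) := by
    rw [MonObj.comp_mul, MonObj.comp_mul, MonObj.comp_mul, GrpObj.comp_inv, GrpObj.comp_inv,
      hl0, hl0', zeroSec_linPr_assoc, zeroSec_linPr_assoc, MonObj.comp_mul, GrpObj.comp_inv]
    group
  exact ⟨zeroSec C c ≫ k', by rw [Category.assoc, hk', h0]⟩

omit [GrpObj Q] in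
lemma FX.mul_left [GrpObj Q] [IsMonHom q] {X : Over S} {x k : X ⟶ G} (h : FX α q x)
    (hk : Mem q k) (hu : PtU α (k * x)) : FX α q (k * x) := by
  refine ⟨hu, fun X' y t => ?_⟩
  obtain ⟨a, ha⟩ := h.2 X' y t
  obtain ⟨b, rfl⟩ := hk
  refine ⟨(y ≫ b) * a * (y ≫ b)⁻¹, ?_⟩
  rw [MonObj.mul_comp, MonObj.mul_comp, GrpObj.inv_comp, ha, MonObj.comp_mul, Category.assoc]
  group

end K546.LimKey
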