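import Groth.Agent.Par.K546.LimKey
import Groth.Agent.Par.K546.Pair
import Groth.Agent.Par.K546.PairBorel
import Groth.Agent.Sga3B.CentRep
import Groth.Agent.Sga3B.BorSpan613
import Groth.Agent.Sga3B.TorusIrr

/-!
# The scheme of points of `U_G(α)` conjugating `α` into a closed subgroup

* `exists_tr`: the transporter is represented by a closed subscheme;
* `exists_twist`: the twisted form of `Q`.
-/

set_option autoImplicit false

universe u

open CategoryTheory MonoidalCategory CartesianMonoidalCategory MonObj GrpObj AlgebraicGeometry Limits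
open Groth.Agent
open Groth.Agent.Sga3B Groth.Agent.Sga3B.Parab Groth.Agent.Sga3B.Parab.ConjPt
open Groth.Agent.RedSub.H661.Core Groth.Agent.Sga3B.Parab.Dyn998 Groth.Agent.Sga3B.Parab.AffPts998
open K546.LimKey

namespace K546.LimTors

variable {S : Scheme.{u}} {G Q : Over S}

set_option backward.isDefEq.respectTransparency.types false in
lemma smooth_gm (S : Scheme.{u}) : Smooth (Red.Gm S).hom := by
  have h1 : Smooth (Red.diag (ULift.{u} ℤ) ℤ).hom := TorusAlgClosed.diag_smooth ℤ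
  exact MorphismProperty.pullback_snd _ _ h1

/-- A condition of universal conjugation is local. -/
theorem isLocalPt_forall [GrpObj G] (q : Q ⟶ G) [Mono q] {Φ : ∀ X : Over S, (X ⟶ G) → Prop}
    (hΦ : ∀ {X X' : Over S} (h : X' ⟶ X) (x : X ⟶ G), Φ X x → Φ X' (h ≫ x)) :
    EtSub.IsLocalPt (G := G) (fun X g => ∀ (X' : Over S) (h : X' ⟶ X) (x : X' ⟶ G), Φ X' x →
      Mem q (x * (h ≫ g) * x⁻¹)) where
  comp h g hg X' h' x hx := by
    rw [← Category.assoc]
    exact hg X' (h' ≫ h) x hx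
  zariski {X} g 𝒰 H := by
    intro X' x y hy
    let 𝒱 : Scheme.OpenCover.{u} X'.left := 𝒰.pullback₁ x.left
    have key : ∀ i, ∃ b : Over.mk (𝒱.f i ≫ X'.hom) ⟶ Over.mk (𝒰.f i ≫ X.hom),
        b ≫ (Over.homMk (𝒰.f i) : Over.mk (𝒰.f i ≫ X.hom) ⟶ X) = Over.homMk (𝒱.f i) ≫ x := by
      intro i
      refine ⟨Over.homMk (Limits.pullback.snd x.left (𝒰.f i)) ?_, ?_⟩
      · change Limits.pullback.snd x.left (𝒰.f i) ≫ 𝒰.f i ≫ X.hom =
          Limits.pullback.fst x.left (𝒰.f i) ≫ X'.hom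
        rw [← Category.assoc, ← Limits.pullback.condition, Category.assoc, Over.w]
      · ext1
        exact Limits.pullback.condition.symm
    refine (isLocalPt_mem q).zariski _ 𝒱 fun i => ?_
    obtain ⟨b, hb⟩ := key i
    have h1 := H i _ b _ (hΦ (Over.homMk (𝒱.f i) : Over.mk (𝒱.f i ≫ X'.hom) ⟶ X') y hy)
    rw [← Category.assoc, hb, Category.assoc] at h1
    rw [MonObj.comp_mul, MonObj.comp_mul, GrpObj.comp_inv]
    exact h1
  flat {X₁ X} h g h1 h2 h3 h4 H := by
    intro X' x y hy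
    let Z : Over S := Over.mk (Limits.pullback.fst x.left h.left ≫ X'.hom)
    let a : Z ⟶ X' := Over.homMk (Limits.pullback.fst x.left h.left)
    let b : Z ⟶ X₁ := Over.homMk (Limits.pullback.snd x.left h.left) (by
      change _ = Limits.pullback.fst x.left h.left ≫ X'.hom
      rw [← Over.w h, ← Over.w x, ← Category.assoc, ← Category.assoc, Limits.pullback.condition])
    have hab : b ≫ h = a ≫ x := by
      ext1
      exact Limits.pullback.condition.symm
    have e1 : Flat a.left := inferInstanceAs (Flat (Limits.pullback.fst x.left h.left))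
    have e2 : Surjective a.left := inferInstanceAs (Surjective (Limits.pullback.fst x.left h.left))
    have e3 : QuasiCompact a.left :=
      inferInstanceAs (QuasiCompact (Limits.pullback.fst x.left h.left))
    have e4 : LocallyOfFinitePresentation a.left :=
      inferInstanceAs (LocallyOfFinitePresentation (Limits.pullback.fst x.left h.left))
    refine (isLocalPt_mem q).flat a _ e1 e2 e3 e4 ?_
    have h5 := H Z b _ (hΦ a y hy)
    rw [← Category.assoc, hab, Category.assoc] at h5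
    rw [MonObj.comp_mul, MonObj.comp_mul, GrpObj.comp_inv]
    exact h5

variable [GrpObj G] [GrpObj Q] {α : Red.Gm S ⟶ G} {q : Q ⟶ G}

omit [GrpObj Q] in
/-- The transporter of a cocharacter into a closed subscheme is closed. -/
theorem exists_tr (α : Red.Gm S ⟶ G) (q : Q ⟶ G) [IsClosedImmersion q.left] :
    ∃ (Z : Over S) (z : Z ⟶ G), IsClosedImmersion z.left ∧
      ∀ (T : Over S) (g : T ⟶ G), Mem z g ↔ Tr α q g := by
  have h1 : Smooth (Red.Gm S).hom := smooth_gm S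
  have h2 : GeometricallyIrreducible (Red.Gm S).hom :=
    TorusIrr.geometricallyIrreducible_of_isTorus (BorSpan613.isTorus_Gm S)
  obtain ⟨Z, z, hz, huniv, -⟩ := CentRep.exists_closed_map (X := G) (Q := Red.Gm S)
    (fst G _ * (snd G _ ≫ α) * (fst G _)⁻¹) q
  refine ⟨Z, z, hz, fun T g => ?_⟩
  refine (huniv T g).trans ?_
  refine forall_congr' fun T' => forall_congr' fun x => forall_congr' fun h => ?_
  have e : lift (x ≫ g) h ≫ (fst G (Red.Gm S) * (snd G (Red.Gm S) ≫ α) * (fst G (Red.Gm S))⁻¹) =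
      (x ≫ g) * (h ≫ α) * (x ≫ g)⁻¹ := by
    simp only [MonObj.comp_mul, GrpObj.comp_inv, lift_fst, lift_snd_assoc]
  rw [e]
  rfl

lemma mem_mul' [IsMonHom q] {X : Over S} {x y : X ⟶ G} (hx : Mem q x) (hy : Mem q y) :
    Mem q (x * y) := by
  obtain ⟨a, rfl⟩ := hx
  obtain ⟨b, rfl⟩ := hy
  exact ⟨a * b, MonObj.mul_comp _ _ _⟩

lemma mem_inv' [IsMonHom q] {X : Over S} {x : X ⟶ G} (hx : Mem q x) : Mem q x⁻¹ := by
  obtain ⟨a, rfl⟩ := hx
  exact ⟨a⁻¹, GrpObj.inv_comp _ _⟩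

/-- If `x`, `x'` conjugate `α` into `Q`, conjugation by `x` and by `x'` differ by an element
of `Q`. -/
theorem mem_conj_of_mem [IsClosedImmersion q.left] [IsMonHom q] {X : Over S} {x x' g : X ⟶ G}
    (h : FX α q x) (h' : FX α q x') (hg : Mem q (x' * g * x'⁻¹)) : Mem q (x * g * x⁻¹) := by
  have h1 := mem_mul_inv h h'
  have h2 := mem_mul' (mem_mul' h1 hg) (mem_inv' h1)
  have e : x * x'⁻¹ * (x' * g * x'⁻¹) * (x * x'⁻¹)⁻¹ = x * g * x⁻¹ := by group
  rwa [e] at h2

omit [GrpObj G] [GrpObj Q] in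
lemma iso_of_mem_iff {P P' : Over S} {p : P ⟶ G} {p' : P' ⟶ G} [Mono p] [Mono p']
    (h : ∀ (X : Over S) (y : X ⟶ G), Mem p y ↔ Mem p' y) : ∃ e : P ≅ P', e.hom ≫ p' = p := by
  obtain ⟨a, ha⟩ := (h P p).1 ⟨𝟙 _, Category.id_comp _⟩
  obtain ⟨b, hb⟩ := (h P' p').2 ⟨𝟙 _, Category.id_comp _⟩
  exact ⟨⟨a, b, by rw [← cancel_mono p, Category.assoc, hb, ha, Category.id_comp],
    by rw [← cancel_mono p', Category.assoc, ha, hb, Category.id_comp]⟩, ha⟩

lemma isClosedImmersion_ad {P : Over S} {p : P ⟶ G} (hp : IsClosedImmersion p.left)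
    (g : 𝟙_ (Over S) ⟶ G) : IsClosedImmersion (RedSub.H664.Ad.ad g p).left := by
  rw [K546.PairBorel.ad_eq_comp, Over.comp_left]
  have h1 : IsIso (RedSub.H661.Core.innerIso g).hom.left :=
    (Over.forget _).map_isIso (RedSub.H661.Core.innerIso g).hom
  infer_instance

/-- Flat-locally there is a point of `U_G(α)` conjugating `α` into `Q`. -/
def LocFX (α : Red.Gm S ⟶ G) (q : Q ⟶ G) : Prop :=
  ∀ s : S, ∃ (S' : Scheme.{u}) (f : S' ⟶ S), Flat f ∧ LocallyOfFinitePresentation f ∧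
    s ∈ Set.range f ∧ ∃ x : Over.mk f ⟶ G, FX α q x

/-- **The twisted form of `Q`.** -/
theorem exists_twist [IsClosedImmersion q.left] [IsMonHom q] [Smooth Q.hom] (h : LocFX α q) :
    ∃ (Q₁ : Over S) (_ : GrpObj Q₁) (q₁ : Q₁ ⟶ G), IsMonHom q₁ ∧ IsClosedImmersion q₁.left ∧
      Smooth Q₁.hom ∧ ∀ (X : Over S) (g : X ⟶ G), Mem q₁ g ↔
        ∀ (X' : Over S) (h : X' ⟶ X) (x : X' ⟶ G), FX α q x → Mem q (x * (h ≫ g) * x⁻¹) := by
  have hqm : Mono q := Over.mono_of_mono_left q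
  have key : ∀ (S' : Scheme.{u}) (f : S' ⟶ S) (x₀ : Over.mk f ⟶ G), FX α q x₀ →
      ∃ x₁ : 𝟙_ (Over S') ⟶ Red.bc f G, ∀ (X : Over S') (g : X ⟶ Red.bc f G),
        Mem (RedSub.H664.Ad.ad x₁ ((Over.pullback f).map q)) g ↔
        ∀ (X' : Over S) (h : X' ⟶ (Over.map f).obj X) (x : X' ⟶ G), FX α q x →
          Mem q (x * (h ≫ (DSPts.bcEquiv f X G).symm g) * x⁻¹) := by
    intro S' f x₀ hx₀
    let c : (Over.map f).obj (𝟙_ (Over S')) ⟶ Over.mk f := Over.homMk (𝟙 S') (by
      change 𝟙 _ ≫ f = 𝟙 _ ≫ f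
      rfl)
    refine ⟨(DSPts.bcEquiv f (𝟙_ (Over S')) G (c ≫ x₀))⁻¹, fun X g => ?_⟩
    rw [K546.Pair.mem_ad_iff, _root_.inv_inv, LC.mem_bc_iff, RedSub.H664.Ad.ad, map_mul, map_mul, map_inv,
      ← DSPts.bcEquiv_symm_naturality, MulEquiv.symm_apply_apply]
    have h1 : FX α q ((Over.map f).map (toUnit X) ≫ c ≫ x₀) := (hx₀.comp c).comp _
    constructor
    · intro h2 X' h x hx
      refine mem_conj_of_mem hx (h1.comp h) ?_
      have h3 := h2.comp h
      rwa [MonObj.comp_mul, MonObj.comp_mul, GrpObj.comp_inv] at h3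
    · intro h2
      have h3 := h2 _ (𝟙 _) _ h1
      rwa [Category.id_comp] at h3
  obtain ⟨Q₁, i1, q₁, h1, h2, h3⟩ := EtSub.exists_closed_subgroup
    (isLocalPt_forall q (Φ := fun _ x => FX α q x) (fun h x hx => hx.comp h))
    (fun X X' h x hx => by
      rw [MonObj.comp_one, _root_.mul_one, mul_inv_cancel]
      exact ⟨1, MonObj.one_comp _⟩)
    (fun X g g' hg hg' X' h x hx => by
      have h4 := mem_mul' (hg X' h x hx) (hg' X' h x hx)
      have e : x * (h ≫ g) * x⁻¹ * (x * (h ≫ g') * x⁻¹) = x * (h ≫ (g * g')) * x⁻¹ := by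
        rw [MonObj.comp_mul]
        group
      rwa [e] at h4)
    (fun X g hg X' h x hx => by
      have h4 := mem_inv' (hg X' h x hx)
      have e : (x * (h ≫ g) * x⁻¹)⁻¹ = x * (h ≫ g⁻¹) * x⁻¹ := by
        rw [GrpObj.comp_inv]
        group
      rwa [e] at h4)
    (fun s => by
      obtain ⟨S', f, hf1, hf2, hs, x₀, hx₀⟩ := h s
      obtain ⟨x₁, hx₁⟩ := key S' f x₀ hx₀
      have hcl := RedCover147.isClosedImmersion_bc f (i := q) inferInstance
      exact ⟨S', f, hf1, hf2, hs, Red.bc f Q,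
        RedSub.H664.Ad.ad x₁ ((Over.pullback f).map q), isClosedImmersion_ad hcl _,
        hx₁⟩)
  refine ⟨Q₁, i1, q₁, h1, h2, ?_, h3⟩
  choose S' f hf1 hf2 hs hh using h
  have hf : EtHom.IsCov f := ⟨hf1, hf2, fun s => ⟨s, hs s⟩⟩
  refine RedCover147.hom_of_cover @Smooth hf _ fun i => ?_
  obtain ⟨x₀, hx₀⟩ := hh i
  obtain ⟨x₁, hx₁⟩ := key _ _ x₀ hx₀
  have hcl := RedCover147.isClosedImmersion_bc (f i) (i := q) inferInstance
  have hcl₁ := RedCover147.isClosedImmersion_bc (f i) (i := q₁) inferInstance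
  have hcl₂ := isClosedImmersion_ad hcl x₁
  have hm₁ : Mono ((Over.pullback (f i)).map q₁) := Over.mono_of_mono_left _
  have hm₂ : Mono (RedSub.H664.Ad.ad x₁ ((Over.pullback (f i)).map q)) :=
    Over.mono_of_mono_left _
  obtain ⟨e, -⟩ := iso_of_mem_iff (p := (Over.pullback (f i)).map q₁)
    (p' := RedSub.H664.Ad.ad x₁ ((Over.pullback (f i)).map q)) (fun X g => by
      rw [hx₁, LC.mem_bc_iff]
      exact h3 _ _)
  have h4 : IsIso e.hom.left := (Over.forget _).map_isIso e.hom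
  have h5 : Smooth (Red.bc (f i) Q).hom :=
    inferInstanceAs (Smooth (Limits.pullback.snd Q.hom (f i)))
  rw [← Over.w e.hom]
  infer_instance

end K546.LimTors
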