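import Groth.Agent.Par.K546.Prod
import Groth.Agent.Par.K546.PairBorel
import Groth.Agent.RedSub.H658.RadDyn
import Groth.Agent.Sga3B.Parab.LeviDesc147

/-!
# The parabolic subgroup `P' = rad^u(P) · (P ∩ Q)`

`main`: if étale locally `P = P_G(α)`, `Q = P_G(β)` with commuting cocharacters (for example if
`P ∩ Q` contains a maximal torus of `G` étale locally), there is a parabolic subgroup `P'` of `G`
which is the fppf image of the multiplication `rad^u(P) × (P ∩ Q) ⟶ G`.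
-/

set_option autoImplicit false

universe u

open CategoryTheory MonoidalCategory CartesianMonoidalCategory MonObj GrpObj AlgebraicGeometry Limits
open Groth.Agent
open Groth.Agent.Sga3B Groth.Agent.Sga3B.Parab Groth.Agent.Sga3B.Parab.ConjPt
open Groth.Agent.RedSub.H664.Comb
open K546.FppfIm K546.LocPQ

namespace K546.ProdGlob

variable {S S' : Scheme.{u}} {G P Q K U : Over S} [GrpObj G] [GrpObj P] [GrpObj Q] [GrpObj K]
  [GrpObj U]

section Im

variable {Y : Over S} {φ : Y ⟶ G}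

omit [GrpObj G] in
lemma im_iff_over {X : Over S} (g : X ⟶ G) : Im φ g ↔ ∀ x : X.left, ∃ (U' : Over S) (f : U' ⟶ X),
    Flat f.left ∧ LocallyOfFinitePresentation f.left ∧ x ∈ Set.range f.left ∧ Mem φ (f ≫ g) := by
  constructor
  · intro h x
    obtain ⟨U, f, h1, h2, h3, z, hz⟩ := h x
    refine ⟨Over.mk (f ≫ X.hom), Over.homMk f, h1, h2, h3, Over.homMk z ?_, ?_⟩
    · rw [← Over.w φ, ← Category.assoc, hz, Category.assoc, Over.w]
      rfl
    · ext1
      exact hz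
  · intro h x
    obtain ⟨U, f, h1, h2, h3, z, hz⟩ := h x
    exact ⟨U.left, f.left, h1, h2, h3, z.left, by rw [← Over.comp_left, hz, Over.comp_left]⟩

/-- common refinement of two local coverings -/
lemma exists_common {X : Over S} {x : X.left} {U₁ U₂ : Over S} (f₁ : U₁ ⟶ X) (f₂ : U₂ ⟶ X)
    (h1 : Flat f₁.left) (h2 : LocallyOfFinitePresentation f₁.left) (h3 : x ∈ Set.range f₁.left)
    (h1' : Flat f₂.left) (h2' : LocallyOfFinitePresentation f₂.left) (h3' : x ∈ Set.range f₂.left) :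
    ∃ (W : Over S) (g₁ : W ⟶ U₁) (g₂ : W ⟶ U₂), g₁ ≫ f₁ = g₂ ≫ f₂ ∧ Flat (g₁ ≫ f₁).left ∧
      LocallyOfFinitePresentation (g₁ ≫ f₁).left ∧ x ∈ Set.range (g₁ ≫ f₁).left := by
  obtain ⟨y₁, hy₁⟩ := h3
  obtain ⟨y₂, hy₂⟩ := h3'
  obtain ⟨w, hw1, hw2⟩ := Scheme.Pullback.exists_preimage_pullback (f := f₁.left) (g := f₂.left)
    y₁ y₂ (hy₁.trans hy₂.symm)
  let g₁ : Over.mk (pullback.fst f₁.left f₂.left ≫ U₁.hom) ⟶ U₁ :=
    Over.homMk (pullback.fst f₁.left f₂.left)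
  let g₂ : Over.mk (pullback.fst f₁.left f₂.left ≫ U₁.hom) ⟶ U₂ :=
    Over.homMk (pullback.snd f₁.left f₂.left) (by
      change _ = pullback.fst f₁.left f₂.left ≫ U₁.hom
      rw [← Over.w f₁, ← Over.w f₂, ← Category.assoc, ← Category.assoc, pullback.condition])
  have hl : (g₁ ≫ f₁).left = pullback.fst f₁.left f₂.left ≫ f₁.left := rfl
  refine ⟨_, g₁, g₂, ?_, ?_, ?_, ?_⟩
  · ext1
    exact pullback.condition
  · rw [hl]
    infer_instance
  · rw [hl]
    infer_instance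
  · rw [hl]
    exact ⟨w, by rw [Scheme.Hom.comp_apply, hw1, hy₁]⟩

end Im

/-- the product of two subgroups `U`, `K` of `G` -/
noncomputable abbrev phi (uU : U ⟶ P) (m : K ⟶ P) (p : P ⟶ G) : U ⊗ K ⟶ G :=
  ((uU ≫ p) ⊗ₘ (m ≫ p)) ≫ μ[G]

section Grp

variable {uU : U ⟶ P} {m : K ⟶ P} {p : P ⟶ G}

omit [GrpObj P] [GrpObj K] [GrpObj U] in
lemma mem_phi_iff {X : Over S} (g : X ⟶ G) :
    Mem (phi uU m p) g ↔ ∃ (a : X ⟶ U) (k : X ⟶ K), (a ≫ uU ≫ p) * (k ≫ m ≫ p) = g := by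
  constructor
  · rintro ⟨y, rfl⟩
    refine ⟨y ≫ fst _ _, y ≫ snd _ _, ?_⟩
    rw [phi, K546.MulSec.tensorHom_mul, MonObj.comp_mul, Category.assoc, Category.assoc]
  · rintro ⟨a, k, rfl⟩
    refine ⟨lift a k, ?_⟩
    rw [phi, K546.MulSec.tensorHom_mul, MonObj.comp_mul, lift_fst_assoc, lift_snd_assoc]

variable [IsMonHom p] [IsMonHom m] [IsMonHom uU]

lemma mem_phi_mul (hn : AlgGrp.IsNormalHom uU) {X : Over S} {g h : X ⟶ G}
    (hg : Mem (phi uU m p) g) (hh : Mem (phi uU m p) h) : Mem (phi uU m p) (g * h) := by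
  rw [mem_phi_iff] at *
  obtain ⟨a, k, rfl⟩ := hg
  obtain ⟨a', k', rfl⟩ := hh
  obtain ⟨b, hb⟩ := hn X (k ≫ m) a'
  refine ⟨a * b, k * k', ?_⟩
  have hb' : b ≫ uU ≫ p = (k ≫ m ≫ p) * (a' ≫ uU ≫ p) * (k ≫ m ≫ p)⁻¹ := by
    rw [← Category.assoc, ← hb, MonObj.mul_comp, MonObj.mul_comp, GrpObj.inv_comp,
      Category.assoc, Category.assoc]
  rw [MonObj.mul_comp a b (uU ≫ p), MonObj.mul_comp k k' (m ≫ p), hb']
  group

lemma mem_phi_inv (hn : AlgGrp.IsNormalHom uU) {X : Over S} {g : X ⟶ G}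
    (hg : Mem (phi uU m p) g) : Mem (phi uU m p) g⁻¹ := by
  rw [mem_phi_iff] at *
  obtain ⟨a, k, rfl⟩ := hg
  obtain ⟨b, hb⟩ := hn X (k⁻¹ ≫ m) a⁻¹
  refine ⟨b, k⁻¹, ?_⟩
  have hb' : b ≫ uU ≫ p = (k ≫ m ≫ p)⁻¹ * (a ≫ uU ≫ p)⁻¹ * (k ≫ m ≫ p) := by
    rw [← Category.assoc, ← hb, MonObj.mul_comp, MonObj.mul_comp, GrpObj.inv_comp,
      GrpObj.inv_comp, GrpObj.inv_comp, GrpObj.inv_comp, GrpObj.inv_comp, GrpObj.inv_comp,
      Category.assoc, Category.assoc, _root_.inv_inv]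
  rw [hb', GrpObj.inv_comp]
  group

theorem im_mul (hn : AlgGrp.IsNormalHom uU) (X : Over S) (g h : X ⟶ G)
    (hg : Im (phi uU m p) g) (hh : Im (phi uU m p) h) : Im (phi uU m p) (g * h) := by
  rw [im_iff_over] at *
  intro x
  obtain ⟨U₁, f₁, h1, h2, h3, hm⟩ := hg x
  obtain ⟨U₂, f₂, h1', h2', h3', hm'⟩ := hh x
  obtain ⟨W, g₁, g₂, e, h4, h5, h6⟩ := exists_common f₁ f₂ h1 h2 h3 h1' h2' h3'
  refine ⟨W, g₁ ≫ f₁, h4, h5, h6, ?_⟩
  rw [MonObj.comp_mul]
  refine mem_phi_mul hn ?_ ?_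
  · rw [Category.assoc]
    exact hm.comp g₁
  · rw [e, Category.assoc]
    exact hm'.comp g₂

theorem im_inv (hn : AlgGrp.IsNormalHom uU) (X : Over S) (g : X ⟶ G)
    (hg : Im (phi uU m p) g) : Im (phi uU m p) g⁻¹ := by
  rw [im_iff_over] at *
  intro x
  obtain ⟨U₁, f₁, h1, h2, h3, hm⟩ := hg x
  refine ⟨U₁, f₁, h1, h2, h3, ?_⟩
  rw [GrpObj.comp_inv]
  exact mem_phi_inv hn hm

end Grp

/-- Surjectivity is étale local on the base. -/
lemma surjective_of_local {X Y : Over S} (ψ : X ⟶ Y) (h : ∀ s : S, ∃ (U : Scheme.{u}) (f : U ⟶ S),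
    s ∈ Set.range f ∧ Surjective ((Over.pullback f).map ψ).left) : Surjective ψ.left := by
  refine ⟨fun y => ?_⟩
  obtain ⟨U, f, ⟨s', hs'⟩, hf⟩ := h (Y.hom y)
  obtain ⟨y', hy1, hy2⟩ := Scheme.Pullback.exists_preimage_pullback (f := Y.hom) (g := f) y s' hs'.symm
  obtain ⟨x', hx'⟩ := hf.surj y'
  refine ⟨EtHom.pr f X x', ?_⟩
  rw [← Scheme.Hom.comp_apply, (EtHom.isPullback_map f ψ).w, Scheme.Hom.comp_apply, hx']
  exact hy1

omit [GrpObj G] [GrpObj P] [GrpObj Q] [GrpObj K] [GrpObj U] in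
/-- change of the target of a cartesian square -/
lemma isPullback_of_mono {V H : Over S} {v₁ : V ⟶ U} {v₂ : V ⟶ K} {x : U ⟶ P} {y : K ⟶ P}
    {x' : U ⟶ H} {y' : K ⟶ H} {j : P ⟶ G} {j' : H ⟶ G} [Mono j] [Mono j']
    (h : IsPullback v₁ v₂ x y) (hx : x' ≫ j' = x ≫ j) (hy : y' ≫ j' = y ≫ j) :
    IsPullback v₁ v₂ x' y' := by
  have h1 : IsPullback v₁ v₂ (x ≫ j) (y ≫ j) := RedSub.H661.SixAt.isPullback_comp_mono h j
  rw [← hx, ← hy] at h1
  have hw : v₁ ≫ x' = v₂ ≫ y' := by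
    rw [← cancel_mono j', Category.assoc, Category.assoc, h1.w]
  refine IsPullback.mk ⟨hw⟩ ⟨Limits.PullbackCone.IsLimit.mk _ (fun s => h1.lift s.fst s.snd ?_) ?_ ?_ ?_⟩
  · rw [← Category.assoc, s.condition, Category.assoc]
  · intro s
    exact h1.lift_fst _ _ _
  · intro s
    exact h1.lift_snd _ _ _
  · intro s k h2 h3
    exact h1.hom_ext (by rw [h2, h1.lift_fst]) (by rw [h3, h1.lift_snd])

/-- The étale local description of `P' = rad^u(P) · (P ∩ Q)` at the point `s`. -/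
def LocProd (p : P ⟶ G) (q : Q ⟶ G) {P' : Over S} [GrpObj P'] (p' : P' ⟶ G) (s : S) : Prop :=
  ∃ (R : Type u) (_ : CommRing R) (f : Spec (CommRingCat.of R) ⟶ S), Etale f ∧ s ∈ Set.range f ∧
    ∃ (α β : Red.Gm (Spec (CommRingCat.of R)) ⟶ Red.bc f G), IsMonHom α ∧ IsMonHom β ∧
      Comm α β ∧ IsDynP α ((Over.pullback f).map p) ∧ IsDynP β ((Over.pullback f).map q) ∧
      ∃ N₀ : ℤ, ∀ N ≥ N₀, IsDynP (cmb N 1 α β) ((Over.pullback f).map p')

/-- **The parabolic subgroup `P' = rad^u(P) · (P ∩ Q)`.** -/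
theorem main (hG : Red.IsReductive G) {p : P ⟶ G} {q : Q ⟶ G} (hP : Red.IsParabolic p)
    (hQ : Red.IsParabolic q) {m : K ⟶ P} {m' : K ⟶ Q} [IsMonHom m] (hK : IsPullback m m' p q)
    {uU : U ⟶ P} (hU : Par.IsUnipotentRadical uU) (hloc : ∀ s : S, LocForm p q s) :
    ∃ (P' : Over S) (_ : GrpObj P') (p' : P' ⟶ G) (a : U ⟶ P') (b : K ⟶ P'),
      Red.IsParabolic p' ∧ IsMonHom a ∧ IsMonHom b ∧ a ≫ p' = uU ≫ p ∧ b ≫ p' = m ≫ p ∧
      Smooth ((a ⊗ₘ b) ≫ μ[P']).left ∧ Surjective ((a ⊗ₘ b) ≫ μ[P']).left ∧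
      ∀ s : S, LocProd p q p' s := by
  have hp := hP.1
  have hq := hQ.1
  have huU := hU.1
  have hGa := hG.1
  have hGs := hG.2.1
  have hpm : Mono p := OppRow172.mono_of_closed p hP.2.1
  have hqm : Mono q := OppRow172.mono_of_closed q hQ.2.1
  have hn : AlgGrp.IsNormalHom uU := hU.2.2.1
  -- the local calculation
  have key : ∀ s : S, ∃ (R : Type u) (_ : CommRing R) (f : Spec (CommRingCat.of R) ⟶ S),
      Etale f ∧ s ∈ Set.range f ∧
      ∃ (α β : Red.Gm (Spec (CommRingCat.of R)) ⟶ Red.bc f G), IsMonHom α ∧ IsMonHom β ∧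
      Comm α β ∧ IsDynP α ((Over.pullback f).map p) ∧ IsDynP β ((Over.pullback f).map q) ∧
      IsDynU α ((Over.pullback f).map uU ≫ (Over.pullback f).map p) ∧
      ∃ N₀ : ℤ, ∀ N ≥ N₀, ∀ {P' : Over (Spec (CommRingCat.of R))} [GrpObj P'] (p' : P' ⟶ Red.bc f G),
      IsDynP (cmb N 1 α β) p' → (∀ (X : Over (Spec (CommRingCat.of R))) (g : X ⟶ Red.bc f G),
        Im (phi uU m p) ((BcPts.bcEquiv f X G).symm g) ↔ Mem p' g) ∧
        ∃ (σ₁ : P' ⟶ Red.bc f U) (σ₂ : P' ⟶ Red.bc f K),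
          (σ₁ ≫ (Over.pullback f).map uU ≫ (Over.pullback f).map p) *
            (σ₂ ≫ (Over.pullback f).map m ≫ (Over.pullback f).map p) = p' := by
    intro s
    obtain ⟨R, _, f, hf, hs, α, β, hα, hβ, hc, h1, h2⟩ := hloc s
    have hfq : LocallyQuasiFinite f := Desc.LQF.of_etale f
    have hG' := RedBcAny636.isReductive_bc f hG
    have hGa' := hG'.1
    have hGs' := hG'.2.1
    have hU' := LeviDesc147.isUnipotentRadical_bc K546.Opp.pcU Sga3B.Parab.Uncond688.radPcP hG hP hU f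
    have hu' : IsDynU α ((Over.pullback f).map uU ≫ (Over.pullback f).map p) :=
      RedSub.H658.RadDyn.isDynU_of_isUnipotentRadical hG' α _ h1 _ hU'
    obtain ⟨N₀, -, hN⟩ := K546.Prod.exists_N hc h1 h2 (hK.map (Over.pullback f)) hu'
    refine ⟨R, inferInstance, f, hf, hs, α, β, hα, hβ, hc, h1, h2, hu', N₀,
      fun N hNN P' _ p' hp' => ?_⟩
    obtain ⟨hm1, σ₁, σ₂, hσ⟩ := hN N hNN p' hp'
    refine ⟨fun X g => ?_, σ₁, σ₂, hσ⟩
    have hcm := isMonHom_cmb hc N 1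
    have hp'm := hp'.isClosedImmersion
    let j : Red.bc f U ⊗ Red.bc f K ≅ Red.bc f (U ⊗ K) :=
      asIso (Functor.LaxMonoidal.μ (Over.pullback f) U K)
    have hj : ((Over.pullback f).map uU ≫ (Over.pullback f).map p ⊗ₘ
        (Over.pullback f).map m ≫ (Over.pullback f).map p) ≫ μ[Red.bc f G] =
        j.hom ≫ (Over.pullback f).map (phi uU m p) := by
      rw [← CategoryTheory.Functor.map_comp, ← CategoryTheory.Functor.map_comp]
      exact RedSub.H661.Dense.map_mul_comp f _ _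
    rw [im_bc_iff]
    refine im_iff_mem p' ?_ ?_ g
    · rw [hj] at hm1
      have := hm1.comp j.inv
      rwa [Iso.inv_hom_id_assoc] at this
    · refine ⟨lift σ₁ σ₂ ≫ j.hom, ?_⟩
      rw [Category.assoc, ← hj, K546.MulSec.tensorHom_mul, MonObj.comp_mul, lift_fst_assoc,
        lift_snd_assoc, hσ]
  -- the group
  obtain ⟨P', hP'g, p', hp', hp'c, hmem⟩ := EtSub.exists_closed_subgroup
    (F := fun X g => Im (phi uU m p) g) (isLocalPt_im (phi uU m p))
    (fun X => im_of_mem ((mem_phi_iff _).2 ⟨1, 1, by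
      rw [MonObj.one_comp, MonObj.one_comp, _root_.mul_one]⟩))
    (im_mul hn) (im_inv hn) (fun s => by
      obtain ⟨R, _, f, hf, hs, α, β, hα, hβ, hc, h1, h2, h3, N₀, hN⟩ := key s
      have hG' := RedBcAny636.isReductive_bc f hG
      have hGa' := hG'.1
      have hcm := isMonHom_cmb hc N₀ 1
      obtain ⟨P'', _, p'', h4, h5⟩ := DynExist998.exists_isDynP (cmb N₀ 1 α β)
      exact ⟨_, f, inferInstance, inferInstance, hs, P'', p'', h5, fun X g =>
        (((hN N₀ le_rfl p'' h4).1 X g)).symm⟩)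
  have hp'm : Mono p' := OppRow172.mono_of_closed p' hp'c
  obtain ⟨a, ha⟩ := (hmem U (uU ≫ p)).2 (im_of_mem ((mem_phi_iff _).2 ⟨𝟙 _, 1, by
    rw [MonObj.one_comp, _root_.mul_one, Category.id_comp]⟩))
  obtain ⟨b, hb⟩ := (hmem K (m ≫ p)).2 (im_of_mem ((mem_phi_iff _).2 ⟨1, 𝟙 _, by
    rw [MonObj.one_comp, _root_.one_mul, Category.id_comp]⟩))
  have ham : IsMonHom a := by
    have : IsMonHom (a ≫ p') := by rw [ha]; infer_instance
    exact OppS172.isMonHom_of_comp a p' this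
  have hbm : IsMonHom b := by
    have : IsMonHom (b ≫ p') := by rw [hb]; infer_instance
    exact OppS172.isMonHom_of_comp b p' this
  -- the points of `P'` locally
  have hloc' : ∀ {R : Type u} [CommRing R] (f : Spec (CommRingCat.of R) ⟶ S)
      {P'' : Over (Spec (CommRingCat.of R))} [GrpObj P''] (p'' : P'' ⟶ Red.bc f G),
      (∀ (X : Over (Spec (CommRingCat.of R))) (g : X ⟶ Red.bc f G),
        Im (phi uU m p) ((BcPts.bcEquiv f X G).symm g) ↔ Mem p'' g) →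
      ∀ (X : Over (Spec (CommRingCat.of R))) (g : X ⟶ Red.bc f G),
        Mem p'' g ↔ Mem ((Over.pullback f).map p') g := by
    intro R _ f P'' _ p'' h X g
    rw [← h X g, LC.mem_bc_iff]
    exact (hmem _ _).symm
  have hpar : Red.IsParabolic p' := by
    refine K546.Pair.isParabolic_of_local hp' fun s => ?_
    obtain ⟨R, _, f, hf, hs, α, β, hα, hβ, hc, h1, h2, h3, N₀, hN⟩ := key s
    have hG' := RedBcAny636.isReductive_bc f hG
    have hGa' := hG'.1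
    have hcm := isMonHom_cmb hc N₀ 1
    obtain ⟨P'', _, p'', h4, h5⟩ := DynExist998.exists_isDynP (cmb N₀ 1 α β)
    have h6 : Red.IsParabolic p'' :=
      isParabolic_of_isDynP (cmb N₀ 1 α β) Uncond688.dynK1 hG' p'' h4
    exact ⟨_, f, hf, hs, K546.Pair.isParabolic_of_mem_iff h6 inferInstance inferInstance
      (hloc' f p'' (hN N₀ le_rfl p'' h4).1)⟩
  have hdyn : ∀ {R : Type u} [CommRing R] (f : Spec (CommRingCat.of R) ⟶ S)
      {α β : Red.Gm (Spec (CommRingCat.of R)) ⟶ Red.bc f G} (_ : IsMonHom α) (_ : IsMonHom β)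
      (hc : Comm α β) (N : ℤ),
      (∀ {P'' : Over (Spec (CommRingCat.of R))} [GrpObj P''] (p'' : P'' ⟶ Red.bc f G),
        IsDynP (cmb N 1 α β) p'' → (∀ (X : Over (Spec (CommRingCat.of R))) (g : X ⟶ Red.bc f G),
        Im (phi uU m p) ((BcPts.bcEquiv f X G).symm g) ↔ Mem p'' g)) →
      IsDynP (cmb N 1 α β) ((Over.pullback f).map p') := by
    intro R _ f α β hα hβ hc N h
    have hG' := RedBcAny636.isReductive_bc f hG
    have hGa' := hG'.1
    have hcm := isMonHom_cmb hc N 1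
    obtain ⟨P'', _, p'', h4, h5⟩ := DynExist998.exists_isDynP (cmb N 1 α β)
    exact ⟨inferInstance, inferInstance, fun X g =>
      (hloc' f p'' (h p'' h4) X g).symm.trans (h4.iff_ptP X g)⟩
  have hsm : ∀ s : S, ∃ (V : Scheme.{u}) (f : V ⟶ S), Etale f ∧ s ∈ Set.range f ∧
      Smooth (((Over.pullback f).map a ⊗ₘ (Over.pullback f).map b) ≫ μ[Red.bc f P']).left ∧
      Surjective (((Over.pullback f).map a ⊗ₘ (Over.pullback f).map b) ≫ μ[Red.bc f P']).left := by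
    intro s
    obtain ⟨R, _, f, hf, hs, α, β, hα, hβ, hc, h1, h2, h3, N₀, hN⟩ := key s
    have hG' := RedBcAny636.isReductive_bc f hG
    have hd := hdyn f hα hβ hc N₀ fun p'' h => (hN N₀ le_rfl p'' h).1
    obtain ⟨-, σ₁, σ₂, hσ⟩ := hN N₀ le_rfl _ hd
    obtain ⟨V, _, v₁, v₂, hv₁, hv₂, hpb, hVs⟩ := K546.Prod.exists_inter_rad hG'.1 hG'.2.1 hc h1 h2
      (hK.map (Over.pullback f)) h3
    have ea : (Over.pullback f).map a ≫ (Over.pullback f).map p' =
        (Over.pullback f).map uU ≫ (Over.pullback f).map p := by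
      rw [← CategoryTheory.Functor.map_comp, ← CategoryTheory.Functor.map_comp, ha]
    have eb : (Over.pullback f).map b ≫ (Over.pullback f).map p' =
        (Over.pullback f).map m ≫ (Over.pullback f).map p := by
      rw [← CategoryTheory.Functor.map_comp, ← CategoryTheory.Functor.map_comp, hb]
    refine ⟨_, f, hf, hs, K546.MulSec.smooth_surjective _ _ v₁ v₂
      (isPullback_of_mono hpb ea eb) σ₁ σ₂ ?_⟩
    rw [← cancel_mono ((Over.pullback f).map p'), MonObj.mul_comp, Category.assoc, Category.assoc,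
      ea, eb, hσ, Category.id_comp]
  refine ⟨P', hP'g, p', a, b, hpar, ham, hbm, ha, hb, ?_, ?_, fun s => ?_⟩
  · refine RedSub.H661.Borels.smooth_of_locSm fun s => ?_
    obtain ⟨V, f, hf, hs, h, -⟩ := hsm s
    exact RedSub.H661.Borels.locSm_of_smooth s f hs (RedSub.H661.Borels.smooth_bc_of_mul f h)
  · refine surjective_of_local _ fun s => ?_
    obtain ⟨V, f, hf, hs, -, h⟩ := hsm s
    refine ⟨V, f, hs, ?_⟩
    rw [RedSub.H661.Dense.map_mul_comp, Over.comp_left] at h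
    exact @Surjective.of_comp _ _ _ _ _ h
  · obtain ⟨R, _, f, hf, hs, α, β, hα, hβ, hc, h1, h2, h3, N₀, hN⟩ := key s
    exact ⟨R, inferInstance, f, hf, hs, α, β, hα, hβ, hc, h1, h2, N₀, fun N hNN =>
      hdyn f hα hβ hc N fun p'' h => (hN N hNN p'' h).1⟩

end K546.ProdGlob
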