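import Groth.Agent.Par.K546.HasTor
import Groth.Agent.Par.K546.ProdGlob
import Groth.Agent.S4123

/-!
# Standard position of two parabolic subgroups

`P`, `Q` parabolic, `K = P ∩ Q`.

* `locForm_of_hasTor`: if `K` contains a maximal torus étale-locally then `(P, Q)` has the local form;
* `smooth_of_locForm`: if `(P, Q)` has the local form then `K` is smooth;
* `dec_of_surj`: decomposition of the points of `P' = rad^u(P) K`.
-/

set_option autoImplicit false

universe u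

open CategoryTheory MonoidalCategory CartesianMonoidalCategory MonObj GrpObj AlgebraicGeometry Limits
open Groth.Agent
open Groth.Agent.Sga3B Groth.Agent.Sga3B.Parab Groth.Agent.Sga3B.Parab.ConjPt
open K546.HasTor K546.CoreInter K546.LocPQ

namespace K546.StdPos

variable {S S' : Scheme.{u}} {G P Q K U P' : Over S} [GrpObj G] [GrpObj P] [GrpObj Q] [GrpObj K]
  [GrpObj U] [GrpObj P'] {p : P ⟶ G} {q : Q ⟶ G} {m : K ⟶ P} {m' : K ⟶ Q}

lemma isMonHom_snd (hQ : Red.IsParabolic q) [IsMonHom p] [IsMonHom m]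
    (hK : IsPullback m m' p q) : IsMonHom m' := by
  have hqm : IsMonHom q := hQ.1
  have hqm' : Mono q := OppRow172.mono_of_closed q hQ.2.1
  refine OppS172.isMonHom_of_comp m' q ?_
  rw [← hK.w]
  infer_instance

theorem locForm_of_hasTor (hG : Red.IsReductive G) (hP : Red.IsParabolic p)
    (hQ : Red.IsParabolic q) [IsMonHom m] (hK : IsPullback m m' p q) (f : S' ⟶ S) [Etale f]
    (h : HasTor (m ≫ p) f) (s' : S') : LocForm p q (f s') := by
  have hpm : IsMonHom p := hP.1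
  have hqm : IsMonHom q := hQ.1
  have hm' := isMonHom_snd hQ hK
  obtain ⟨T, _, t, ht, hT⟩ := h
  refine LocForm.of_bc f (locForm_of_torus (RedBcAny636.isReductive_bc f hG)
    (RedSub.H648.BorBc.isParabolic_bc f hG hP) (RedSub.H648.BorBc.isParabolic_bc f hG hQ)
    (t ≫ (Over.pullback f).map m) (t ≫ (Over.pullback f).map m') inferInstance inferInstance ?_ ?_ s')
  · rw [Category.assoc, Category.assoc, ← CategoryTheory.Functor.map_comp,
      ← CategoryTheory.Functor.map_comp, hK.w]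
  · rw [Category.assoc, ← CategoryTheory.Functor.map_comp]
    exact hT

theorem locForm_of_etTor (hG : Red.IsReductive G) (hP : Red.IsParabolic p)
    (hQ : Red.IsParabolic q) [IsMonHom m] (hK : IsPullback m m' p q) (h : EtTor (m ≫ p)) (s : S) :
    LocForm p q s := by
  obtain ⟨S', f, hf, ⟨s', rfl⟩, h1⟩ := h s
  exact locForm_of_hasTor hG hP hQ hK f h1 s'

theorem smooth_of_locForm (hG : Red.IsReductive G) [IsMonHom m] (hK : IsPullback m m' p q)
    (h : ∀ s : S, LocForm p q s) : Smooth K.hom := by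
  obtain ⟨J, S', f, hf, hc, hh⟩ := RedCover147.exists_isEtCov
    (Q := fun U f => Smooth (Red.bc f K).hom) (fun s => by
      obtain ⟨R, _, f, hf, hs, α, β, hα, hβ, hc, h1, h2⟩ := h s
      have hG' := RedBcAny636.isReductive_bc f hG
      exact ⟨_, f, hf, hs, K546.Prod.smooth_inter hG'.1 hG'.2.1 hc h1 h2
        (hK.map (Over.pullback f))⟩)
  exact RedCover147.smooth_of_cover hc hh

omit [GrpObj K] [GrpObj U] in
/-- The decomposition of the points of `P'`. -/
theorem dec_of_surj {uu : U ⟶ G} {k : K ⟶ G} {p' : P' ⟶ G} [IsMonHom p'] {a : U ⟶ P'}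
    {b : K ⟶ P'} (ha : a ≫ p' = uu) (hb : b ≫ p' = k) [Smooth ((a ⊗ₘ b) ≫ μ[P']).left]
    [Surjective ((a ⊗ₘ b) ≫ μ[P']).left] : Dec uu k p' := by
  intro X g x
  obtain ⟨y, hy⟩ := ((a ⊗ₘ b) ≫ μ[P']).left.surjective (g.left x)
  obtain ⟨w, hw1, hw2⟩ := Scheme.Pullback.exists_preimage_pullback
    (f := ((a ⊗ₘ b) ≫ μ[P']).left) (g := g.left) y x hy
  let f := pullback.snd ((a ⊗ₘ b) ≫ μ[P']).left g.left
  let z : Over.mk (f ≫ X.hom) ⟶ U ⊗ K :=
    Over.homMk (pullback.fst ((a ⊗ₘ b) ≫ μ[P']).left g.left) (by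
      change pullback.fst ((a ⊗ₘ b) ≫ μ[P']).left g.left ≫ (U ⊗ K).hom =
        pullback.snd ((a ⊗ₘ b) ≫ μ[P']).left g.left ≫ X.hom
      rw [← Over.w ((a ⊗ₘ b) ≫ μ[P']), ← Category.assoc, pullback.condition, Category.assoc,
        Over.w])
  have hz : z ≫ (a ⊗ₘ b) ≫ μ[P'] = (Over.homMk f : Over.mk (f ≫ X.hom) ⟶ X) ≫ g := by
    ext1
    exact pullback.condition
  refine ⟨_, f, inferInstance, inferInstance, ⟨w, hw2⟩, z ≫ fst U K, z ≫ snd U K, ?_⟩
  have e : ((a ⊗ₘ b) ≫ μ[P']) ≫ p' = (fst U K ≫ uu) * (snd U K ≫ k) := by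
    have e0 : (a ⊗ₘ b) ≫ μ[P'] = (fst U K ≫ a) * (snd U K ≫ b) := by
      rw [Hom.mul_def]
      congr 1
    rw [e0, MonObj.mul_comp, Category.assoc, Category.assoc, ha, hb]
  rw [← Category.assoc, ← hz, Category.assoc, e, MonObj.comp_mul, Category.assoc, Category.assoc]

omit [GrpObj K] [GrpObj U] [GrpObj P'] in
/-- `P'` is contained in `P`. -/
theorem mem_of_dec [IsMonHom p] [IsClosedImmersion p.left] {uu : U ⟶ P} {k : K ⟶ P} {p' : P' ⟶ G}
    (h : Dec (uu ≫ p) (k ≫ p) p') : ∃ j : P' ⟶ P, j ≫ p = p' := by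
  obtain ⟨z, hz⟩ := RedSub.H657.FacLoc.exists_fac_of_local p'.left p.left fun x => by
    obtain ⟨V, f, h1, h2, h3, a, b, hab⟩ := h P' (𝟙 _) x
    refine ⟨V, f, h1, h2, h3, ((a ≫ uu) * (b ≫ k)).left, ?_⟩
    have h4 : (Over.homMk f : Over.mk (f ≫ P'.hom) ⟶ P') ≫ p' = ((a ≫ uu) * (b ≫ k)) ≫ p := by
      rw [MonObj.mul_comp, Category.assoc, Category.assoc, ← hab, Category.id_comp]
    exact (congrArg (fun z => z.left) h4).symm
  exact ⟨Over.homMk z (by rw [← Over.w p, ← Category.assoc, hz, Over.w]), by ext1; exact hz⟩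

/-- The data of `P' = rad^u(P) K`. -/
theorem exists_P' (hG : Red.IsReductive G) (hP : Red.IsParabolic p) (hQ : Red.IsParabolic q)
    [IsMonHom m] (hK : IsPullback m m' p q) {uU : U ⟶ P} (hU : Par.IsUnipotentRadical uU)
    (hloc : ∀ s : S, LocForm p q s) :
    ∃ (P' : Over S) (_ : GrpObj P') (p' : P' ⟶ G) (j : P' ⟶ P) (b : K ⟶ P'),
      Red.IsParabolic p' ∧ j ≫ p = p' ∧ b ≫ p' = m ≫ p ∧ Dec (uU ≫ p) (m ≫ p) p' := by
  have hpm : IsMonHom p := hP.1
  have hpc := hP.2.1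
  obtain ⟨P', _, p', a, b, hP', ha, hb, hap, hbp, h1, h2, -⟩ :=
    K546.ProdGlob.main hG hP hQ hK hU hloc
  have hp'm : IsMonHom p' := hP'.1
  have hdec : Dec (uU ≫ p) (m ≫ p) p' := dec_of_surj hap hbp
  obtain ⟨j, hj⟩ := mem_of_dec hdec
  exact ⟨P', inferInstance, p', j, b, hP', hj, hbp, hdec⟩

/-- **The intersection contains a maximal torus**, over an affine base over which all parabolic
subgroups do. -/
theorem exists_torus_of_base {A : Type u} [CommRing A]
    {G P Q K : Over (Spec (CommRingCat.of A))} [GrpObj G] [GrpObj P] [GrpObj Q] [GrpObj K]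
    (hA : ∀ (P' : Over (Spec (CommRingCat.of A))) [GrpObj P'] (p' : P' ⟶ G), Red.IsParabolic p' →
      ∃ (T : Over (Spec (CommRingCat.of A))) (_ : GrpObj T) (t : T ⟶ P'),
        IsMonHom t ∧ Red.IsMaximalTorus (t ≫ p'))
    (hG : Red.IsReductive G) {p : P ⟶ G} {q : Q ⟶ G} (hP : Red.IsParabolic p)
    (hQ : Red.IsParabolic q) {m : K ⟶ P} {m' : K ⟶ Q} (hm : IsMonHom m)
    (hK : IsPullback m m' p q) (h : EtTor (m ≫ p)) :
    ∃ (T : Over (Spec (CommRingCat.of A))) (_ : GrpObj T) (t : T ⟶ K),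
      IsMonHom t ∧ Red.IsMaximalTorus (t ≫ m ≫ p) := by
  obtain ⟨U, _, uU, hU⟩ := K546.Opp.exists_rad hG hP
  obtain ⟨P', _, p', j, b, hP', hj, hb, hdec⟩ := exists_P' hG hP hQ hK hU
    (locForm_of_etTor hG hP hQ hK h)
  obtain ⟨T, _, t, ht, hT⟩ := hA P' p' hP'
  obtain ⟨t', h3, h4⟩ := exists_torus_of_dec hG hP hQ hm hK hU hP' hdec j hj b hb t hT h
  exact ⟨T, inferInstance, t', h3, h4⟩

end K546.StdPos
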