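import Groth.Agent.Par.K546.Opp
import Groth.Agent.RedSub.H658.RadDyn
import Groth.Agent.Sga3B.Par.LeviOfDyn383
import Groth.Agent.Sga3B.Par.ConjDyn895
import Groth.Agent.Sga3B.TorClosed636
import Groth.Agent.RedSub.H664.Ad
import Groth.Agent.S3974
import Groth.Agent.S2996

/-!
# A cocharacter of a given maximal torus defining a parabolic subgroup

`exists_cochar`: over an affine base, `P` parabolic in the reductive group `G` and `T` a maximal
torus of `G` in `P`; there is a cocharacter `α` of `T` with `P = P_G(α)`.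
-/

set_option autoImplicit false

universe u

open CategoryTheory MonoidalCategory CartesianMonoidalCategory MonObj GrpObj AlgebraicGeometry Limits
open Groth.Agent
open Groth.Agent.Sga3B Groth.Agent.Sga3B.Parab

namespace K546.TorCochar

/-- **A cocharacter of a given maximal torus.** -/
theorem exists_cochar {A : Type u} [CommRing A] {G P T : Over (Spec (CommRingCat.of A))}
    [GrpObj G] [GrpObj P] [GrpObj T] (hG : Red.IsReductive G) {p : P ⟶ G}
    (hP : Red.IsParabolic p) (t : T ⟶ P) [IsMonHom t] (hT : Red.IsMaximalTorus (t ≫ p)) :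
    ∃ α : Red.Gm (Spec (CommRingCat.of A)) ⟶ T, IsMonHom α ∧ IsDynP (α ≫ t ≫ p) p := by
  have hpm : IsMonHom p := hP.1
  obtain ⟨U, _, u, hU⟩ := K546.Opp.exists_rad hG hP
  obtain ⟨lam, hlam, hpd, hud⟩ := RedSub.H658.RadDyn.exists_cochar hG p hP u hU
  obtain ⟨U', Z, _, _, u', z, -, hzd, -, -, hz⟩ := Sga3B.Par.LeviOfDyn383.exists_all
    DynGeom678.dynGeomU Uncond688.dynK1 K3b143.dynK3 hG lam p hpd
  obtain ⟨L, _, l, tl, hl, htl, -, -⟩ := S3974.result hG p hP t hT
  obtain ⟨x, ⟨e, he⟩, -⟩ := S2996.result _ P U Z L hG p hP u hU z l hz hl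
  obtain ⟨c, hc, hcp⟩ := DynClosed998.exists_lamP hpd
  let v : 𝟙_ (Over (Spec (CommRingCat.of A))) ⟶ P := x ≫ u
  let c' : Red.Gm (Spec (CommRingCat.of A)) ⟶ P := RedSub.H664.Ad.ad v c
  have hc'm : IsMonHom c' := RedSub.H664.Ad.isMonHom_ad v c
  have hd : IsDynP (c' ≫ p) p := Sga3B.Par.ConjDyn895.conj_isDynP p v c c' (fun X s => by
    rw [RedSub.H664.Ad.comp_ad]
    rfl) (by rw [hcp]; exact hpd)
  obtain ⟨α, hα⟩ := ((TorClosed636.isCentralizerOf_self hG hT).2.2 _ (c' ≫ p)).2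
    (fun X' s h => by
      have hlm : IsMonHom l := hl.1
      let y : X' ⟶ Z := h ≫ tl ≫ e.inv
      have e1 : h ≫ t = RedSub.H664.Ad.ad v (y ≫ z) := by
        rw [← RedSub.H664.Ad.comp_ad]
        change _ = y ≫ ((toUnit Z ≫ x ≫ u) * z * (toUnit Z ≫ x ≫ u)⁻¹)
        rw [← he, ← htl]
        simp only [y, Category.assoc, Iso.inv_hom_id_assoc]
      have e2 : (s ≫ lam) * (y ≫ z ≫ p) = (y ≫ z ≫ p) * (s ≫ lam) := by
        have h3 := (DynExist998.ptZ_iff_centralizes (y ≫ z ≫ p)).1 ((hzd.iff_ptZ _ _).1 ⟨y, rfl⟩) X' (𝟙 _) s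
        rw [Category.id_comp] at h3
        exact h3.symm
      have e3 : (s ≫ c) * (y ≫ z) = (y ≫ z) * (s ≫ c) := by
        have hpm' : Mono p := OppRow172.mono_of_closed p hP.2.1
        rw [← cancel_mono p, MonObj.mul_comp, MonObj.mul_comp, Category.assoc, Category.assoc, hcp,
          e2]
      have e4 : (s ≫ c') * (h ≫ t) = (h ≫ t) * (s ≫ c') := by
        rw [e1, RedSub.H664.Ad.comp_ad, ← RedSub.H664.Ad.map_mul', ← RedSub.H664.Ad.map_mul', e3]
      rw [← Category.assoc, ← Category.assoc, ← MonObj.mul_comp, ← MonObj.mul_comp, e4])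
  have h1 : Mono (t ≫ p) := hT.2.1
  have h2 : IsMonHom (t ≫ p) := hT.1
  refine ⟨α, ?_, by rw [hα]; exact hd⟩
  have : IsMonHom (α ≫ t ≫ p) := by rw [hα]; infer_instance
  exact OppS172.isMonHom_of_comp α (t ≫ p) this

end K546.TorCochar
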