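import Groth.Agent.Par.K546.TorCochar
import Groth.Agent.Par.K546.PairBorel
import Groth.Agent.Redsub.H649.TorConjLoc

/-!
# Maximal tori of a parabolic subgroup are locally conjugate in it
-/

set_option autoImplicit false

universe u

open CategoryTheory MonoidalCategory CartesianMonoidalCategory MonObj GrpObj AlgebraicGeometry Limits
open Groth.Agent
open Groth.Agent.Sga3B Groth.Agent.Sga3B.Parab Groth.Agent.Sga3B.Parab.ConjPt
open Groth.Agent.RedSub.H661.Core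

namespace K546.ParTor

variable {S : Scheme.{u}} {G P T T₁ : Over S} [GrpObj G] [GrpObj P] [GrpObj T] [GrpObj T₁]

/-- **Maximal tori of a parabolic subgroup are locally conjugate in it.** -/
theorem exists_tr (hG : Red.IsReductive G) {p : P ⟶ G} (hP : Red.IsParabolic p) (t : T ⟶ P)
    (t₁ : T₁ ⟶ P) [IsMonHom t] [IsMonHom t₁] (hT : Red.IsMaximalTorus (t ≫ p))
    (hT₁ : Red.IsMaximalTorus (t₁ ≫ p)) (s : S) :
    ∃ (V : Scheme.{u}) (π : V ⟶ S), Smooth π ∧ s ∈ Set.range π ∧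
      ∃ g : Over.mk π ⟶ P, Tr t t₁ g := by
  have hpm : IsMonHom p := hP.1
  have hpm' : Mono p := OppRow172.mono_of_closed p hP.2.1
  obtain ⟨L, _, l, tl, hl, htl, -, -⟩ := S3974.result hG p hP t hT
  obtain ⟨L₁, _, l₁, tl₁, hl₁, htl₁, -, -⟩ := S3974.result hG p hP t₁ hT₁
  obtain ⟨U, _, u, hU⟩ := K546.Opp.exists_rad hG hP
  obtain ⟨x, ⟨e, he⟩, -⟩ := S2996.result G P U L L₁ hG p hP u hU l l₁ hl hl₁
  have hlm : IsMonHom l₁ := hl₁.1
  have hlm' : Mono l₁ := hl₁.2.1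
  have e1 : (tl ≫ e.hom) ≫ l₁ = RedSub.H664.Ad.ad (x ≫ u) t := by
    rw [Category.assoc, he, ← htl]
    change tl ≫ RedSub.H664.Ad.ad (x ≫ u) l = _
    rw [RedSub.H664.Ad.comp_ad]
  have e2 : (tl ≫ e.hom) ≫ l₁ ≫ p = RedSub.H664.Ad.ad ((x ≫ u) ≫ p) (t ≫ p) := by
    rw [← Category.assoc, e1, RedSub.H664.Ad.ad, RedSub.H664.Ad.ad, MonObj.mul_comp,
      MonObj.mul_comp, GrpObj.inv_comp]
    simp only [Category.assoc]
  have h1 : Red.IsMaximalTorus ((tl ≫ e.hom) ≫ l₁ ≫ p) := by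
    rw [e2]
    exact K546.PairBorel.isMaximalTorus_ad hT _
  have h2 : Red.IsMaximalTorus (tl₁ ≫ l₁ ≫ p) := by
    rw [← Category.assoc, htl₁]
    exact hT₁
  have h3 := BorTor988.isMaximalTorus_of_comp (l₁ ≫ p) _ h1
  have h4 := BorTor988.isMaximalTorus_of_comp (l₁ ≫ p) _ h2
  obtain ⟨V, π, hπ, hs, g, hg⟩ := Redsub.H649.TorConjLoc.exists_conjEq hl₁.2.2.1 _ _ h3 h4 s
  refine ⟨V, π, hπ, hs, (g ≫ l₁) * (toUnit _ ≫ x ≫ u), fun X' y z => ?_⟩
  obtain ⟨w, hw⟩ := (hg X' y).1 z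
  refine ⟨w, ?_⟩
  rw [← htl₁, ← Category.assoc, ← hw, MonObj.mul_comp, MonObj.mul_comp, GrpObj.inv_comp,
    MonObj.comp_mul, Category.assoc, Category.assoc, e1, RedSub.H664.Ad.comp_ad,
    RedSub.H664.Ad.ad, comp_toUnit_assoc]
  group

end K546.ParTor
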