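import Groth.Agent.Sga3B.Par.CanN2
import Groth.Agent.Sga3B.Par.CanFin
import Groth.Agent.Sga3B.PinTransport

/-!
# The sum of the roots of the unipotent radical of a parabolic subgroup

`rho P x` is the sum of the roots on which the coweight `x` is positive.
-/

set_option autoImplicit false

universe u

open CategoryTheory MonoidalCategory CartesianMonoidalCategory MonObj GrpObj AlgebraicGeometry Limits
open Groth.Agent
open Groth.Agent.Sga3B Groth.Agent.Sga3B.Par Groth.Agent.Sga3B.Parab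

namespace K546.Rho

section Num

variable {idx M idx' M' : Type} [Fintype idx] [AddCommGroup M] [Fintype idx'] [AddCommGroup M']
variable {P : RootPairing idx ℤ M (Module.Dual ℤ M)} {P' : RootPairing idx' ℤ M' (Module.Dual ℤ M')}

open Classical in
/-- The sum of the roots on which `x` is positive. -/
noncomputable def rho (P : RootPairing idx ℤ M (Module.Dual ℤ M)) (x : Module.Dual ℤ M) : M :=
  ∑ a ∈ Finset.univ.filter (fun a => 0 < x (P.root a)), P.root a

lemma rho_congr {x y : Module.Dual ℤ M} (h : ∀ a, 0 < x (P.root a) ↔ 0 < y (P.root a)) :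
    rho P x = rho P y := by
  unfold rho
  congr 1
  ext a
  simp [h]

lemma rho_push (e : RootPairing.Equiv P P') (y : Module.Dual ℤ M) :
    e.weightEquiv.symm (rho P' (push e y)) = rho P y := by
  classical
  unfold rho
  rw [map_sum]
  refine (Finset.sum_equiv e.indexEquiv ?_ ?_).symm
  · intro a
    rw [Finset.mem_filter, Finset.mem_filter, push_root]
    simp
  · intro a _
    exact (weightEquiv_symm_root e a).symm

lemma apply_rho_pos {x : Module.Dual ℤ M} {a : idx} (h : 0 < x (P.root a)) : 0 < x (rho P x) := by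
  classical
  unfold rho
  rw [map_sum]
  refine Finset.sum_pos ?_ ⟨a, by simpa using h⟩
  intro b hb
  exact (Finset.mem_filter.1 hb).2

end Num

/-- from `0 ≤` to `0 <` -/
lemma pos_iff_of_nonneg_iff {S : Scheme.{u}} {G : Over S} [GrpObj G] (D : Red.SplitRed G)
    {x y : Module.Dual ℤ D.M} (h : ∀ a, 0 ≤ x (D.P.root a) ↔ 0 ≤ y (D.P.root a)) (a : D.idx) :
    0 < x (D.P.root a) ↔ 0 < y (D.P.root a) := by
  have e : D.P.root (D.P.reflectionPerm a a) = -D.P.root a := by
    rw [RootPairing.root_reflectionPerm, RootPairing.reflection_apply_self]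
  have h1 := h (D.P.reflectionPerm a a)
  rw [e, map_neg, map_neg] at h1
  constructor
  · intro h2
    by_contra h3
    have := h1.2 (by linarith)
    linarith
  · intro h2
    by_contra h3
    have := h1.1 (by linarith)
    linarith

variable {S T : Scheme.{u}} {G P L Q : Over S} [GrpObj G] [GrpObj P] [GrpObj L] [GrpObj Q]

/-- Splitting data adapted to `P`, to a Levi subgroup `L` and to a central torus `Q` of `L`. -/
structure RD (c : T ⟶ S) (p : P ⟶ G) (m : L ⟶ G) (q : Q ⟶ G) where
  /-- the splitting -/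
  D : Red.SplitRed (Red.bc c G)
  /-- the coweight -/
  x : Module.Dual ℤ D.M
  /-- the inclusion of the torus -/
  jP : D.T ⟶ Red.bc c P
  hjP : jP ≫ (Over.pullback c).map p = D.i
  /-- the inclusion of the torus -/
  jL : D.T ⟶ Red.bc c L
  hjL : jL ≫ (Over.pullback c).map m = D.i
  /-- the inclusion in the torus -/
  k : Red.bc c Q ⟶ D.T
  hk : k ≫ D.i = (Over.pullback c).map q
  dyn : IsDynP (coch D x) ((Over.pullback c).map p)

variable {c : T ⟶ S} {p : P ⟶ G} {m : L ⟶ G} {q : Q ⟶ G}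

/-- The character. -/
noncomputable def RD.chi (R : RD c p m q) : Red.bc c Q ⟶ Red.Gm T :=
  R.k ≫ R.D.split.hom.hom.hom ≫ Red.chi T (rho R.D.P R.x)

/-- Agreement, at a geometric point. -/
lemma chi_eq_pts (R₁ R₂ : RD c p m q) [IsMonHom m]
    (hcomm : ∀ (X : Over S) (z : X ⟶ L) (y : X ⟶ Q), (z ≫ m) * (y ≫ q) = (y ≫ q) * (z ≫ m))
    {C : Type u} [CommRing C] [Nontrivial C] {s : Spec (CommRingCat.of C) ⟶ T}
    {e : RootPairing.Equiv R₁.D.P R₂.D.P} (g : aff C s ⟶ Red.bc c L)
    (h : TorConj R₁.D R₂.D (g ≫ (Over.pullback c).map m) e)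
    (hpos : ∀ a, 0 < R₂.x (R₂.D.P.root a) ↔ 0 < push e R₁.x (R₂.D.P.root a))
    {B : Type u} [CommRing B] (b : Spec (CommRingCat.of B) ⟶ T) (r : aff B b ⟶ aff C s)
    (y : aff B b ⟶ Red.bc c Q) : y ≫ R₁.chi = y ≫ R₂.chi := by
  have hi2 : Mono R₂.D.i := R₂.D.maximalTorus.2.1
  have h1 := h B b r (y ≫ R₁.k ≫ R₁.D.split.hom.hom.hom)
  have e1 : (y ≫ R₁.k ≫ R₁.D.split.hom.hom.hom) ≫ R₁.D.split.inv.hom.hom ≫ R₁.D.i =
      y ≫ (Over.pullback c).map q := by
    rw [← R₁.hk, Category.assoc, Category.assoc, ← Category.assoc R₁.D.split.hom.hom.hom,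
      Par.split_hom_inv, Category.id_comp]
  have e2 : (r ≫ g ≫ (Over.pullback c).map m) * (y ≫ (Over.pullback c).map q) =
      (y ≫ (Over.pullback c).map q) * (r ≫ g ≫ (Over.pullback c).map m) := by
    apply (BcPts.bcMulEquiv c _ G).symm.injective
    rw [map_mul, map_mul]
    have h3 : ∀ (Y : Over S) (k : Y ⟶ G) (z : aff B b ⟶ Red.bc c Y),
        (BcPts.bcMulEquiv c _ G).symm (z ≫ (Over.pullback c).map k) =
          (BcPts.bcEquiv c _ Y).symm z ≫ k := fun Y k z => BcPts.bcEquiv_symm_comp c z k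
    rw [← Category.assoc r, h3, h3]
    exact hcomm _ _ _
  rw [e1, e2, _root_.mul_assoc, mul_inv_cancel, _root_.mul_one] at h1
  have e3 : y ≫ R₂.k = (y ≫ R₁.k ≫ R₁.D.split.hom.hom.hom) ≫
      Red.DSmap T e.weightEquiv.symm.toLinearMap.toAddMonoidHom ≫ R₂.D.split.inv.hom.hom := by
    rw [← cancel_mono R₂.D.i, Category.assoc, R₂.hk, h1]
    simp only [Category.assoc]
  rw [RD.chi, RD.chi, ← Category.assoc y R₂.k, e3, rho_congr hpos]
  simp only [Category.assoc]
  rw [← Category.assoc R₂.D.split.inv.hom.hom, Par.split_inv_hom]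
  rw [Category.id_comp, PinTransport.DSmap_chi]
  congr 4
  exact (rho_push e R₁.x).symm

end K546.Rho
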