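import Groth.Agent.Par.K546.Rho
import Groth.Agent.Sga3B.Par.LDBc149

/-!
# Base change of the sum of the roots of the unipotent radical
-/

set_option autoImplicit false

universe u

open CategoryTheory MonoidalCategory CartesianMonoidalCategory MonObj GrpObj AlgebraicGeometry Limits
open Groth.Agent
open Groth.Agent.Sga3B Groth.Agent.Sga3B.Par Groth.Agent.Sga3B.Parab Groth.Agent.Sga3B.RedIso
open K546.Rho

namespace K546.RhoBc

/-- The projection of `D_T(M)` to `D_ℤ(M)`. -/
noncomputable def ab (T : Scheme.{u}) (M : Type) [AddCommGroup M] :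
    (Red.DS T M).left ⟶ (Red.diag (ULift.{u} ℤ) M).left :=
  pullback.fst (Red.diag (ULift.{u} ℤ) M).hom (specULiftZIsTerminal.from T)

variable {S T T' : Scheme.{u}} {G P L Q : Over S} [GrpObj G] [GrpObj P] [GrpObj L] [GrpObj Q]
  {c : T ⟶ S} {p : P ⟶ G} {m : L ⟶ G} {q : Q ⟶ G}

/-- The character as a morphism to `𝔾_m` over `ℤ`. -/
noncomputable def absM (R : RD c p m q) :
    (Red.bc c Q).left ⟶ (Red.diag (ULift.{u} ℤ) ℤ).left :=
  R.chi.left ≫ ab T ℤ

/-- Base change. -/
noncomputable def bc (R : RD c p m q) (t : T' ⟶ T) : RD (t ≫ c) p m q where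
  D := splitBcComp t c R.D
  x := R.x
  jP := (Over.pullback t).map R.jP ≫ (und (BcIso.bcCompIso t c P)).inv
  hjP := by
    have h1 : ((Over.pullback t).map R.jP ≫ (und (BcIso.bcCompIso t c P)).inv) ≫
        (Over.pullback (t ≫ c)).map p =
        (Over.pullback t).map R.D.i ≫ (und (BcIso.bcCompIso t c G)).inv := by
      rw [Category.assoc, BcNat.comp_nat_inv, ← Category.assoc, ← CategoryTheory.Functor.map_comp,
        R.hjP]
    exact h1
  jL := (Over.pullback t).map R.jL ≫ (und (BcIso.bcCompIso t c L)).inv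
  hjL := by
    have h1 : ((Over.pullback t).map R.jL ≫ (und (BcIso.bcCompIso t c L)).inv) ≫
        (Over.pullback (t ≫ c)).map m =
        (Over.pullback t).map R.D.i ≫ (und (BcIso.bcCompIso t c G)).inv := by
      rw [Category.assoc, BcNat.comp_nat_inv, ← Category.assoc, ← CategoryTheory.Functor.map_comp,
        R.hjL]
    exact h1
  k := (und (BcIso.bcCompIso t c Q)).hom ≫ (Over.pullback t).map R.k
  hk := by
    have h1 : ((und (BcIso.bcCompIso t c Q)).hom ≫ (Over.pullback t).map R.k) ≫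
        (Over.pullback t).map R.D.i ≫ (und (BcIso.bcCompIso t c G)).inv =
        (Over.pullback (t ≫ c)).map q := by
      rw [Category.assoc, ← Category.assoc ((Over.pullback t).map R.k),
        ← CategoryTheory.Functor.map_comp, R.hk, ← BcNat.comp_nat_inv, Iso.hom_inv_id_assoc]
    exact h1
  dyn := by
    have h1 := coch_splitBcComp t c R.D R.x
    have h2 := R.dyn.isMonHom
    have h3 := LD.isMonHom_comp t h2
    have h5 : IsMonHom (und (BcIso.bcCompIso t c G)).symm.hom :=
      inferInstanceAs (IsMonHom (und (BcIso.bcCompIso t c G)).inv)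
    have h4 := (R.dyn.bc t).of_iso₂ (und (BcIso.bcCompIso t c G)).symm
      (und (BcIso.bcCompIso t c P)).symm (q := (Over.pullback (t ≫ c)).map p)
      (BcNat.comp_nat_inv t c p).symm
    exact h1 ▸ h4

lemma dsBcIso_natural' {M N : Type} [AddCommGroup M] [AddCommGroup N] (f : T' ⟶ T) (φ : M →+ N) :
    (TorusAlgClosed.dsBcIso f N).hom.hom.hom ≫ Red.DSmap T' φ =
      (Over.pullback f).map (Red.DSmap T φ) ≫ (TorusAlgClosed.dsBcIso f M).hom.hom.hom := by
  have h1 := dsBcIso_natural f φ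
  have e1 : (TorusAlgClosed.dsBcIso f N).hom.hom.hom ≫
      (TorusAlgClosed.dsBcIso f N).inv.hom.hom = 𝟙 _ :=
    congrArg (fun z => z.hom.hom) (TorusAlgClosed.dsBcIso f N).hom_inv_id
  have e2 : (TorusAlgClosed.dsBcIso f M).inv.hom.hom ≫
      (TorusAlgClosed.dsBcIso f M).hom.hom.hom = 𝟙 _ :=
    congrArg (fun z => z.hom.hom) (TorusAlgClosed.dsBcIso f M).inv_hom_id
  calc _ = (TorusAlgClosed.dsBcIso f N).hom.hom.hom ≫ (Red.DSmap T' φ ≫
        (TorusAlgClosed.dsBcIso f M).inv.hom.hom) ≫ (TorusAlgClosed.dsBcIso f M).hom.hom.hom := by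
        rw [Category.assoc, e2, Category.comp_id]
    _ = _ := by
        rw [← h1, Category.assoc, ← Category.assoc _ (TorusAlgClosed.dsBcIso f N).inv.hom.hom, e1,
          Category.id_comp]

lemma bc_chi (R : RD c p m q) (t : T' ⟶ T) :
    (bc R t).chi = (und (BcIso.bcCompIso t c Q)).hom ≫ (Over.pullback t).map R.chi ≫
      (TorusAlgClosed.dsBcIso t ℤ).hom.hom.hom := by
  have h1 : (bc R t).chi = ((und (BcIso.bcCompIso t c Q)).hom ≫ (Over.pullback t).map R.k) ≫
      ((Over.pullback t).map R.D.split.hom.hom.hom ≫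
        (TorusAlgClosed.dsBcIso t R.D.M).hom.hom.hom) ≫ Red.chi T' (rho R.D.P R.x) := rfl
  rw [h1, RD.chi, CategoryTheory.Functor.map_comp, CategoryTheory.Functor.map_comp, Red.chi,
    Category.assoc, Category.assoc, dsBcIso_natural', Red.chi]
  simp only [Category.assoc]

/-- The projection between the base changes. -/
noncomputable def pr (c : T ⟶ S) (t : T' ⟶ T) (Q : Over S) [GrpObj Q] :
    (Red.bc (t ≫ c) Q).left ⟶ (Red.bc c Q).left :=
  (und (BcIso.bcCompIso t c Q)).hom.left ≫ pullback.fst (Red.bc c Q).hom t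

lemma pr_fst (t : T' ⟶ T) : pr c t Q ≫ pullback.fst Q.hom c = pullback.fst Q.hom (t ≫ c) := by
  rw [pr, Category.assoc]
  exact DynBc998.bcCompIso_left t c Q

lemma pr_snd (t : T' ⟶ T) : pr c t Q ≫ pullback.snd Q.hom c = pullback.snd Q.hom (t ≫ c) ≫ t := by
  have h1 := left_fst_hom t (und (BcIso.bcCompIso t c Q)).hom
  rw [pr, Category.assoc]
  exact h1

theorem absM_bc (R : RD c p m q) (t : T' ⟶ T) : absM (bc R t) = pr c t Q ≫ absM R := by
  have h1 : (TorusAlgClosed.dsBcIso t ℤ).hom.hom.hom.left ≫ ab T' ℤ =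
      pullback.fst (Red.DS T ℤ).hom t ≫ ab T ℤ := by
    have h2 := DynBc998.dsBcIso_left t ℤ
    have e1 : (TorusAlgClosed.dsBcIso t ℤ).hom.hom.hom.left ≫
        (TorusAlgClosed.dsBcIso t ℤ).inv.hom.hom.left = 𝟙 _ :=
      congrArg (fun z => z.hom.hom.left) (TorusAlgClosed.dsBcIso t ℤ).hom_inv_id
    rw [ab, ← h2, ← Category.assoc, e1, Category.id_comp]
    rfl
  have h2 : ((Over.pullback t).map R.chi).left ≫ pullback.fst (Red.DS T ℤ).hom t =
      pullback.fst (Red.bc c Q).hom t ≫ R.chi.left := pullback.lift_fst _ _ _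
  rw [absM, bc_chi, Over.comp_left, Over.comp_left, Category.assoc, Category.assoc, h1,
    ← Category.assoc _ (pullback.fst _ _), h2, pr, absM]
  simp only [Category.assoc]

end K546.RhoBc
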