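import Groth.Agent.Par.K546.Rho
import Groth.Agent.Par.K546.TorCochar
import Groth.Agent.Par.K546.OscFib
import Groth.Agent.Par.K545.BC
import Groth.Agent.Sga3B.Par.LevFin622
import Groth.Agent.Sga3B.SplitFin885

/-!
# Étale-local existence of splitting data adapted to a Levi subgroup
-/

set_option autoImplicit false

universe u

open CategoryTheory MonoidalCategory CartesianMonoidalCategory MonObj GrpObj AlgebraicGeometry Limits
open Groth.Agent
open Groth.Agent.Sga3B Groth.Agent.Sga3B.Par Groth.Agent.Sga3B.Parab Groth.Agent.Sga3B.RedIso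
open Groth.Agent.RedSub.H664
open K546.Rho

namespace K546.RhoLoc

variable {S : Scheme.{u}} {G P L Q : Over S} [GrpObj G] [GrpObj P] [GrpObj L] [GrpObj Q]
  {p : P ⟶ G} {l : L ⟶ P} {q : Q ⟶ G}

/-- **Local existence.** -/
theorem exists_RD (hG : Red.IsReductive G) (hP : Red.IsParabolic p) (hl : Par.IsLevi l)
    (hcomm : ∀ (X : Over S) (z : X ⟶ L) (y : X ⟶ Q),
      (z ≫ l ≫ p) * (y ≫ q) = (y ≫ q) * (z ≫ l ≫ p)) (s : S) :
    ∃ (S' : Scheme.{u}) (f : S' ⟶ S), Etale f ∧ s ∈ Set.range f ∧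
      Nonempty (RD f p (l ≫ p) q) := by
  obtain ⟨S', f, hf, hs, D, t, x, h1, h2⟩ :=
    PcS150.pcS Uncond688.pcPStmt SplitFin885.splitTStmt hG p hP s
  refine ⟨S', f, hf, hs, ?_⟩
  have hG' := RedBcAny636.isReductive_bc f hG
  have hP' := RedSub.H648.BorBc.isParabolic_bc f hG hP
  have hl' := K545.BC.isLevi_bc hG hP hl f
  have hGa : IsAffineHom (Red.bc f G).hom := hG'.1
  have hpm : IsMonHom ((Over.pullback f).map p) := hP'.1
  have hpM : Mono ((Over.pullback f).map p) := OppRow172.mono_of_closed _ hP'.2.1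
  obtain ⟨U, Z, _, _, u, z, hud, hzd, -, hu, hz⟩ := Sga3B.Par.LeviOfDyn383.exists_all
    DynGeom678.dynGeomU Uncond688.dynK1 K3b143.dynK3 hG' (coch D x) _ h2
  obtain ⟨x', ⟨e, he⟩, -⟩ := S2996.result _ _ U Z _ hG' _ hP' u hu z _ hz hl'
  -- the torus is in `Z`
  have htZ : PtZ (coch D x) (t ≫ (Over.pullback f).map p) := by
    rw [DynExist998.ptZ_iff_centralizes]
    intro X' y h
    have h3 := ((TorClosed636.isCentralizerOf_self hG' D.maximalTorus).2.2 _ D.i).1
      ⟨𝟙 _, Category.id_comp _⟩ X' y (h ≫ cochT D x)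
    rw [h1]
    rw [Category.assoc] at h3
    exact h3
  obtain ⟨τ, hτ⟩ := (hzd.iff_ptZ _ _).2 htZ
  let v : 𝟙_ (Over S') ⟶ Red.bc f P := x' ≫ u
  let w : 𝟙_ (Over S') ⟶ Red.bc f G := v ≫ (Over.pullback f).map p
  let D' : Red.SplitRed (Red.bc f G) :=
    SplitIso848.splitOfIso (Grp.mkIso' (RedSub.H661.Core.innerIso w)) D
  have hD'i : D'.i = Ad.ad w D.i := (PairBorel.ad_eq_comp w D.i).symm
  have hjL : (τ ≫ e.hom) ≫ (Over.pullback f).map (l ≫ p) = D'.i := by
    have he' : e.hom ≫ (Over.pullback f).map l = Ad.ad v z := he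
    rw [CategoryTheory.Functor.map_comp, Category.assoc, ← Category.assoc e.hom, he', hD'i,
      OscFib.ad_comp, Ad.comp_ad, hτ, h1]
  have hq : ∃ k : Red.bc f Q ⟶ D'.T, k ≫ D'.i = (Over.pullback f).map q := by
    refine ((TorClosed636.isCentralizerOf_self hG' D'.maximalTorus).2.2 _ _).2 fun X' y h => ?_
    apply (BcPts.bcMulEquiv f _ G).symm.injective
    let h' : X' ⟶ D.T := h
    have e5 : h ≫ D'.i = (h' ≫ τ ≫ e.hom) ≫ (Over.pullback f).map (l ≫ p) := by
      rw [← hjL]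
      exact (Category.assoc _ _ _).symm
    rw [map_mul, map_mul, e5]
    have h3 : ∀ (Y : Over S) (k : Y ⟶ G) (z : X' ⟶ Red.bc f Y),
        (BcPts.bcMulEquiv f _ G).symm (z ≫ (Over.pullback f).map k) =
          (BcPts.bcEquiv f _ Y).symm z ≫ k := fun Y k z => BcPts.bcEquiv_symm_comp f z k
    rw [h3, h3]
    exact (hcomm _ _ _).symm
  obtain ⟨k, hk⟩ := hq
  refine ⟨{ D := D', x := x, jP := (τ ≫ e.hom) ≫ (Over.pullback f).map l, hjP := ?_,
            jL := τ ≫ e.hom, hjL := hjL, k := k, hk := hk, dyn := ?_ }⟩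
  · rw [Category.assoc, ← CategoryTheory.Functor.map_comp]
    exact hjL
  · have h3 : coch D' x = Ad.ad w (coch D x) := by
      have h4 : coch D' x = coch D x ≫ (RedSub.H661.Core.innerIso w).hom :=
        coch_splitOfIso (Grp.mkIso' (RedSub.H661.Core.innerIso w)) D x
      rw [h4, PairBorel.ad_eq_comp]
    rw [h3]
    exact Sga3B.Par.ConjDyn895.conj_isDynP' h2 v (Ad.isConj_ad w (coch D x))

end K546.RhoLoc
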