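import Groth.Agent.Par.K546.RhoUniq
import Groth.Agent.Par.K546.RhoLoc

/-!
# The global character
-/

set_option autoImplicit false

universe u

open CategoryTheory MonoidalCategory CartesianMonoidalCategory MonObj GrpObj AlgebraicGeometry Limits
open Groth.Agent
open Groth.Agent.Sga3B Groth.Agent.Sga3B.Par Groth.Agent.Sga3B.Parab Groth.Agent.Sga3B.RedIso
open K546.Rho K546.RhoBc K546.RhoRig K546.RhoUniq

namespace K546.RhoGlue

variable {S : Scheme.{u}}

/-- Morphisms which agree after base change along a covering are equal. -/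
lemma ext_of_cov {J : Type u} {S' : J → Scheme.{u}} (f : ∀ i, S' i ⟶ S) [∀ i, Flat (f i)]
    [∀ i, LocallyOfFinitePresentation (f i)] (hf : ∀ s : S, ∃ i, s ∈ Set.range (f i))
    {X Y : Over S} {a b : X ⟶ Y} (h : ∀ i, (Over.pullback (f i)).map a =
      (Over.pullback (f i)).map b) : a = b := by
  ext1
  refine EtGlue.hom_ext (fun i => pullback.fst X.hom (f i)) ?_ ?_
  · intro x
    obtain ⟨i, y, hy⟩ := hf (X.hom x)
    obtain ⟨z, hz, -⟩ := Scheme.Pullback.exists_preimage_pullback (f := X.hom) (g := f i)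
      x y hy.symm
    exact ⟨i, z, hz⟩
  · intro i
    have h1 := congrArg (fun z => z.left ≫ pullback.fst Y.hom (f i)) (h i)
    have h2 : ∀ a : X ⟶ Y, ((Over.pullback (f i)).map a).left ≫
        pullback.fst Y.hom (f i) = pullback.fst X.hom (f i) ≫ a.left :=
      fun a => pullback.lift_fst _ _ _
    rw [h2 a, h2 b] at h1
    exact h1

/-- Homomorphisms can be checked on a covering. -/
lemma isMonHom_of_cov {J : Type u} {S' : J → Scheme.{u}} (f : ∀ i, S' i ⟶ S) [∀ i, Flat (f i)]
    [∀ i, LocallyOfFinitePresentation (f i)] (hf : ∀ s : S, ∃ i, s ∈ Set.range (f i))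
    {X Y : Over S} [GrpObj X] [GrpObj Y] {a : X ⟶ Y}
    (h : ∀ i, IsMonHom ((Over.pullback (f i)).map a)) : IsMonHom a := by
  apply Pts.isMonHom_of_points
  intro T x y
  apply ext_of_cov f hf
  intro i
  have := h i
  rw [CategoryTheory.Functor.map_comp, CategoryTheory.Functor.map_mul, MonObj.mul_comp,
    CategoryTheory.Functor.map_mul, CategoryTheory.Functor.map_comp,
    CategoryTheory.Functor.map_comp]

variable {G P L Q : Over S} [GrpObj G] [GrpObj P] [GrpObj L] [GrpObj Q]
  {p : P ⟶ G} {l : L ⟶ P} {q : Q ⟶ G}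

/-- `χ` restricts to the character of the splitting data. -/
def Restr {m : L ⟶ G} (χ : Q ⟶ Red.Gm S) {T : Scheme.{u}} {c : T ⟶ S} (R : RD c p m q) : Prop :=
  pullback.fst Q.hom c ≫ χ.left ≫ ab S ℤ = absM R

lemma Restr.map_eq {m : L ⟶ G} {χ : Q ⟶ Red.Gm S} {T : Scheme.{u}} {c : T ⟶ S} {R : RD c p m q}
    (h : Restr χ R) : (Over.pullback c).map χ =
      R.chi ≫ (TorusAlgClosed.dsBcIso c ℤ).inv.hom.hom := by
  have h2 : ((Over.pullback c).map χ).left ≫ pullback.fst (Red.Gm S).hom c =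
      pullback.fst Q.hom c ≫ χ.left := pullback.lift_fst _ _ _
  have h3 := DynBc998.dsBcIso_left c ℤ
  apply bc_hom_ext
  apply pullback.hom_ext
  · rw [h2]
    refine (Category.assoc _ _ _).trans (Eq.trans h ?_)
    rw [Over.comp_left, Category.assoc, Category.assoc]
    exact (congrArg (fun z => R.chi.left ≫ z) h3).symm
  · have e : ∀ k : Red.bc c Q ⟶ Red.bc c (Red.Gm S),
        (k.left ≫ pullback.fst (Red.Gm S).hom c) ≫ (Red.Gm S).hom = (Red.bc c Q).hom ≫ c := by
      intro k
      rw [Category.assoc]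
      exact left_fst_hom c k
    have e1 := e ((Over.pullback c).map χ)
    have e2 := e (R.chi ≫ (TorusAlgClosed.dsBcIso c ℤ).inv.hom.hom)
    exact e1.trans e2.symm

/-- **The global character.** -/
theorem exists_chi (hG : Red.IsReductive G) (hP : Red.IsParabolic p) (hl : Par.IsLevi l)
    (hQ : Red.IsTorus Q) [IsMonHom q] [IsMonHom (l ≫ p)] [IsClosedImmersion (l ≫ p).left]
    (hcomm : ∀ (X : Over S) (z : X ⟶ L) (y : X ⟶ Q),
      (z ≫ l ≫ p) * (y ≫ q) = (y ≫ q) * (z ≫ l ≫ p)) :
    ∃ χ : Q ⟶ Red.Gm S, IsMonHom χ ∧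
      ∀ {T : Scheme.{u}} (c : T ⟶ S) (R : RD c p (l ≫ p) q), Restr χ R := by
  choose S' f hf hs hR using RhoLoc.exists_RD (q := q) hG hP hl hcomm
  let R : ∀ s, RD (f s) p (l ≫ p) q := fun s => (hR s).some
  have hcov : ∀ x : Q.left, ∃ s : S, x ∈ Set.range (pullback.fst Q.hom (f s)) := by
    intro x
    obtain ⟨y, hy⟩ := hs (Q.hom x)
    obtain ⟨z, hz, -⟩ := Scheme.Pullback.exists_preimage_pullback (f := Q.hom) (g := f (Q.hom x))
      x y hy.symm
    exact ⟨Q.hom x, z, hz⟩
  obtain ⟨t, ht, -⟩ := EtGlue.existsUnique_glue (fun s : S => pullback.fst Q.hom (f s)) hcov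
    (fun s => absM (R s)) (fun i j X a b hab => abs_agree hQ hcomm (R i) (R j) a b hab)
  let χ : Q ⟶ Red.Gm S := Over.homMk
    (pullback.lift t Q.hom (specULiftZIsTerminal.hom_ext _ _)) (pullback.lift_snd _ _ _)
  have hχ : χ.left ≫ ab S ℤ = t := pullback.lift_fst _ _ _
  have hall : ∀ {T : Scheme.{u}} (c : T ⟶ S) (R' : RD c p (l ≫ p) q), Restr χ R' := by
    intro T c R'
    rw [Restr, hχ]
    have hfl : ∀ s, Flat (pullback.fst (pullback.fst Q.hom c) (pullback.fst Q.hom (f s))) :=
      fun s => inferInstance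
    have hlp : ∀ s, LocallyOfFinitePresentation
        (pullback.fst (pullback.fst Q.hom c) (pullback.fst Q.hom (f s))) := fun s => inferInstance
    refine EtGlue.hom_ext
      (fun s : S => pullback.fst (pullback.fst Q.hom c) (pullback.fst Q.hom (f s))) ?_ ?_
    · intro x
      obtain ⟨s, y, hy⟩ := hcov (pullback.fst Q.hom c x)
      obtain ⟨z, hz, -⟩ := Scheme.Pullback.exists_preimage_pullback (f := pullback.fst Q.hom c)
        (g := pullback.fst Q.hom (f s)) x y hy.symm
      exact ⟨s, z, hz⟩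
    · intro s
      have h1 := abs_agree hQ hcomm R' (R s)
        (pullback.fst (pullback.fst Q.hom c) (pullback.fst Q.hom (f s)))
        (pullback.snd (pullback.fst Q.hom c) (pullback.fst Q.hom (f s))) pullback.condition
      rw [h1, ← ht s, ← Category.assoc, pullback.condition, Category.assoc]
  refine ⟨χ, ?_, hall⟩
  have hfl : ∀ s, Flat (f s) := fun s => have := hf s; inferInstance
  have hlp : ∀ s, LocallyOfFinitePresentation (f s) := fun s => have := hf s; inferInstance
  refine isMonHom_of_cov f (fun s => ⟨s, hs s⟩) fun s => ?_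
  rw [(hall (f s) (R s)).map_eq]
  have h1 := isMonHom_chi (R s)
  have h2 : IsMonHom (TorusAlgClosed.dsBcIso (f s) ℤ).inv.hom.hom :=
    (TorusAlgClosed.dsBcIso (f s) ℤ).inv.hom.isMonHom_hom
  infer_instance

end K546.RhoGlue
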