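import Groth.Agent.Par.K546.RhoNon

/-!
# A non-trivial character of the radical of a Levi subgroup
-/

set_option autoImplicit false

universe u

open CategoryTheory MonoidalCategory CartesianMonoidalCategory MonObj GrpObj AlgebraicGeometry Limits
open Groth.Agent
open Groth.Agent.Sga3B Groth.Agent.Sga3B.Par Groth.Agent.Sga3B.Parab Groth.Agent.Sga3B.RedIso
open K546.Rho K546.RhoBc K546.RhoRig K546.RhoUniq K546.RhoGlue K546.RhoNon

namespace K546.RhoMain

lemma DSmap_zero (T : Scheme.{u}) {M N : Type} [AddCommGroup M] [AddCommGroup N] :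
    Red.DSmap T (0 : N →+ M) = 1 := by
  rw [← DSPts.dsEquiv_dsChar (Red.DSmap T (0 : N →+ M)),
    ← DSPts.dsEquiv_dsChar (1 : Red.DS T M ⟶ Red.DS T N), dsChar_DSmap']
  congr 1
  rw [BorSpan613.dsChar_one]
  refine MonoidHom.ext fun z => ?_
  exact (DSPts.dsChar (𝟙 (Red.DS T M))).map_one

/-- If all roots vanish on `x` then `P_G(x) = G`. -/
lemma isIso_of_zero {T : Scheme.{u}} {G P : Over T} [GrpObj G] [GrpObj P] (D : Red.SplitRed G)
    {x : Module.Dual ℤ D.M} {p : P ⟶ G} (hp : IsDynP (coch D x) p)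
    (h : ∀ a, ¬ 0 < x (D.P.root a)) : IsIso p := by
  have hGa : IsAffineHom G.hom := D.reductive.1
  have h0 : coch D 0 = 1 := by
    have h1 : cochT D 0 = 1 := by
      have h2 : (0 : Module.Dual ℤ D.M).toAddMonoidHom = 0 := rfl
      have h3 : IsMonHom D.split.inv.hom.hom := D.split.inv.hom.isMonHom_hom
      rw [cochT, h2, DSmap_zero, MonObj.one_comp]
    rw [coch, h1, MonObj.one_comp]
  have hz : PtZ (coch D 0) (𝟙 G) := by
    rw [DynExist998.ptZ_iff_centralizes, h0]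
    intro X' y t
    rw [MonObj.comp_one, _root_.mul_one, _root_.one_mul]
  have h1 : PtP (coch D 0) (𝟙 G) := (OppPts172.ptZ_iff_and.1 hz).1
  have h2 : PtP (coch D x) (𝟙 G) := by
    intro C _ c g
    refine Signs.limEx (x := 0) (fun a _ => ?_) (h1 C c g)
    have e : D.P.root (D.P.reflectionPerm a a) = -D.P.root a := by
      rw [RootPairing.root_reflectionPerm, RootPairing.reflection_apply_self]
    have h3 := h (D.P.reflectionPerm a a)
    rw [e, map_neg] at h3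
    linarith
  obtain ⟨y, hy⟩ := (hp.iff_ptP _ _).2 h2
  have hm := hp.mono
  have : IsSplitEpi p := ⟨⟨⟨y, hy⟩⟩⟩
  exact isIso_of_mono_of_isSplitEpi p

variable {S : Scheme.{u}} {G P L ZL Q : Over S} [GrpObj G] [GrpObj P] [GrpObj L] [GrpObj ZL]
  [GrpObj Q]

theorem main (hG : Red.IsReductive G) (p : P ⟶ G) (hP : Red.IsParabolic p) (hne : ¬ IsIso p)
    (l : L ⟶ P) (hl : Par.IsLevi l) (jz : ZL ⟶ L) (hZL : Red.IsCentre jz) (r : Q ⟶ ZL)
    (hQ : Red.IsMaximalTorus r) : ∃ f : Q ⟶ Red.Gm S, IsMonHom f ∧ f ≠ 1 := by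
  have h1 := hQ.1
  have h2 := hZL.1
  have h3 := hl.1
  have h4 := hP.1
  have hpc := hP.2.1
  have hpM : Mono p := OppRow172.mono_of_closed p hP.2.1
  have hG1 : IsAffineHom G.hom := hG.1
  have hPa : IsAffineHom P.hom := by
    rw [← Over.w p]
    infer_instance
  have hlc : IsClosedImmersion (l ≫ p).left := by
    obtain ⟨U, _, u, hU⟩ := K546.Opp.exists_rad hG hP
    have hs := Par.LeviProj.isSemi_of_isLevi hl hU
    have e1 : l ≫ Par.LeviProj.prL hs = 𝟙 _ := Par.LeviProj.l_prL hs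
    have h5 : IsClosedImmersion (l.left ≫ (Par.LeviProj.prL hs).left) := by
      rw [← Over.comp_left, e1]
      exact (inferInstance : IsClosedImmersion (𝟙 L.left))
    have h6 : IsSeparated (Par.LeviProj.prL hs).left := by
      have h7 : IsSeparated ((Par.LeviProj.prL hs).left ≫ L.hom) := by
        rw [Over.w]
        infer_instance
      exact IsSeparated.of_comp _ L.hom
    have h8 : IsClosedImmersion l.left := IsClosedImmersion.of_comp _ (Par.LeviProj.prL hs).left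
    rw [Over.comp_left]
    infer_instance
  have hcomm : ∀ (X : Over S) (z : X ⟶ L) (y : X ⟶ Q),
      (z ≫ l ≫ p) * (y ≫ r ≫ jz ≫ l ≫ p) = (y ≫ r ≫ jz ≫ l ≫ p) * (z ≫ l ≫ p) := by
    intro X z y
    have h5 := (hZL.2.2 _ (y ≫ r ≫ jz)).1 ⟨y ≫ r, Category.assoc _ _ _⟩ X (𝟙 _) z
    rw [Category.id_comp, Category.comp_id] at h5
    have h6 := congrArg (fun g => g ≫ l ≫ p) h5
    simp only [MonObj.mul_comp, Category.assoc] at h6
    exact h6.symm
  obtain ⟨χ, hχ, hall⟩ := exists_chi hG hP hl hQ.2.2.1 hcomm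
  refine ⟨χ, hχ, fun hχ1 => hne ?_⟩
  obtain ⟨J, S', f, hf, hc, hR⟩ := RedCover147.exists_isEtCov
    (Q := fun S' f => Nonempty S' ∧ Nonempty (RD f p (l ≫ p) (r ≫ jz ≫ l ≫ p))) (fun s => by
      obtain ⟨S', f, hf, hs, hR⟩ := RhoLoc.exists_RD hG hP hl hcomm s
      exact ⟨S', f, hf, hs, ⟨hs.choose⟩, hR⟩)
  refine RedCover147.isIso_of_cover hc fun j => ?_
  obtain ⟨⟨t⟩, ⟨R⟩⟩ := hR j
  have hfj := hf j
  refine isIso_of_zero R.D R.dyn fun a => ?_
  let R' := RhoBc.bc R (Red.geomPt t)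
  have hr : Red.IsMaximalTorus ((Over.pullback (Red.geomPt t ≫ f j)).map r) :=
    AlgBc.isMaximalTorus_bc _ hQ
  have hR' : R'.chi = 1 := by
    have h5 := (hall _ R').map_eq
    rw [hχ1, CategoryTheory.Functor.map_one] at h5
    have h6 : IsIso (TorusAlgClosed.dsBcIso (Red.geomPt t ≫ f j) ℤ).inv.hom.hom :=
      (und (TorusAlgClosed.dsBcIso (Red.geomPt t ≫ f j) ℤ)).isIso_inv
    have h7 : IsMonHom (TorusAlgClosed.dsBcIso (Red.geomPt t ≫ f j) ℤ).inv.hom.hom :=
      (TorusAlgClosed.dsBcIso (Red.geomPt t ≫ f j) ℤ).inv.hom.isMonHom_hom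
    have h8 : (1 : Red.bc (Red.geomPt t ≫ f j) Q ⟶ Red.Gm _) ≫
        (TorusAlgClosed.dsBcIso (Red.geomPt t ≫ f j) ℤ).inv.hom.hom = 1 :=
      @MonObj.one_comp _ _ _ _ _ _ _ _ _ h7
    rw [← cancel_mono (TorusAlgClosed.dsBcIso (Red.geomPt t ≫ f j) ℤ).inv.hom.hom, ← h5]
    exact h8.symm
  exact nontrivial_K hG hP hl hZL hr R' hR' a

end K546.RhoMain
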