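import Groth.Agent.Par.K546.RhoGlue
import Groth.Agent.Sga3B.CentRep
import Groth.Agent.Sga3B.MaxTorBc505
import Groth.Agent.Sga3B.Par.CanSigns
import Groth.Agent.Sga3B.Parab.TorRank156
import Groth.Agent.Sga3.H795.MaxTorDim
import Groth.Agent.S3974

/-!
# The global character is non-trivial
-/

set_option autoImplicit false

universe u

open CategoryTheory MonoidalCategory CartesianMonoidalCategory MonObj GrpObj AlgebraicGeometry Limits
open Groth.Agent
open Groth.Agent.Sga3B Groth.Agent.Sga3B.Par Groth.Agent.Sga3B.Parab Groth.Agent.Sga3B.RedIso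
open K546.Rho K546.RhoBc K546.RhoRig K546.RhoUniq K546.RhoGlue

namespace K546.RhoNon

section Num

variable {M : Type} [AddCommGroup M]

/-- A non-zero linear form is a multiple of a surjective one. -/
lemma exists_primitive (x : Module.Dual ℤ M) (hx : x ≠ 0) :
    ∃ (n : ℤ) (x' : Module.Dual ℤ M), 0 < n ∧ (∀ m, x m = n * x' m) ∧ Function.Surjective x' := by
  obtain ⟨g, hg⟩ := (inferInstance : (LinearMap.range x).IsPrincipal)
  have hg0 : g ≠ 0 := by
    rintro rfl
    apply hx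
    ext m
    have h1 : x m ∈ LinearMap.range x := ⟨m, rfl⟩
    rw [hg] at h1
    simpa using h1
  obtain ⟨n, hn⟩ : ∃ n : ℤ, n = |g| := ⟨_, rfl⟩
  have hd : ∀ m, n ∣ x m := by
    intro m
    have h1 : x m ∈ LinearMap.range x := ⟨m, rfl⟩
    rw [hg] at h1
    obtain ⟨k, hk⟩ := Submodule.mem_span_singleton.1 h1
    rw [hn, abs_dvd]
    exact ⟨k, by rw [← hk, smul_eq_mul, mul_comm]⟩
  have hpos : 0 < n := hn ▸ abs_pos.2 hg0
  let x' : Module.Dual ℤ M :=
    { toFun := fun m => x m / n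
      map_add' := fun a b => by rw [map_add, Int.add_ediv_of_dvd_left (hd a)]
      map_smul' := fun k a => by
        rw [map_smul, smul_eq_mul, Int.mul_ediv_assoc _ (hd a)]
        rfl }
  refine ⟨n, x', hpos, fun m => (Int.mul_ediv_cancel' (hd m)).symm, fun k => ?_⟩
  have h1 : n * k ∈ LinearMap.range x := by
    rw [hg]
    refine Submodule.mem_span_singleton.2 ?_
    rcases abs_choice g with h | h
    · exact ⟨k, by rw [hn, h, smul_eq_mul, mul_comm]⟩
    · exact ⟨-k, by rw [hn, h, smul_eq_mul]; ring⟩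
  obtain ⟨m, hm⟩ := h1
  refine ⟨m, ?_⟩
  change x m / n = k
  rw [hm, Int.mul_ediv_cancel_left _ hpos.ne']

end Num

/-- `D(φ)` is a monomorphism for surjective `φ`. -/
lemma mono_DSmap (S : Scheme.{u}) {M N : Type} [AddCommGroup M] [AddCommGroup N] (φ : M →+ N)
    (h : Function.Surjective φ) : Mono (Red.DSmap S φ) := by
  refine ⟨fun {X} a b hab => ?_⟩
  have h1 := congrArg DSPts.dsChar hab
  rw [DSPts.dsChar_DSmap, DSPts.dsChar_DSmap] at h1
  rw [← DSPts.dsEquiv_dsChar a, ← DSPts.dsEquiv_dsChar b]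
  congr 1
  refine MonoidHom.ext fun n => ?_
  obtain ⟨m, hm⟩ := h (Multiplicative.toAdd n)
  have h2 := congrArg (fun z => z (Multiplicative.ofAdd m)) h1
  change DSPts.dsChar a (Multiplicative.ofAdd (φ m)) = DSPts.dsChar b (Multiplicative.ofAdd (φ m)) at h2
  rw [hm] at h2
  exact h2

section centre

variable {S : Scheme.{u}} {L ZL : Over S} [GrpObj L] [GrpObj ZL]

/-- The centre of a reductive group is a closed subgroup. -/
lemma isClosedImmersion_centre (hL : Red.IsReductive L) {jz : ZL ⟶ L} (h : Red.IsCentre jz) :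
    IsClosedImmersion jz.left := by
  have h1 : IsAffineHom L.hom := hL.1
  have h2 : Smooth L.hom := hL.2.1
  have h3 : GeometricallyIrreducible L.hom := MaxTorBc505.geometricallyIrreducible hL
  obtain ⟨Z, _, z, hz, hc, -⟩ := CentRep.exists_centralizer (𝟙 L)
  have h4 := h.2.1
  have h5 := hc.2.1
  obtain ⟨a, ha⟩ := (hc.2.2 ZL jz).2 ((h.2.2 ZL jz).1 ⟨𝟙 _, Category.id_comp _⟩)
  obtain ⟨b, hb⟩ := (h.2.2 Z z).2 ((hc.2.2 Z z).1 ⟨𝟙 _, Category.id_comp _⟩)
  obtain ⟨e, h6⟩ : ∃ e : ZL ≅ Z, jz = e.hom ≫ z :=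
    ⟨⟨a, b, by rw [← cancel_mono jz, Category.assoc, hb, ha, Category.id_comp],
      by rw [← cancel_mono z, Category.assoc, ha, hb, Category.id_comp]⟩, ha.symm⟩
  have h8 : IsIso e.hom := e.isIso_hom
  have h7 : IsIso e.hom.left := (Over.forget S).map_isIso e.hom
  rw [h6, Over.comp_left]
  infer_instance

end centre

variable {S T : Scheme.{u}} {G P L Q ZL : Over S} [GrpObj G] [GrpObj P] [GrpObj L] [GrpObj Q]
  [GrpObj ZL] {p : P ⟶ G} {l : L ⟶ P} {q : Q ⟶ G} {c : T ⟶ S}

/-- The cocharacter centralizes `L`. -/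
theorem centralize (hG : Red.IsReductive G) (hP : Red.IsParabolic p) (hl : Par.IsLevi l)
    (R : RD c p (l ≫ p) q) {X : Over T} (z : X ⟶ Red.bc c L) (t : X ⟶ Red.Gm T) :
    (z ≫ (Over.pullback c).map (l ≫ p)) * (t ≫ coch R.D R.x) =
      (t ≫ coch R.D R.x) * (z ≫ (Over.pullback c).map (l ≫ p)) := by
  have hG' := RedBcAny636.isReductive_bc c hG
  have hP' := RedSub.H648.BorBc.isParabolic_bc c hG hP
  have hl' := K545.BC.isLevi_bc hG hP hl c
  have hGa : IsAffineHom (Red.bc c G).hom := hG'.1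
  have hpm : IsMonHom ((Over.pullback c).map p) := hP'.1
  have hpM : Mono ((Over.pullback c).map p) := OppRow172.mono_of_closed _ hP'.2.1
  obtain ⟨U, Z, _, _, u, y, hud, hzd, -, hu, hy⟩ := Sga3B.Par.LeviOfDyn383.exists_all
    DynGeom678.dynGeomU Uncond688.dynK1 K3b143.dynK3 hG' (coch R.D R.x) _ R.dyn
  have hjP : R.jL ≫ (Over.pullback c).map l = R.jP := by
    rw [← cancel_mono ((Over.pullback c).map p), R.hjP, Category.assoc,
      ← CategoryTheory.Functor.map_comp, R.hjL]
  have hjm : IsMonHom (R.jP ≫ (Over.pullback c).map p) := by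
    rw [R.hjP]
    exact R.D.maximalTorus.1
  have hjPm : IsMonHom R.jP := OppS172.isMonHom_of_comp _ _ hjm
  have htZ : PtZ (coch R.D R.x) (R.jP ≫ (Over.pullback c).map p) := by
    rw [DynExist998.ptZ_iff_centralizes]
    intro X' y h
    have h3 := ((TorClosed636.isCentralizerOf_self hG' R.D.maximalTorus).2.2 _ R.D.i).1
      ⟨𝟙 _, Category.id_comp _⟩ X' y (h ≫ cochT R.D R.x)
    rw [R.hjP]
    rw [Category.assoc] at h3
    exact h3
  obtain ⟨τ, hτ⟩ := (hzd.iff_ptZ _ _).2 htZ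
  have hτ' : τ ≫ y = R.jP := by
    rw [← cancel_mono ((Over.pullback c).map p), Category.assoc, hτ]
  obtain ⟨L₀, _, l₀, tl, hl₀, htl, -, huniq⟩ := S3974.result hG' _ hP' R.jP
    (by rw [R.hjP]; exact R.D.maximalTorus)
  obtain ⟨e₁, he₁⟩ := huniq _ _ R.jL hl' hjP
  obtain ⟨e₂, he₂⟩ := huniq _ _ τ hy hτ'
  have h5 : z ≫ (Over.pullback c).map (l ≫ p) =
      (z ≫ e₁.hom ≫ e₂.inv) ≫ y ≫ (Over.pullback c).map p := by
    rw [CategoryTheory.Functor.map_comp, ← he₁, ← he₂]
    simp only [Category.assoc, Iso.inv_hom_id_assoc]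
  have h6 := (DynExist998.ptZ_iff_centralizes (y ≫ (Over.pullback c).map p)).1
    ((hzd.iff_ptZ _ _).1 ⟨𝟙 _, Category.id_comp _⟩) X (z ≫ e₁.hom ≫ e₂.inv) t
  rw [h5]
  exact h6

/-- **Non-triviality over an algebraically closed field.** -/
theorem nontrivial_K {K : Type u} [Field K] [IsAlgClosed K] {c : Spec (CommRingCat.of K) ⟶ S}
    (hG : Red.IsReductive G) (hP : Red.IsParabolic p) (hl : Par.IsLevi l) {jz : ZL ⟶ L}
    (hZL : Red.IsCentre jz) {r : Q ⟶ ZL} (hr : Red.IsMaximalTorus ((Over.pullback c).map r))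
    (R : RD c p (l ≫ p) (r ≫ jz ≫ l ≫ p)) (h1 : R.chi = 1) (a : R.D.idx) :
    ¬ 0 < R.x (R.D.P.root a) := by
  intro ha
  have hx0 : R.x ≠ 0 := by
    intro h
    rw [h] at ha
    simp at ha
  obtain ⟨n, x', hn, hx, hsurj⟩ := exists_primitive R.x hx0
  have hpos : ∀ b, 0 ≤ R.x (R.D.P.root b) ↔ 0 ≤ x' (R.D.P.root b) := by
    intro b
    rw [hx]
    exact mul_nonneg_iff_of_pos_left hn
  have hpos' := pos_iff_of_nonneg_iff R.D hpos
  let R' : RD c p (l ≫ p) (r ≫ jz ≫ l ≫ p) :=
    { D := R.D, x := x', jP := R.jP, hjP := R.hjP, jL := R.jL, hjL := R.hjL, k := R.k, hk := R.hk,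
      dyn := isDynP_of_signs hpos R.dyn }
  have hR' : R'.chi = 1 := by
    rw [← h1]
    change R.k ≫ R.D.split.hom.hom.hom ≫ Red.chi _ (rho R.D.P x') =
      R.k ≫ R.D.split.hom.hom.hom ≫ Red.chi _ (rho R.D.P R.x)
    rw [rho_congr hpos']
  have hL : Red.IsReductive L := hl.2.2.1
  have hL' := RedBcAny636.isReductive_bc c hL
  have hLa : IsAffineHom (Red.bc c L).hom := hL'.1
  have hLs : Smooth (Red.bc c L).hom := hL'.2.1
  have hzc : IsClosedImmersion ((Over.pullback c).map jz).left :=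
    isClosedImmersion_centre hL' (by
      have h2 := SplitBc264.isCentralizerOf_bc c hZL
      rw [CategoryTheory.Functor.map_id] at h2
      exact h2)
  have hZa : IsAffine (Red.bc c ZL).left := by
    have h2 : IsAffine (Red.bc c L).left := MaxTorusCrit.isAffine_left_of_isAffineHom _
    exact isAffine_of_isAffineHom ((Over.pullback c).map jz).left
  have hZt : LocallyOfFiniteType (Red.bc c ZL).hom := by
    rw [← Over.w ((Over.pullback c).map jz)]
    infer_instance
  have hlp : IsMonHom (l ≫ p) := by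
    have := hl.1
    have := hP.1
    infer_instance
  have hpM : Mono p := OppRow172.mono_of_closed p hP.2.1
  have hlM : Mono l := hl.2.1
  have hmM : Mono ((Over.pullback c).map (l ≫ p)) := inferInstance
  have hjzM : Mono jz := hZL.2.1
  have hjzm : IsMonHom jz := hZL.1
  have hzm : Mono ((Over.pullback c).map jz) := inferInstance
  have hzL := SplitBc264.isCentralizerOf_bc c hZL
  rw [CategoryTheory.Functor.map_id] at hzL
  -- the cocharacter
  let c₀ : Red.Gm (Spec (CommRingCat.of K)) ⟶ R.D.T := cochT R.D x'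
  let lam : Red.Gm (Spec (CommRingCat.of K)) ⟶ Red.bc c L := c₀ ≫ R.jL
  have hlam : lam ≫ (Over.pullback c).map (l ≫ p) = coch R.D x' := by
    rw [Category.assoc, R.hjL]
    rfl
  obtain ⟨y, hy⟩ := (hzL.2.2 _ lam).2 (fun X' x h => by
    rw [Category.comp_id, ← cancel_mono ((Over.pullback c).map (l ≫ p)), MonObj.mul_comp,
      MonObj.mul_comp, Category.assoc, hlam]
    exact (centralize hG hP hl R' h x).symm)
  have hlamm : IsMonHom lam := by
    have h2 : IsMonHom (lam ≫ (Over.pullback c).map (l ≫ p)) := by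
      rw [hlam]
      infer_instance
    exact OppS172.isMonHom_of_comp _ _ h2
  have hym : IsMonHom y := OppS172.isMonHom_of_comp y ((Over.pullback c).map jz) (by
    rw [hy]
    exact hlamm)
  have hc₀ : Mono c₀ := by
    have h2 : Mono (Red.DSmap (Spec (CommRingCat.of K)) x'.toAddMonoidHom) :=
      mono_DSmap _ _ hsurj
    have h3 : IsIso R.D.split.inv.hom.hom := (und R.D.split).isIso_inv
    change Mono (Red.DSmap _ x'.toAddMonoidHom ≫ R.D.split.inv.hom.hom)
    infer_instance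
  have hyM : Mono y := by
    have hi : Mono R.D.i := R.D.maximalTorus.2.1
    have h2 : Mono (y ≫ (Over.pullback c).map jz ≫ (Over.pullback c).map (l ≫ p)) := by
      rw [← Category.assoc, hy, hlam]
      change Mono (c₀ ≫ R.D.i)
      infer_instance
    exact mono_of_mono y ((Over.pullback c).map jz ≫ (Over.pullback c).map (l ≫ p))
  obtain ⟨g₀, f, hf⟩ := Groth.Agent.Sga3.H795.MaxTorDim.exists_factor_conj (Red.bc c ZL)
    ((Over.pullback c).map r) hr y (BorSpan613.isTorus_Gm _)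
  have hcom : ∀ {X : Over (Spec (CommRingCat.of K))} (a b : X ⟶ Red.bc c ZL), a * b = b * a := by
    intro X a b
    rw [← cancel_mono ((Over.pullback c).map jz), MonObj.mul_comp, MonObj.mul_comp]
    have h2 := (hzL.2.2 _ (a ≫ (Over.pullback c).map jz)).1 ⟨a, rfl⟩ X (𝟙 _)
      (b ≫ (Over.pullback c).map jz)
    rwa [Category.id_comp, Category.comp_id] at h2
  have hf' : f ≫ (Over.pullback c).map r = y := by
    rw [← hf, RG.BrHc.conjHom, hcom (toUnit _ ≫ g₀), _root_.mul_assoc, mul_inv_cancel,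
      _root_.mul_one]
  have hfk : f ≫ R.k = c₀ := by
    have hi : Mono R.D.i := R.D.maximalTorus.2.1
    rw [← cancel_mono R.D.i, Category.assoc, R.hk, CategoryTheory.Functor.map_comp,
      CategoryTheory.Functor.map_comp, ← Category.assoc, hf', ← Category.assoc, hy, hlam]
    rfl
  have h5 : Red.chi (Spec (CommRingCat.of K)) (x' (rho R.D.P x')) = 1 := by
    have h6 : f ≫ R'.chi = Red.chi _ (x' (rho R.D.P x')) := by
      change f ≫ R.k ≫ R.D.split.hom.hom.hom ≫ Red.chi _ (rho R.D.P x') = _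
      rw [← Category.assoc, hfk, ← Category.assoc, cochT_split, PinTransport.DSmap_chi]
      rfl
    rw [← h6, hR', MonObj.comp_one]
  have h6 : Red.DSmap (Spec (CommRingCat.of K)) (0 : ℤ →+ ℤ) = 1 := by
    rw [← DSPts.dsEquiv_dsChar (Red.DSmap (Spec (CommRingCat.of K)) (0 : ℤ →+ ℤ)),
      ← DSPts.dsEquiv_dsChar (1 : Red.Gm (Spec (CommRingCat.of K)) ⟶ Red.Gm _), dsChar_DSmap']
    congr 1
    rw [BorSpan613.dsChar_one]
    refine MonoidHom.ext fun z => ?_
    exact (DSPts.dsChar (𝟙 (Red.DS (Spec (CommRingCat.of K)) ℤ))).map_one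
  have h7 := Parab.TorRank156.DSmap_injective (h5.trans h6.symm)
  have h8 := congrArg (fun g => g 1) h7
  have h9 : x' (rho R.D.P x') = 0 := by simpa using h8
  have h10 := apply_rho_pos (P := R.D.P) ((hpos' a).1 ha)
  omega

end K546.RhoNon
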