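import Groth.Agent.Par.K546.Rho
import Groth.Agent.Sga3B.TorusEtSplit
import Groth.Agent.Sga3B.Par.EtGlue
import Groth.Agent.Sga3B.Par.CanMain
import Groth.Agent.Sga3B.ResAlg
import Groth.Agent.Sga3B.BorSpan613

/-!
# Characters of tori which agree on geometric points are equal
-/

set_option autoImplicit false

universe u

open CategoryTheory MonoidalCategory CartesianMonoidalCategory MonObj GrpObj AlgebraicGeometry Limits
open Groth.Agent
open Groth.Agent.Sga3B Groth.Agent.Sga3B.Par Groth.Agent.Sga3B.Parab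

namespace K546.RhoRig

variable {S : Scheme.{u}} {Q : Over S} [GrpObj Q]

/-- Agreement on the geometric points. -/
def AgreeGeom {H : Over S} (a b : Q ⟶ H) : Prop :=
  ∀ (s : S) (B : Type u) [CommRing B] (c : Spec (CommRingCat.of B) ⟶ S)
    (_ : aff B c ⟶ aff _ (Red.geomPt s)) (y : aff B c ⟶ Q), y ≫ a = y ≫ b

lemma bc_eq_of_agreeGeom {H : Over S} {a b : Q ⟶ H} (h : AgreeGeom a b) {T : Scheme.{u}} (f : T ⟶ S)
    [Etale f] (t : T) : (Over.pullback (Red.geomPt t)).map ((Over.pullback f).map a) =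
      (Over.pullback (Red.geomPt t)).map ((Over.pullback f).map b) := by
  obtain ⟨θ, hθ, hh⟩ := ResAlg.exists_iso_geomPt f t
  refine pullback_map_eq _ _ _ fun B _ r y => ?_
  apply (BcPts.bcEquiv f _ H).symm.injective
  rw [BcPts.bcEquiv_symm_comp, BcPts.bcEquiv_symm_comp]
  let r' : aff B ((r ≫ Red.geomPt t) ≫ f) ⟶ aff _ (Red.geomPt (f t)) :=
    Over.homMk (r ≫ θ) (by
      change (r ≫ θ) ≫ Red.geomPt (f t) = (r ≫ Red.geomPt t) ≫ f
      exact (Category.assoc _ _ _).trans ((congrArg (fun z => r ≫ z) hh).trans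
        (Category.assoc _ _ _).symm))
  exact h (f t) B _ r' ((BcPts.bcEquiv f _ Q).symm y)

/-- **Rigidity.** -/
theorem eq_of_agreeGeom (hQ : Red.IsTorus Q) (a b : Q ⟶ Red.Gm S) [IsMonHom a] [IsMonHom b]
    (h : AgreeGeom a b) : a = b := by
  choose B hB v r hv hs he using TorusEtSplit.exists_etale_split Q hQ
  have key : ∀ s, (Over.pullback (v s)).map a = (Over.pullback (v s)).map b := by
    intro s
    obtain ⟨e⟩ := he s
    have hv' := hv s
    let d : (Q ⟶ Red.Gm S) → (Red.DS (Spec (CommRingCat.of (B s))) (Fin (r s) → ℤ) ⟶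
        Red.bc (v s) (Red.Gm S)) := fun a => e.inv.hom.hom ≫ (Over.pullback (v s)).map a
    have hG0 : IsAffineHom (Red.Gm S).hom :=
      TorusAlgClosed.isAffineHom_of_isTorus (BorSpan613.isTorus_Gm S)
    have hS0 : Smooth (Red.Gm S).hom :=
      TorusAlgClosed.smooth_of_isTorus (BorSpan613.isTorus_Gm S)
    have hG : IsAffineHom (Red.bc (v s) (Red.Gm S)).hom :=
      MorphismProperty.pullback_snd (P := @IsAffineHom) _ _ inferInstance
    have hL : LocallyOfFiniteType (Red.bc (v s) (Red.Gm S)).hom :=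
      MorphismProperty.pullback_snd (P := @LocallyOfFiniteType) _ _ inferInstance
    have h1 : d a = d b := by
      apply CanRig.eq_of_geomFibres
      · intro X x y
        have h2 : ∀ (x y : X ⟶ Red.bc (v s) (Red.Gm S)), x * y = y * x := by
          intro x y
          apply (BcPts.bcMulEquiv (v s) _ (Red.Gm S)).symm.injective
          rw [map_mul, map_mul]
          exact CanRig.ds_mul_comm _ _
        exact h2 _ _
      · intro t
        rw [CategoryTheory.Functor.map_comp, CategoryTheory.Functor.map_comp,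
          bc_eq_of_agreeGeom h (v s) t]
    have h3 : IsIso e.inv.hom.hom := (RedIso.und e).isIso_inv
    exact (cancel_epi e.inv.hom.hom).1 h1
  ext1
  refine EtGlue.hom_ext (fun s : S => pullback.fst Q.hom (v s)) ?_ ?_
  · intro x
    obtain ⟨y, hy⟩ := hs (Q.hom x)
    obtain ⟨z, hz, -⟩ := Scheme.Pullback.exists_preimage_pullback (f := Q.hom) (g := v (Q.hom x))
      x y hy.symm
    exact ⟨Q.hom x, z, hz⟩
  · intro s
    have h1 := congrArg (fun z => z.left ≫ pullback.fst (Red.Gm S).hom (v s)) (key s)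
    have h2 : ∀ a : Q ⟶ Red.Gm S, ((Over.pullback (v s)).map a).left ≫
        pullback.fst (Red.Gm S).hom (v s) = pullback.fst Q.hom (v s) ≫ a.left :=
      fun a => pullback.lift_fst _ _ _
    rw [h2 a, h2 b] at h1
    exact h1

end K546.RhoRig
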