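import Groth.Agent.Par.K546.RhoBc
import Groth.Agent.Par.K546.RhoRig

/-!
# Uniqueness of the sum of the roots of the unipotent radical
-/

set_option autoImplicit false

universe u

open CategoryTheory MonoidalCategory CartesianMonoidalCategory MonObj GrpObj AlgebraicGeometry Limits
open Groth.Agent
open Groth.Agent.Sga3B Groth.Agent.Sga3B.Par Groth.Agent.Sga3B.Parab Groth.Agent.Sga3B.RedIso
open K546.Rho K546.RhoBc K546.RhoRig

namespace K546.RhoUniq

variable {S T T' X : Scheme.{u}} {G P L Q : Over S} [GrpObj G] [GrpObj P] [GrpObj L] [GrpObj Q]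
  {c : T ⟶ S} {c' : T' ⟶ S} {p : P ⟶ G} {l : L ⟶ P} {q : Q ⟶ G}

lemma isMonHom_k {m : L ⟶ G} (R : RD c p m q) [IsMonHom q] : IsMonHom R.k := by
  have h1 : IsMonHom (R.k ≫ R.D.i) := by
    rw [R.hk]
    infer_instance
  have h2 : Mono R.D.i := R.D.maximalTorus.2.1
  exact isMonHom_of_comp_mono' (p := R.D.i) rfl

lemma isMonHom_chi {m : L ⟶ G} (R : RD c p m q) [IsMonHom q] : IsMonHom R.chi := by
  have h1 := isMonHom_k R
  have h2 : IsMonHom R.D.split.hom.hom.hom := R.D.split.hom.hom.isMonHom_hom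
  have h3 : IsMonHom (Red.chi T (rho R.D.P R.x)) := isMonHom_DSmap _
  unfold RD.chi
  infer_instance

/-- **Uniqueness.** -/
theorem chi_unique (hQ : Red.IsTorus Q) [IsMonHom q] [IsMonHom (l ≫ p)]
    [IsClosedImmersion (l ≫ p).left]
    (hcomm : ∀ (X : Over S) (z : X ⟶ L) (y : X ⟶ Q),
      (z ≫ l ≫ p) * (y ≫ q) = (y ≫ q) * (z ≫ l ≫ p))
    (R₁ R₂ : RD c p (l ≫ p) q) : R₁.chi = R₂.chi := by
  have := isMonHom_chi R₁
  have := isMonHom_chi R₂
  have hcl : IsClosedImmersion ((Over.pullback c).map (l ≫ p)).left :=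
    Inter.isClosedImmersion_bc c (l ≫ p) inferInstance
  refine eq_of_agreeGeom (TorusBc.isTorus_bc c hQ) _ _ fun s B _ b r y => ?_
  obtain ⟨g, e, h⟩ := exists_torConj_geom R₁.D R₂.D R₁.hjL R₂.hjL s
  refine chi_eq_pts R₁ R₂ hcomm g h ?_ b r y
  apply pos_iff_of_nonneg_iff R₂.D
  refine nonneg_iff R₁.dyn R₂.dyn (g ≫ (Over.pullback c).map l) ?_
  rw [Category.assoc, ← CategoryTheory.Functor.map_comp]
  exact h

lemma exists_bc' {m : L ⟶ G} (R : RD c p m q) (t : X ⟶ T) (d : X ⟶ S) (h : t ≫ c = d) :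
    ∃ (R' : RD d p m q) (π : (Red.bc d Q).left ⟶ (Red.bc c Q).left),
      π ≫ pullback.fst Q.hom c = pullback.fst Q.hom d ∧
      π ≫ pullback.snd Q.hom c = pullback.snd Q.hom d ≫ t ∧ absM R' = π ≫ absM R := by
  subst h
  exact ⟨bc R t, pr c t Q, pr_fst t, pr_snd t, absM_bc R t⟩

/-- **Agreement on overlaps.** -/
theorem abs_agree (hQ : Red.IsTorus Q) [IsMonHom q] [IsMonHom (l ≫ p)]
    [IsClosedImmersion (l ≫ p).left]
    (hcomm : ∀ (X : Over S) (z : X ⟶ L) (y : X ⟶ Q),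
      (z ≫ l ≫ p) * (y ≫ q) = (y ≫ q) * (z ≫ l ≫ p))
    (R₁ : RD c p (l ≫ p) q) (R₂ : RD c' p (l ≫ p) q) (a : X ⟶ (Red.bc c Q).left)
    (b : X ⟶ (Red.bc c' Q).left) (hab : a ≫ pullback.fst Q.hom c = b ≫ pullback.fst Q.hom c') :
    a ≫ absM R₁ = b ≫ absM R₂ := by
  have e1 : (a ≫ pullback.snd Q.hom c) ≫ c = (a ≫ pullback.fst Q.hom c) ≫ Q.hom := by
    rw [Category.assoc, Category.assoc, pullback.condition]
  have e2 : (b ≫ pullback.snd Q.hom c') ≫ c' = (a ≫ pullback.fst Q.hom c) ≫ Q.hom := by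
    rw [hab, Category.assoc, Category.assoc, pullback.condition]
  obtain ⟨R₁', π₁, h1, h2, h3⟩ := exists_bc' R₁ _ _ e1
  obtain ⟨R₂', π₂, h4, h5, h6⟩ := exists_bc' R₂ _ _ e2
  have h7 : absM R₁' = absM R₂' := by
    rw [absM, absM, chi_unique hQ hcomm R₁' R₂']
  let σ : X ⟶ (Red.bc ((a ≫ pullback.fst Q.hom c) ≫ Q.hom) Q).left :=
    pullback.lift (a ≫ pullback.fst Q.hom c) (𝟙 X) (by rw [Category.id_comp])
  have e3 : σ ≫ pullback.fst Q.hom ((a ≫ pullback.fst Q.hom c) ≫ Q.hom) =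
      a ≫ pullback.fst Q.hom c := pullback.lift_fst _ _ _
  have e4 : σ ≫ pullback.snd Q.hom ((a ≫ pullback.fst Q.hom c) ≫ Q.hom) = 𝟙 X :=
    pullback.lift_snd _ _ _
  have e5 : a = σ ≫ π₁ := by
    apply pullback.hom_ext
    · rw [Category.assoc, h1, e3]
    · rw [Category.assoc, h2, ← Category.assoc, e4, Category.id_comp]
  have e6 : b = σ ≫ π₂ := by
    apply pullback.hom_ext
    · rw [Category.assoc, h4, e3, hab]
    · rw [Category.assoc, h5, ← Category.assoc, e4, Category.id_comp]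
  calc a ≫ absM R₁ = (σ ≫ π₁) ≫ absM R₁ := congrArg (fun z => z ≫ absM R₁) e5
    _ = σ ≫ absM R₂' := (Category.assoc _ _ _).trans
        (congrArg (fun z => σ ≫ z) (h3.symm.trans h7))
    _ = (σ ≫ π₂) ≫ absM R₂ := (congrArg (fun z => σ ≫ z) h6).trans (Category.assoc _ _ _).symm
    _ = b ≫ absM R₂ := congrArg (fun z => z ≫ absM R₂) e6.symm

end K546.RhoUniq
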