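import Groth.Agent.Par.K546.StdPos
import Groth.Agent.Par.K546.EtTorSm

/-!
# Standard position is Zariski local

If `K = P ∩ Q` contains a maximal torus étale-locally then it does so Zariski-locally.
-/

set_option autoImplicit false

universe u

open CategoryTheory MonoidalCategory CartesianMonoidalCategory MonObj GrpObj AlgebraicGeometry Limits
open Groth.Agent
open Groth.Agent.Sga3B Groth.Agent.Sga3B.Parab Groth.Agent.Sga3B.Parab.ConjPt
open K546.HasTor K546.CoreInter K546.LocPQ K546.StdPos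

namespace K546.StdNhd

variable {S S' : Scheme.{u}} {G P Q K U P' : Over S} [GrpObj G]

/-- Base change of the decomposition. -/
theorem dec_bc (f : S' ⟶ S) {uu : U ⟶ G} {k : K ⟶ G} {p' : P' ⟶ G} (h : Dec uu k p') :
    Dec ((Over.pullback f).map uu) ((Over.pullback f).map k) ((Over.pullback f).map p') := by
  intro X g x
  obtain ⟨g, rfl⟩ : ∃ g' : (Over.map f).obj X ⟶ P', (Over.mapPullbackAdj f).homEquiv X P' g' = g :=
    ⟨_, ((Over.mapPullbackAdj f).homEquiv X P').apply_symm_apply g⟩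
  obtain ⟨V, w, h1, h2, h3, a, b, hab⟩ := h ((Over.map f).obj X) g x
  let w' : V ⟶ X.left := w
  let W : Over S' := Over.mk (w' ≫ X.hom)
  let c : (Over.map f).obj W ⟶ Over.mk (w ≫ ((Over.map f).obj X).hom) := Over.homMk (𝟙 V) (by
    change 𝟙 V ≫ w ≫ X.hom ≫ f = (w ≫ X.hom) ≫ f
    rw [Category.id_comp, Category.assoc])
  refine ⟨V, w', h1, h2, h3, (Over.mapPullbackAdj f).homEquiv W U (c ≫ a),
    (Over.mapPullbackAdj f).homEquiv W K (c ≫ b), ?_⟩
  have e1 : ∀ {Y : Over S'} {Z : Over S} (z : (Over.map f).obj Y ⟶ Z) (ζ : Z ⟶ G),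
      (Over.mapPullbackAdj f).homEquiv Y Z z ≫ (Over.pullback f).map ζ =
        DSPts.bcEquiv f Y G (z ≫ ζ) := fun z ζ =>
    ((Over.mapPullbackAdj f).homEquiv_naturality_right z ζ).symm
  have e2 : (Over.homMk w' : W ⟶ X) ≫ (Over.mapPullbackAdj f).homEquiv X P' g ≫
      (Over.pullback f).map p' =
      DSPts.bcEquiv f W G ((Over.map f).map (Over.homMk w' : W ⟶ X) ≫ g ≫ p') := by
    rw [e1]
    exact ((Over.mapPullbackAdj f).homEquiv_naturality_left (Over.homMk w' : W ⟶ X) (g ≫ p')).symm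
  rw [e2, e1, e1]
  refine Eq.trans ?_ (map_mul (DSPts.bcEquiv f W G) _ _)
  congr 1

variable [GrpObj P] [GrpObj Q] [GrpObj K] {p : P ⟶ G} {q : Q ⟶ G} {m : K ⟶ P} {m' : K ⟶ Q}

/-- From open immersions of affine schemes to open subschemes. -/
theorem exists_opens (hG : Red.IsReductive G) {k : K ⟶ G} {R : Scheme.{u}} (j : R ⟶ S)
    [IsOpenImmersion j] (h : HasTor k j) {s : S} (hs : s ∈ Set.range j) :
    ∃ U : S.Opens, s ∈ U ∧ HasTor k U.ι := by
  refine ⟨j.opensRange, hs, ?_⟩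
  have h1 := h.comp hG j.isoOpensRange.inv
  have h2 : j.isoOpensRange.inv ≫ j = j.opensRange.ι := by
    rw [Iso.inv_comp_eq, Scheme.Hom.isoOpensRange_hom_ι]
  rwa [h2] at h1

/-- The affine case. -/
theorem exists_nhd_affine {A : Type u} [CommRing A]
    {G P Q K : Over (Spec (CommRingCat.of A))} [GrpObj G] [GrpObj P] [GrpObj Q] [GrpObj K]
    (hG : Red.IsReductive G) {p : P ⟶ G} {q : Q ⟶ G} (hP : Red.IsParabolic p)
    (hQ : Red.IsParabolic q) {m : K ⟶ P} {m' : K ⟶ Q} (hm : IsMonHom m)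
    (hK : IsPullback m m' p q) (h : EtTor (m ≫ p)) (s : Spec (CommRingCat.of A)) :
    ∃ (R : Type u) (_ : CommRing R) (j : Spec (CommRingCat.of R) ⟶ Spec (CommRingCat.of A)),
      IsOpenImmersion j ∧ s ∈ Set.range j ∧ HasTor (m ≫ p) j := by
  have hpm : IsMonHom p := hP.1
  obtain ⟨U, _, uU, hU⟩ := K546.Opp.exists_rad hG hP
  obtain ⟨P', _, p', j, b, hP', hj, hb, hdec⟩ := exists_P' hG hP hQ hK hU
    (locForm_of_etTor hG hP hQ hK h)
  have hp'm : IsMonHom p' := hP'.1
  obtain ⟨L, _, l, hl⟩ := S2997.result G P' hG p' hP'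
  have hlm := hl.1
  obtain ⟨V, hsV, T, _, i, hi⟩ := S4123.result _ L hl.2.2.1 s
  have h1 : HasTor p' V.ι := by
    have h2 := Sga3B.MT.Levi.isMaximalTorus_comp_levi (RedBcAny636.isReductive_bc V.ι hG) _
      (RedSub.H648.BorBc.isParabolic_bc V.ι hG hP') _
      (LeviDesc147.isLevi_bc K546.Opp.pcU Uncond688.radPcP hG hP' hl V.ι) i hi
    refine HasTor.trans (l := l) ⟨T, inferInstance, i, hi.1, ?_⟩
    rw [CategoryTheory.Functor.map_comp]
    exact h2
  obtain ⟨R, _, j₂, hj₂, x, hx⟩ := exists_affine_nhd (S := (V : Scheme.{u})) ⟨s, hsV⟩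
  let f : Spec (CommRingCat.of R) ⟶ Spec (CommRingCat.of A) := j₂ ≫ V.ι
  have hf : IsOpenImmersion f := inferInstance
  have hfs : s ∈ Set.range f := by
    refine ⟨x, ?_⟩
    change (j₂ ≫ V.ι) x = s
    rw [Scheme.Hom.comp_apply, hx]
    rfl
  obtain ⟨T₀, _, t₀, ht₀, hT₀⟩ : HasTor p' f := h1.comp hG j₂
  refine ⟨R, inferInstance, f, hf, hfs, ?_⟩
  have hEt := h.bc hG f
  rw [CategoryTheory.Functor.map_comp] at hEt
  obtain ⟨t', h3, h4⟩ := exists_torus_of_dec (RedBcAny636.isReductive_bc f hG)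
    (RedSub.H648.BorBc.isParabolic_bc f hG hP) (RedSub.H648.BorBc.isParabolic_bc f hG hQ)
    (m := (Over.pullback f).map m) inferInstance (hK.map (Over.pullback f))
    (LeviDesc147.isUnipotentRadical_bc K546.Opp.pcU Uncond688.radPcP hG hP hU f)
    (RedSub.H648.BorBc.isParabolic_bc f hG hP') (by
      rw [← CategoryTheory.Functor.map_comp, ← CategoryTheory.Functor.map_comp]
      exact dec_bc f hdec)
    ((Over.pullback f).map j) (by rw [← CategoryTheory.Functor.map_comp, hj])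
    ((Over.pullback f).map b) (by
      rw [← CategoryTheory.Functor.map_comp, ← CategoryTheory.Functor.map_comp, hb])
    t₀ hT₀ hEt
  rw [← CategoryTheory.Functor.map_comp] at h4
  exact ⟨T₀, inferInstance, t', h3, h4⟩

/-- **Standard position is Zariski local.** -/
theorem exists_nhd (hG : Red.IsReductive G) (hP : Red.IsParabolic p)
    (hQ : Red.IsParabolic q) (hm : IsMonHom m) (hK : IsPullback m m' p q) (h : EtTor (m ≫ p))
    (s : S) : ∃ U : S.Opens, s ∈ U ∧ HasTor (m ≫ p) U.ι := by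
  obtain ⟨A, _, j, hj, s₁, rfl⟩ := exists_affine_nhd s
  have hEt := h.bc hG j
  rw [CategoryTheory.Functor.map_comp] at hEt
  obtain ⟨R, _, j₂, hj₂, ⟨x, rfl⟩, h1⟩ := exists_nhd_affine (RedBcAny636.isReductive_bc j hG)
    (RedSub.H648.BorBc.isParabolic_bc j hG hP) (RedSub.H648.BorBc.isParabolic_bc j hG hQ)
    (m := (Over.pullback j).map m) inferInstance (hK.map (Over.pullback j)) hEt s₁
  rw [← CategoryTheory.Functor.map_comp, hasTor_bc_iff] at h1
  exact exists_opens hG (j₂ ≫ j) h1 ⟨x, Scheme.Hom.comp_apply _ _ _⟩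

end K546.StdNhd
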